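import Groth.Agent.SpQC86.Criterion
import Groth.Agent.SpPts86.QCMor
import Groth.Agent.SpPts86.Separation
import Mathlib.AlgebraicGeometry.Morphisms.QuasiSeparated

/-!
Direct images along quasi-compact quasi-separated representable morphisms preserve quasi-coherence.
-/

set_option autoImplicit false
set_option linter.style.haveILetI false
set_option backward.isDefEq.respectTransparency false

universe u

open CategoryTheory CategoryTheory.Limits AlgebraicGeometry Opposite
open AlgSp Groth.Agent.SpQC61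
open scoped TensorProduct

namespace Groth.Agent.SpQC86

variable {S : Scheme.{u}} {X Y : Sp S} {f : X ⟶ Y} (hf : Representable f)

/-- Functions on an object of the target on its base change. -/
noncomputable abbrev bcΓ (E : EtOver Y) : Γt E →+* Γt ((EtOver.bc hf).obj E) :=
  (hf.snd E.obj.hom).left.appTop.hom

theorem cmap_bcMap {E E' : EtOver Y} (g : E' ⟶ E) :
    (cmap (EtOver.bcMap hf g)).comp (bcΓ hf E) = (bcΓ hf E').comp (cmap g) := by
  have h := congrArg (fun k => k.appTop.hom) (EtOver.isPullback_bcMap_left hf g).w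
  simp only [Scheme.Hom.comp_appTop, CommRingCat.hom_comp] at h
  exact h

variable {E E' : EtOver Y} (g : E' ⟶ E) {V : EtOver X} (v : V ⟶ (EtOver.bc hf).obj E)

/-- The base change of an object over the preimage. -/
noncomputable abbrev pbV : EtOver X := EtOver.pullbackObj (EtOver.bcMap hf g) v

/-- Its projection to the new preimage. -/
noncomputable abbrev pbV₁ : pbV hf g v ⟶ (EtOver.bc hf).obj E' := EtOver.pullbackFst (EtOver.bcMap hf g) v

/-- Its projection to the object. -/
noncomputable abbrev pbV₂ : pbV hf g v ⟶ V := EtOver.pullbackSnd (EtOver.bcMap hf g) v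

theorem isPullback_pbV :
    IsPullback ((pbV₁ hf g v).hom.left.left ≫ (hf.snd E'.obj.hom).left) (pbV₂ hf g v).hom.left.left
      g.hom.left.left (v.hom.left.left ≫ (hf.snd E.obj.hom).left) :=
  (isPullback_left (EtOver.bcMap hf g) v).paste_horiz (EtOver.isPullback_bcMap_left hf g).flip

theorem aff_pbV [Aff E] [Aff E'] [Aff V] : Aff (pbV hf g v) := by
  haveI : IsAffineHom (v.hom.left.left ≫ (hf.snd E.obj.hom).left) := isAffineHom_of_isAffine _
  exact IsAffine.of_isPullback (isPullback_pbV hf g v)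

variable (F : ModEt X)

/-- Functions on the base, on an object over the preimage. -/
noncomputable abbrev ovΓ : Γt E →+* Γt V := (cmap v).comp (bcΓ hf E)

theorem res_pbV₂ (a : Γt E) (m : SectM F V) :
    resM F (pbV₂ hf g v) (ovΓ hf v a • m) = ovΓ hf (pbV₁ hf g v) (cmap g a) • resM F (pbV₂ hf g v) m := by
  rw [resM_smul]
  refine congrArg (· • resM F (pbV₂ hf g v) m) ?_
  show cmap (pbV₂ hf g v) (cmap v (bcΓ hf E a)) = cmap (pbV₁ hf g v) (bcΓ hf E' (cmap g a))
  refine Eq.trans ?_ (congrArg (cmap (pbV₁ hf g v)) (RingHom.congr_fun (cmap_bcMap hf g) a))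
  refine (RingHom.congr_fun (cmap_comp (pbV₂ hf g v) v) (bcΓ hf E a)).symm.trans ?_
  refine Eq.trans ?_ (RingHom.congr_fun (cmap_comp (pbV₁ hf g v) (EtOver.bcMap hf g)) (bcΓ hf E a))
  rw [EtOver.pullback_condition]
  rfl

/-- The base change map on sections over an object over the preimage. -/
noncomputable def phiV :
    (letI := (cmap g).toAlgebra; letI := Module.compHom (SectM F V) (ovΓ hf v);
      TensorProduct (Γt E) (Γt E') (SectM F V)) →+ SectM F (pbV hf g v) :=
  letI := (cmap g).toAlgebra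
  letI := Module.compHom (SectM F V) (ovΓ hf v)
  letI := Module.compHom (SectM F (pbV hf g v)) (ovΓ hf (pbV₁ hf g v))
  bcMap (resM F (pbV₂ hf g v)) (res_pbV₂ hf g v F)

theorem phiV_bijective [F.IsQuasicoherent] [Aff E] [Aff E'] [Aff V] : Function.Bijective (phiV hf g v F) := by
  let P := pbV hf g v
  haveI : Aff P := aff_pbV hf g v
  letI := (cmap g).toAlgebra
  letI : Algebra (Γt E) (Γt V) := (ovΓ hf v).toAlgebra
  letI : Algebra (Γt E') (Γt P) := (ovΓ hf (pbV₁ hf g v)).toAlgebra
  letI : Algebra (Γt V) (Γt P) := (cmap (pbV₂ hf g v)).toAlgebra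
  letI : Algebra (Γt E) (Γt P) := ((ovΓ hf (pbV₁ hf g v)).comp (cmap g)).toAlgebra
  haveI : IsScalarTower (Γt E) (Γt E') (Γt P) := IsScalarTower.of_algebraMap_eq' rfl
  haveI : IsScalarTower (Γt E) (Γt V) (Γt P) := IsScalarTower.of_algebraMap_eq' (by
    show (ovΓ hf (pbV₁ hf g v)).comp (cmap g) = (cmap (pbV₂ hf g v)).comp (ovΓ hf v)
    rw [RingHom.comp_assoc, ← cmap_bcMap, ← RingHom.comp_assoc, ← RingHom.comp_assoc, ← cmap_comp, ← cmap_comp,
      EtOver.pullback_condition])
  haveI : Algebra.IsPushout (Γt E) (Γt E') (Γt V) (Γt P) := by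
    have h := isPushout_appTop_of_isPullback (isPullback_pbV hf g v)
    simp only [Scheme.Hom.comp_appTop] at h
    exact CommRingCat.isPushout_iff_isPushout.1 h
  letI := Module.compHom (SectM F V) (ovΓ hf v)
  haveI : IsScalarTower (Γt E) (Γt V) (SectM F V) := ⟨fun a b m => by
    show (ovΓ hf v a * b) • m = ovΓ hf v a • b • m
    rw [mul_smul]⟩
  letI := Module.compHom (SectM F P) (ovΓ hf (pbV₁ hf g v))
  haveI : IsScalarTower (Γt E') (Γt P) (SectM F P) := ⟨fun a b m => by
    show (ovΓ hf (pbV₁ hf g v) a * b) • m = ovΓ hf (pbV₁ hf g v) a • b • m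
    rw [mul_smul]⟩
  exact bijective_bcMap_of_isPushout (resM F (pbV₂ hf g v)) _ (resM_smul F _) (bcM_bijective F (pbV₂ hf g v))

theorem phiV_natural {W : EtOver X} (w : W ⟶ (EtOver.bc hf).obj E) (h : W ⟶ V)
    (u : pbV hf g w ⟶ pbV hf g v) (hu₁ : u ≫ pbV₁ hf g v = pbV₁ hf g w) (hu₂ : u ≫ pbV₂ hf g v = pbV₂ hf g w ≫ h) :
    letI := (cmap g).toAlgebra
    letI := Module.compHom (SectM F V) (ovΓ hf v)
    letI := Module.compHom (SectM F W) (ovΓ hf w)
    ∀ (φ : SectM F V →ₗ[Γt E] SectM F W) (_ : ∀ x, φ x = resM F h x)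
      (z : TensorProduct (Γt E) (Γt E') (SectM F V)),
      phiV hf g w F (φ.lTensor (Γt E') z) = resM F u (phiV hf g v F z) := by
  letI := (cmap g).toAlgebra
  letI := Module.compHom (SectM F V) (ovΓ hf v)
  letI := Module.compHom (SectM F W) (ovΓ hf w)
  intro φ hφ z
  induction z using TensorProduct.induction_on with
  | zero => rw [map_zero, map_zero]; exact (map_zero _).symm
  | tmul b m =>
    rw [LinearMap.lTensor_tmul, hφ]
    show ovΓ hf (pbV₁ hf g w) b • resM F (pbV₂ hf g w) (resM F h m) =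
      resM F u (ovΓ hf (pbV₁ hf g v) b • resM F (pbV₂ hf g v) m)
    rw [resM_smul, ← resM_comp, ← resM_comp, hu₂]
    refine congrArg (· • resM F (pbV₂ hf g w ≫ h) m) ?_
    show cmap (pbV₁ hf g w) (bcΓ hf E' b) = cmap u (cmap (pbV₁ hf g v) (bcΓ hf E' b))
    rw [← RingHom.comp_apply (cmap u), ← cmap_comp, hu₁]
  | add a b ha hb => rw [map_add, map_add, ha, hb, map_add, map_add]

theorem exists_affine_cover_obj (Q : EtOver X) [CompactSpace ↥Q.obj.left.left] :
    ∃ (m : ℕ) (U : Fin m → Q.obj.left.left.Opens), (∀ k, IsAffineOpen (U k)) ∧ ∀ x, ∃ k, x ∈ U k := by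
  have h : ∀ x : ↥Q.obj.left.left, ∃ U : Q.obj.left.left.Opens, IsAffineOpen U ∧ x ∈ U := fun x => by
    obtain ⟨U, hU, hxU, -⟩ := exists_isAffineOpen_mem_and_subset (x := x) (U := (⊤ : Q.obj.left.left.Opens)) trivial
    exact ⟨U, hU, hxU⟩
  choose U hU hx using h
  obtain ⟨s, hs⟩ := isCompact_univ.elim_finite_subcover (fun x => (U x : Set Q.obj.left.left))
    (fun x => (U x).isOpen) fun x _ => Set.mem_iUnion.2 ⟨x, hx x⟩
  refine ⟨s.card, fun k => U (s.equivFin.symm k).1, fun k => hU _, fun x => ?_⟩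
  obtain ⟨y, hy, hxy⟩ := Set.mem_iUnion₂.1 (hs (Set.mem_univ x))
  refine ⟨s.equivFin ⟨y, hy⟩, ?_⟩
  show x ∈ U (s.equivFin.symm (s.equivFin ⟨y, hy⟩)).1
  rw [Equiv.symm_apply_apply]
  exact hxy

theorem range_openObjι (Q : EtOver X) (U : Q.obj.left.left.Opens) :
    Set.range (openObjι Q U).hom.left.left = (U : Set Q.obj.left.left) :=
  Scheme.Opens.range_ι U

theorem compactSpace_inf (Q : EtOver X) [QuasiSeparatedSpace ↥Q.obj.left.left] {U U' : Q.obj.left.left.Opens}
    (hU : IsAffineOpen U) (hU' : IsAffineOpen U') :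
    CompactSpace ↥(EtOver.pullbackObj (openObjι Q U) (openObjι Q U')).obj.left.left := by
  let p := EtOver.pullbackFst (openObjι Q U) (openObjι Q U') ≫ openObjι Q U
  haveI : IsOpenImmersion (openObjι Q U').hom.left.left := inferInstanceAs (IsOpenImmersion U'.ι)
  haveI : IsOpenImmersion (EtOver.pullbackFst (openObjι Q U) (openObjι Q U')).hom.left.left :=
    MorphismProperty.of_isPullback (isPullback_left (openObjι Q U) (openObjι Q U')).flip ‹_›
  haveI : IsOpenImmersion p.hom.left.left := inferInstanceAs (IsOpenImmersion (_ ≫ U.ι))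
  have hr : Set.range p.hom.left.left = (U : Set Q.obj.left.left) ∩ U' := by
    ext x
    constructor
    · rintro ⟨z, rfl⟩
      refine ⟨(range_openObjι Q U).le ⟨_, rfl⟩, ?_⟩
      rw [show p = EtOver.pullbackSnd (openObjι Q U) (openObjι Q U') ≫ openObjι Q U' from EtOver.pullback_condition _ _]
      exact (range_openObjι Q U').le ⟨_, rfl⟩
    · rintro ⟨h1, h2⟩
      obtain ⟨z, hz, -⟩ := exists_pullback_pt (openObjι Q U) (openObjι Q U') ⟨x, h1⟩ ⟨x, h2⟩ rfl
      exact ⟨z, congrArg (openObjι Q U).hom.left.left hz⟩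
  refine isCompact_univ_iff.1 (p.hom.left.left.isOpenEmbedding.isEmbedding.isCompact_iff.2 ?_)
  rw [Set.image_univ, hr]
  exact QuasiSeparatedSpace.inter_isCompact _ _ U.isOpen hU.isCompact U'.isOpen hU'.isCompact

/-- The direct image is quasi-coherent. -/
theorem goodM_push [F.IsQuasicoherent] [Aff E] [Aff E'] [CompactSpace ↥((EtOver.bc hf).obj E).obj.left.left]
    [QuasiSeparatedSpace ↥((EtOver.bc hf).obj E).obj.left.left] :
    Function.Bijective (bcM ((pushModEt hf).obj F) g) := by
  classical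
  let Q := (EtOver.bc hf).obj E
  let N := (pushModEt hf).obj F
  obtain ⟨m, U, hU, hUx⟩ := exists_affine_cover_obj Q
  let V : Fin m → EtOver X := fun k => openObj Q (U k)
  let v : ∀ k, V k ⟶ Q := fun k => openObjι Q (U k)
  haveI hV : ∀ k, Aff (V k) := fun k => hU k
  let P : Fin m × Fin m → EtOver X := fun p => EtOver.pullbackObj (v p.1) (v p.2)
  haveI : ∀ p, CompactSpace ↥(P p).obj.left.left := fun p => compactSpace_inf Q (hU p.1) (hU p.2)
  choose n U₂ hU₂ hU₂x using fun p => exists_affine_cover_obj (P p)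
  let ι := Σ p : Fin m × Fin m, Fin (n p)
  let W : ι → EtOver X := fun i => openObj (P i.1) (U₂ i.1 i.2)
  haveI hW : ∀ i, Aff (W i) := fun i => hU₂ i.1 i.2
  let hl : ∀ i : ι, W i ⟶ V i.1.1 := fun i => openObjι (P i.1) (U₂ i.1 i.2) ≫ EtOver.pullbackFst (v i.1.1) (v i.1.2)
  let hr : ∀ i : ι, W i ⟶ V i.1.2 := fun i => openObjι (P i.1) (U₂ i.1 i.2) ≫ EtOver.pullbackSnd (v i.1.1) (v i.1.2)
  let w : ∀ i : ι, W i ⟶ Q := fun i => hl i ≫ v i.1.1
  have hw : ∀ i, hr i ≫ v i.1.2 = w i := fun i => by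
    show (_ ≫ _) ≫ _ = (_ ≫ _) ≫ _
    rw [Category.assoc, Category.assoc, EtOver.pullback_condition]
  have hsurj : ∀ x : ↥Q.obj.left.left, ∃ k, x ∈ Set.range (v k).hom.left.left := fun x => by
    obtain ⟨k, hk⟩ := hUx x
    exact ⟨k, (range_openObjι Q (U k)).ge hk⟩
  letI := (cmap g).toAlgebra
  haveI : Module.Flat (Γt E) (Γt E') := flat_cmap g
  letI : ∀ k, Module (Γt E) (SectM F (V k)) := fun k => Module.compHom _ (ovΓ hf (v k))
  letI : ∀ i, Module (Γt E) (SectM F (W i)) := fun i => Module.compHom _ (ovΓ hf (w i))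
  have hNsmul : ∀ (a : Γt E) (x : SectM N E) k,
      resM F (v k) (a • x : SectM N E) = ovΓ hf (v k) a • resM F (v k) (x : SectM F Q) := fun a x k =>
    resM_smul F (v k) (bcΓ hf E a) x
  let r : ∀ k, SectM N E →ₗ[Γt E] SectM F (V k) := fun k =>
    { toFun := fun x => resM F (v k) (x : SectM F Q), map_add' := fun a b => map_add (resM F (v k)) a b,
      map_smul' := fun a x => hNsmul a x k }
  let rl : ∀ i : ι, SectM F (V i.1.1) →ₗ[Γt E] SectM F (W i) := fun i =>
    { toFun := resM F (hl i)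
      map_add' := map_add _
      map_smul' := fun a x => by
        show resM F (hl i) (ovΓ hf (v i.1.1) a • x) = ovΓ hf (w i) a • _
        rw [resM_smul]
        refine congrArg (· • resM F (hl i) x) ?_
        exact (RingHom.congr_fun (cmap_comp (hl i) (v i.1.1)) _).symm }
  let rr : ∀ i : ι, SectM F (V i.1.2) →ₗ[Γt E] SectM F (W i) := fun i =>
    { toFun := resM F (hr i)
      map_add' := map_add _
      map_smul' := fun a x => by
        show resM F (hr i) (ovΓ hf (v i.1.2) a • x) = ovΓ hf (w i) a • _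
        rw [resM_smul]
        refine congrArg (· • resM F (hr i) x) ?_
        rw [← hw i]
        exact (RingHom.congr_fun (cmap_comp (hr i) (v i.1.2)) _).symm }
  let d0 : SectM N E →ₗ[Γt E] ∀ k, SectM F (V k) := LinearMap.pi r
  let d1 : (∀ k, SectM F (V k)) →ₗ[Γt E] ∀ i, SectM F (W i) :=
    LinearMap.pi fun i => (rl i).comp (LinearMap.proj i.1.1) - (rr i).comp (LinearMap.proj i.1.2)
  have hd0 : Function.Injective d0 := fun x y e => resM_eq_of_cover F v hsurj fun k => congrFun e k
  have hex : Function.Exact d0 d1 := fun x => by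
    constructor
    · intro hx
      obtain ⟨y, hy⟩ := resM_exists_glue F v hsurj x fun k l => by
        refine resM_eq_of_cover F (fun j : Fin (n (k, l)) => openObjι (P (k, l)) (U₂ (k, l) j)) (fun z => ?_) fun j => ?_
        · obtain ⟨j, hj⟩ := hU₂x (k, l) z
          exact ⟨j, (range_openObjι _ _).ge hj⟩
        · rw [← resM_comp, ← resM_comp]
          exact sub_eq_zero.1 (congrFun hx ⟨(k, l), j⟩)
      exact ⟨y, funext hy⟩
    · rintro ⟨y, rfl⟩
      refine funext fun i => sub_eq_zero.2 ?_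
      show resM F (hl i) (resM F (v i.1.1) (y : SectM F Q)) = resM F (hr i) (resM F (v i.1.2) (y : SectM F Q))
      rw [← resM_comp, ← resM_comp, hw]
  let a : (EtOver.bc hf).obj E' ⟶ (EtOver.bc hf).obj E := EtOver.bcMap hf g
  let v' : ∀ k, pbV hf g (v k) ⟶ (EtOver.bc hf).obj E' := fun k => pbV₁ hf g (v k)
  have hsurj' : ∀ x, ∃ k, x ∈ Set.range (v' k).hom.left.left := fun x => by
    obtain ⟨k, y, hy⟩ := hsurj (a.hom.left.left x)
    obtain ⟨z, hz, -⟩ := exists_pullback_pt a (v k) x y hy.symm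
    exact ⟨k, z, hz⟩
  have hphi : ∀ (k : Fin m) (z : TensorProduct (Γt E) (Γt E') (SectM N E)),
      phiV hf g (v k) F ((r k).lTensor (Γt E') z) = resM F (v' k) (bcM N g z : SectM F ((EtOver.bc hf).obj E')) :=
    fun k z => by
    induction z using TensorProduct.induction_on with
    | zero => rw [map_zero, map_zero]; exact ((congrArg _ (map_zero (bcM N g))).trans (map_zero _)).symm
    | tmul b x =>
      show ovΓ hf (v' k) b • resM F (pbV₂ hf g (v k)) (resM F (v k) (x : SectM F Q)) =
        resM F (v' k) (bcΓ hf E' b • resM F a (x : SectM F Q))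
      rw [resM_smul, ← resM_comp, ← resM_comp, EtOver.pullback_condition]
      rfl
    | add p q hp hq =>
      rw [map_add, map_add, hp, hq]
      exact ((congrArg _ (map_add (bcM N g) p q)).trans (map_add (resM F (v' k)) _ _)).symm
  refine ⟨(injective_iff_map_eq_zero _).2 fun z hz => ?_, fun x => ?_⟩
  · refine Module.Flat.lTensor_preserves_injective_linearMap (M := Γt E') d0 hd0 ?_
    rw [map_zero]
    refine (TensorProduct.piRight (Γt E) (Γt E) (Γt E') fun k => SectM F (V k)).injective (funext fun k => ?_)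
    rw [piRight_lTensor, map_zero]
    refine (phiV_bijective hf g (v k) F).1 ?_
    rw [hphi, hz]
    exact (map_zero (resM F (v' k))).trans (map_zero (phiV hf g (v k) F)).symm
  · choose b hb using fun k => (phiV_bijective hf g (v k) F).2 (resM F (v' k) (x : SectM F ((EtOver.bc hf).obj E')))
    let Z := (TensorProduct.piRight (Γt E) (Γt E) (Γt E') fun k => SectM F (V k)).symm b
    have hZ : ∀ k, (LinearMap.proj (φ := fun k => SectM F (V k)) (R := Γt E) k).lTensor (Γt E') Z = b k := fun k => by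
      have h1 := piRight_lTensor (fun k => LinearMap.proj (φ := fun k => SectM F (V k)) (R := Γt E) k) Z k
      rw [LinearMap.pi_proj, LinearMap.lTensor_id, LinearMap.id_apply] at h1
      exact h1.symm.trans (congrFun (LinearEquiv.apply_symm_apply _ b) k)
    have hd1 : d1.lTensor (Γt E') Z = 0 := by
      refine (TensorProduct.piRight (Γt E) (Γt E) (Γt E') fun i => SectM F (W i)).injective (funext fun i => ?_)
      rw [piRight_lTensor, map_zero, LinearMap.lTensor_sub, LinearMap.sub_apply]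
      refine sub_eq_zero.2 ?_
      rw [LinearMap.lTensor_comp, LinearMap.lTensor_comp, LinearMap.comp_apply, LinearMap.comp_apply, hZ, hZ]
      refine (phiV_bijective hf g (w i) F).1 ?_
      obtain ⟨u, hu₁, hu₂⟩ := PullbackCone.IsLimit.lift' (EtOver.pullbackIsLimit a (v i.1.1))
        (pbV₁ hf g (w i)) (pbV₂ hf g (w i) ≫ hl i) (by rw [EtOver.pullback_condition, Category.assoc])
      obtain ⟨u', hu₁', hu₂'⟩ := PullbackCone.IsLimit.lift' (EtOver.pullbackIsLimit a (v i.1.2))
        (pbV₁ hf g (w i)) (pbV₂ hf g (w i) ≫ hr i) (by rw [EtOver.pullback_condition, Category.assoc, hw])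
      refine (phiV_natural hf g (v i.1.1) F (w i) (hl i) u hu₁ hu₂ (rl i) (fun _ => rfl) _).trans
        (Eq.trans ?_ (phiV_natural hf g (v i.1.2) F (w i) (hr i) u' hu₁' hu₂' (rr i) (fun _ => rfl) _).symm)
      rw [hb, hb, ← resM_comp, ← resM_comp]
      exact (congrArg (fun c => resM F c (x : SectM F ((EtOver.bc hf).obj E'))) hu₁).trans
        (congrArg (fun c => resM F c (x : SectM F ((EtOver.bc hf).obj E'))) hu₁').symm
    obtain ⟨z, hz⟩ := (Module.Flat.lTensor_exact (M := Γt E') hex Z).1 hd1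
    refine ⟨z, resM_eq_of_cover F v' hsurj' fun k => ?_⟩
    rw [← hphi, ← hb k, ← hZ k, ← hz, ← LinearMap.comp_apply, ← LinearMap.lTensor_comp]
    rfl

end Groth.Agent.SpQC86
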