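import Groth.Agent.SpQC86.SubQC

/-!
The largest quasi-coherent submodule.
-/

set_option autoImplicit false
set_option linter.style.haveILetI false
set_option backward.isDefEq.respectTransparency false

universe u

open CategoryTheory CategoryTheory.Limits AlgebraicGeometry Opposite
open AlgSp Groth.Agent.SpQC61

namespace Groth.Agent.SpQC86

variable {S : Scheme.{u}} {X : Sp S} {F G : ModEt X} (ι : G ⟶ F)

theorem range_spanning {H : ModEt X} [H.IsQuasicoherent] (θ : H ⟶ F) {E' E : EtOver X} (g : E' ⟶ E) [Aff E] [Aff E'] :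
    LinearMap.range (appM θ E') ≤ Submodule.span (Γt E') (resM F g '' LinearMap.range (appM θ E)) := by
  rintro _ ⟨y, rfl⟩
  obtain ⟨z, rfl⟩ := (bcM_bijective H g).2 y
  letI := (cmap g).toAlgebra
  induction z using TensorProduct.induction_on with
  | zero =>
    rw [show bcM H g 0 = 0 from map_zero (bcM H g), map_zero]
    exact Submodule.zero_mem _
  | tmul b n =>
    show appM θ E' (b • resM H g n) ∈ _
    rw [LinearMap.map_smul, appM_res]
    exact Submodule.smul_mem _ b (Submodule.subset_span ⟨_, ⟨n, rfl⟩, rfl⟩)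
  | add p q hp hq =>
    rw [show bcM H g (p + q) = bcM H g p + bcM H g q from map_add (bcM H g) p q, map_add]
    exact Submodule.add_mem _ hp hq

/-- Families of submodules of sections over affine objects defining quasi-coherent submodules inside a submodule. -/
structure QFam where
  /-- the submodules -/
  Q : ∀ E : EtOver X, Aff E → Submodule (Γt E) (SectM F E)
  res : ∀ {E' E : EtOver X} (g : E' ⟶ E) (hE : Aff E) (hE' : Aff E'), ∀ x ∈ Q E hE, resM F g x ∈ Q E' hE'
  span : ∀ {E' E : EtOver X} (g : E' ⟶ E) (hE : Aff E) (hE' : Aff E'),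
    Q E' hE' ≤ Submodule.span (Γt E') (resM F g '' Q E hE)
  le : ∀ (E : EtOver X) (hE : Aff E), Q E hE ≤ LinearMap.range (appM ι E)

/-- The largest family. -/
noncomputable def topQ (E : EtOver X) (hE : Aff E) : Submodule (Γt E) (SectM F E) := ⨆ P : QFam ι, P.Q E hE

theorem topQ_res {E' E : EtOver X} (g : E' ⟶ E) (hE : Aff E) (hE' : Aff E') :
    ∀ x ∈ topQ ι E hE, resM F g x ∈ topQ ι E' hE' := fun x hx => by
  refine Submodule.iSup_induction _ (motive := fun x => resM F g x ∈ topQ ι E' hE') hx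
    (fun P y hy => Submodule.mem_iSup_of_mem P (P.res g hE hE' y hy)) ?_ fun a b ha hb => ?_
  · show resM F g 0 ∈ _
    rw [map_zero]; exact Submodule.zero_mem _
  · show resM F g (a + b) ∈ _
    rw [map_add]; exact Submodule.add_mem _ ha hb

theorem topQ_span {E' E : EtOver X} (g : E' ⟶ E) (hE : Aff E) (hE' : Aff E') :
    topQ ι E' hE' ≤ Submodule.span (Γt E') (resM F g '' topQ ι E hE) :=
  iSup_le fun P => (P.span g hE hE').trans
    (Submodule.span_mono (Set.image_mono (le_iSup (fun P : QFam ι => P.Q E hE) P)))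

/-- There is a largest quasi-coherent submodule. -/
theorem exists_largest [F.IsQuasicoherent] [Mono ι] :
    ∃ (G' : ModEt X) (κ : G' ⟶ G), Mono κ ∧ G'.IsQuasicoherent ∧
      ∀ H : ModEt X, H.IsQuasicoherent → Function.Bijective (fun φ : H ⟶ G' => φ ≫ κ) := by
  let j := subι F (topQ ι) (topQ_span ι)
  have hr := range_subι F (topQ ι) (topQ_res ι) (topQ_span ι)
  obtain ⟨κ, hκ⟩ := exists_fac ι j fun E hE x =>
    (iSup_le fun P : QFam ι => P.le E hE : topQ ι E hE ≤ _) ((hr E hE).le (LinearMap.mem_range_self (appM j E) x))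
  haveI : Mono (κ ≫ ι) := hκ ▸ inferInstanceAs (Mono j)
  haveI hκm : Mono κ := mono_of_mono κ ι
  refine ⟨_, κ, hκm, isQuasicoherent_subM F (topQ ι) (topQ_res ι) (topQ_span ι),
    fun H hH => ⟨fun a b e => (cancel_mono κ).1 e, fun φ => ?_⟩⟩
  haveI := hH
  let P : QFam ι :=
    { Q := fun E _ => LinearMap.range (appM (φ ≫ ι) E)
      res := fun g _ _ x hx => by
        obtain ⟨y, rfl⟩ := hx
        exact ⟨resM H g y, appM_res _ g y⟩
      span := fun g hE hE' => haveI := hE; haveI := hE'; range_spanning (φ ≫ ι) g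
      le := fun E _ x hx => by
        obtain ⟨y, rfl⟩ := hx
        exact ⟨appM φ E y, rfl⟩ }
  obtain ⟨l, hl⟩ := exists_fac j (φ ≫ ι) fun E hE x =>
    (hr E hE).ge (Submodule.mem_iSup_of_mem P (LinearMap.mem_range_self (appM (φ ≫ ι) E) x))
  exact ⟨l, (cancel_mono ι).1 ((Category.assoc l κ ι).trans ((congrArg (l ≫ ·) hκ).trans hl))⟩

end Groth.Agent.SpQC86
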