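import Groth.Agent.SpQC86.SubFamClimb
import Groth.Agent.SpQC86.Largest
import Mathlib.CategoryTheory.Subobject.Limits

/-!
A quasi-coherent module is the colimit of its submodules of finite type.
-/

set_option autoImplicit false
set_option linter.style.haveILetI false
set_option backward.isDefEq.respectTransparency false

universe u

open CategoryTheory CategoryTheory.Limits AlgebraicGeometry Opposite
open AlgSp Groth.Agent.SpQC61

namespace Groth.Agent.SpQC86

variable {S : Scheme.{u}}

section Hom

variable {X : Sp S} {M Y : ModEt X}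

/-- A map of modules given on affine objects. -/
theorem exists_hom_of_aff (θ : ∀ E : EtOver X, Aff E → (SectM M E →ₗ[Γt E] SectM Y E))
    (hθ : ∀ {E' E : EtOver X} (g : E' ⟶ E) (hE : Aff E) (hE' : Aff E') (x : SectM M E),
      θ E' hE' (resM M g x) = resM Y g (θ E hE x)) :
    ∃ φ : M ⟶ Y, ∀ (E : EtOver X) (hE : Aff E) (x : SectM M E), appM φ E x = θ E hE x := by
  have hex : ∀ (W : EtOver X) (x : SectM M W), ∃ y : SectM Y W,
      ∀ (E : EtOver X) (hE : Aff E) (g : E ⟶ W), resM Y g y = θ E hE (resM M g x) := by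
    intro W x
    let ι := {U : W.obj.left.left.Opens // IsAffineOpen U}
    have hA : ∀ U : ι, Aff (openObj W U.1) := fun U => U.2
    have hsurj : ∀ v : ↥W.obj.left.left, ∃ U : ι, v ∈ Set.range (openObjι W U.1).hom.left.left := fun v => by
      obtain ⟨U, hU, hvU, -⟩ := exists_isAffineOpen_mem_and_subset (x := v) (U := (⊤ : W.obj.left.left.Opens)) trivial
      exact ⟨⟨U, hU⟩, ⟨v, hvU⟩, rfl⟩
    have hagree : ∀ {Z : EtOver X} {U₁ U₂ : EtOver X} (h₁ : Aff U₁) (h₂ : Aff U₂) (j₁ : U₁ ⟶ W) (j₂ : U₂ ⟶ W)
        (a : Z ⟶ U₁) (b : Z ⟶ U₂), a ≫ j₁ = b ≫ j₂ →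
        resM Y a (θ U₁ h₁ (resM M j₁ x)) = resM Y b (θ U₂ h₂ (resM M j₂ x)) := fun h₁ h₂ j₁ j₂ a b e => by
      refine sect_ext_aff Y fun E hE f => ?_
      rw [← resM_comp, ← resM_comp, ← hθ _ h₁ hE, ← hθ _ h₂ hE, ← resM_comp, ← resM_comp, Category.assoc,
        Category.assoc, e]
    obtain ⟨y, hy⟩ := SpQC61.exists_glue (Y.over W) (o := Over.mk (𝟙 W)) (V := fun U : ι => Over.mk (openObjι W U.1))
      (fun U => Over.homMk (openObjι W U.1) (Category.comp_id _)) hsurj
      (fun U => θ _ (hA U) (resM M (openObjι W U.1) x)) fun U U' Z a b e =>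
        hagree (hA U) (hA U') (openObjι W U.1) (openObjι W U'.1) a.left b.left
          (congrArg (fun k : Z ⟶ Over.mk (𝟙 W) => k.left) e)
    refine ⟨y, fun E hE g => sect_ext_aff Y fun E' hE' f => ?_⟩
    refine eq_of_cover (Y.over E') (o := Over.mk (𝟙 E'))
      (V := fun U : ι => Over.mk (EtOver.pullbackFst (f ≫ g) (openObjι W U.1)))
      (fun U => Over.homMk (EtOver.pullbackFst (f ≫ g) (openObjι W U.1)) (Category.comp_id _)) (fun v => ?_) fun U => ?_
    · obtain ⟨U, z, hz⟩ := hsurj ((f ≫ g).hom.left.left v)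
      obtain ⟨w, hw, -⟩ := exists_pullback_pt (f ≫ g) (openObjι W U.1) v z hz.symm
      exact ⟨U, w, hw⟩
    · show resM Y (EtOver.pullbackFst (f ≫ g) (openObjι W U.1)) (resM Y f (resM Y g y)) =
        resM Y (EtOver.pullbackFst (f ≫ g) (openObjι W U.1)) (resM Y f (θ E hE (resM M g x)))
      refine Eq.trans ?_ (Eq.trans (hagree hE' (hA U) (f ≫ g) (openObjι W U.1) _ _ (EtOver.pullback_condition _ _)).symm ?_)
      · rw [← resM_comp, ← resM_comp, Category.assoc, ← Category.assoc, Category.assoc,
          EtOver.pullback_condition (f ≫ g) (openObjι W U.1), resM_comp]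
        exact congrArg _ (hy U)
      · rw [resM_comp M f g, hθ f hE hE']
  choose Θ hΘ using hex
  have huniq : ∀ (W : EtOver X) (x : SectM M W) (y : SectM Y W),
      (∀ (E : EtOver X) (hE : Aff E) (g : E ⟶ W), resM Y g y = θ E hE (resM M g x)) → y = Θ W x := fun W x y h =>
    sect_ext_aff Y fun E hE g => (h E hE g).trans (hΘ W x E hE g).symm
  let P : (PresheafOfModules.toPresheaf _).obj M.val ⟶ (PresheafOfModules.toPresheaf _).obj Y.val :=
    { app := fun W => AddCommGrpCat.ofHom (AddMonoidHom.mk' (Θ W.unop) fun a b => (huniq W.unop (a + b) _ fun E hE g => by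
        rw [map_add, hΘ W.unop a E hE g, hΘ W.unop b E hE g, ← map_add]
        exact congrArg (θ E hE) (map_add (resM M g) (a : SectM M W.unop) b).symm).symm)
      naturality := fun W W' g => by
        ext (x : SectM M W.unop)
        exact (huniq W'.unop (resM M g.unop x) (resM Y g.unop (Θ W.unop x)) fun E hE j => by
          rw [← resM_comp, hΘ, resM_comp]).symm }
  refine ⟨⟨PresheafOfModules.homMk P fun W r m => ?_⟩, fun E hE x => ?_⟩
  · refine (huniq W.unop (r • m : M.val.obj W) (HSMul.hSMul (α := (OEtRing X).obj.obj W) (β := Y.val.obj W) r (Θ W.unop m)) fun E hE g => ?_).symm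
    refine (Y.val.map_smul g.op r _).trans ?_
    refine Eq.trans ?_ (congrArg (θ E hE) (M.val.map_smul g.op r m)).symm
    refine Eq.trans ?_ ((θ E hE).map_smul (ULift.down ((OEtRing X).obj.map g.op r)) (resM M g m)).symm
    exact congrArg (fun t => (OEtRing X).obj.map g.op r • t) (hΘ W.unop m E hE g)
  · have h := hΘ E x E hE (𝟙 E)
    rw [resM_id, resM_id] at h
    exact h

end Hom

variable {X : Space S} [QuasiSeparatedSpace ↥S] (hqc : IsQuasiCompactSp X.obj) (hqs : IsQuasiSeparatedSp X.obj)
  (M : ModEt X.obj) [M.IsQuasicoherent]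

/-- The subobjects of finite type. -/
abbrev ftSub : ObjectProperty (Subobject M) := fun N =>
  (Subobject.underlying.obj N).IsQuasicoherent ∧ (Subobject.underlying.obj N).IsFiniteType

omit [QuasiSeparatedSpace ↥S] in
/-- The family of a subobject of finite type. -/
theorem exists_subFam_of_sub (N : Subobject M) (hN : ftSub M N) :
    ∃ F : SubFam M Set.univ, ∀ (E : EtOver X.obj) (hE : Aff E),
      F.Q E hE (inOp_univ E) = LinearMap.range (appM N.arrow E) := by
  haveI : (Subobject.underlying.obj N).IsQuasicoherent := hN.1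
  haveI : (Subobject.underlying.obj N).IsFiniteType := hN.2
  exact ⟨{ Q := fun E _ _ => LinearMap.range (appM N.arrow E)
           res := fun g _ _ _ x hx => by
             obtain ⟨y, rfl⟩ := hx
             exact ⟨resM _ g y, appM_res _ g y⟩
           span := fun g hE _ hE' => haveI := hE; haveI := hE'; range_spanning N.arrow g
           fg := fun E hE _ => by
             haveI := hE
             rw [← Submodule.map_top]
             exact (finite_sectM (M := Subobject.underlying.obj N) E).fg_top.map _ },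
    fun E hE => rfl⟩

omit [QuasiSeparatedSpace ↥S] in
theorem le_of_range_le {N N' : Subobject M}
    (h : ∀ (E : EtOver X.obj), Aff E → LinearMap.range (appM N.arrow E) ≤ LinearMap.range (appM N'.arrow E)) :
    N ≤ N' := by
  obtain ⟨κ, hκ⟩ := exists_fac N'.arrow N.arrow fun E hE x => h E hE (LinearMap.mem_range_self _ x)
  exact Subobject.le_of_comm κ hκ

omit [QuasiSeparatedSpace ↥S] in
theorem exists_sub_of_subFam (F : SubFam M Set.univ) :
    ∃ N : Subobject M, ftSub M N ∧ ∀ (E : EtOver X.obj) (hE : Aff E),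
      LinearMap.range (appM N.arrow E) = F.Q E hE (inOp_univ E) := by
  obtain ⟨G, ι, hm, hq, hf, hr⟩ := exists_sheaf_of_subFam M F
  let e := Subobject.underlyingIso ι
  have hq' : (Subobject.underlying.obj (Subobject.mk ι)).IsQuasicoherent :=
    (SheafOfModules.isQuasicoherent (OEtRing X.obj)).prop_of_iso e.symm hq
  suffices h : ∀ (E : EtOver X.obj) (hE : Aff E),
      LinearMap.range (appM (Subobject.mk ι).arrow E) = F.Q E hE (inOp_univ E) from
    haveI := hq'
    ⟨Subobject.mk ι, ⟨hq', isFiniteType_of_finite _ fun E hE =>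
      Submodule.fg_of_fg_map_injective (appM (Subobject.mk ι).arrow E) (appM_injective _ E) (by
        rw [Submodule.map_top, h E hE]; exact F.fg E hE (inOp_univ E))⟩, h⟩
  intro E hE
  rw [← hr E hE]
  apply le_antisymm
  · rintro _ ⟨y, rfl⟩
    refine ⟨appM e.hom E y, ?_⟩
    exact congrArg (fun φ : _ ⟶ M => appM φ E y) (Subobject.underlyingIso_hom_comp_eq_mk ι)
  · rintro _ ⟨y, rfl⟩
    refine ⟨appM e.inv E y, ?_⟩
    exact congrArg (fun φ : _ ⟶ M => appM φ E y) (Subobject.underlyingIso_arrow ι)

include hqc hqs in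
theorem isFiltered_ftSub : IsFiltered (ftSub M).FullSubcategory := by
  obtain ⟨F₀, -⟩ := exists_subFam_containing hqc hqs M (ι := Empty) (fun i => i.elim) (fun i => i.elim) (fun i => i.elim)
  obtain ⟨N₀, hN₀, -⟩ := exists_sub_of_subFam M F₀
  haveI : Nonempty (ftSub M).FullSubcategory := ⟨⟨N₀, hN₀⟩⟩
  have : IsFilteredOrEmpty (ftSub M).FullSubcategory :=
    { cocone_objs := fun A B => by
        obtain ⟨FA, hA⟩ := exists_subFam_of_sub M A.obj A.property
        obtain ⟨FB, hB⟩ := exists_subFam_of_sub M B.obj B.property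
        obtain ⟨N, hN, hr⟩ := exists_sub_of_subFam M
          { Q := fun E hE h => FA.Q E hE h ⊔ FB.Q E hE h
            res := fun g hE h hE' x hx => by
              obtain ⟨a, ha, b, hb, rfl⟩ := Submodule.mem_sup.1 hx
              rw [map_add]
              exact Submodule.add_mem_sup (FA.res g hE h hE' a ha) (FB.res g hE h hE' b hb)
            span := fun g hE h hE' => sup_le ((FA.span g hE h hE').trans (spanRes_mono g fun x hx => Submodule.mem_sup_left hx))
              ((FB.span g hE h hE').trans (spanRes_mono g fun x hx => Submodule.mem_sup_right hx))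
            fg := fun E hE h => (FA.fg E hE h).sup (FB.fg E hE h) }
        exact ⟨⟨N, hN⟩, ObjectProperty.homMk (homOfLE (le_of_range_le M fun E hE => by
            rw [hr E hE, ← hA E hE]; exact le_sup_left)),
          ObjectProperty.homMk (homOfLE (le_of_range_le M fun E hE => by
            rw [hr E hE, ← hB E hE]; exact le_sup_right)), trivial⟩
      cocone_maps := fun A B f g => ⟨B, 𝟙 _, ObjectProperty.hom_ext _ (Subsingleton.elim _ _)⟩ }
  exact IsFiltered.mk

include hqc hqs in
theorem exists_mem_ftSub {E : EtOver X.obj} (hE : Aff E) (s : Fin 2 → SectM M E) :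
    ∃ A : (ftSub M).FullSubcategory, ∀ i, s i ∈ LinearMap.range (appM A.obj.arrow E) := by
  obtain ⟨F, hF⟩ := exists_subFam_containing hqc hqs M (ι := Fin 2) (fun _ => E) (fun _ => hE) s
  obtain ⟨N, hN, hr⟩ := exists_sub_of_subFam M F
  exact ⟨⟨N, hN⟩, fun i => (hr E hE).ge (hF i)⟩

include hqc hqs in
/-- A quasi-coherent module is the colimit of its submodules of finite type. -/
theorem nonempty_isColimit_ftSub (ι : (ftSub M).ι ⋙ Subobject.underlying ⟶ (Functor.const _).obj M)
    (hι : ∀ N : (ftSub M).FullSubcategory, ι.app N = N.obj.arrow) : Nonempty (IsColimit (Cocone.mk M ι)) := by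
  haveI := isFiltered_ftSub hqc hqs M
  refine ⟨IsColimit.ofExistsUnique fun c => ?_⟩
  have hwd : ∀ {E : EtOver X.obj} (_ : Aff E) (A B : (ftSub M).FullSubcategory) (a : SectM (Subobject.underlying.obj A.obj) E)
      (b : SectM (Subobject.underlying.obj B.obj) E), appM A.obj.arrow E a = appM B.obj.arrow E b →
      appM (c.ι.app A) E a = appM (c.ι.app B) E b := fun {E} _ A B a b e => by
    let C := IsFiltered.max A B
    let fA := IsFiltered.leftToMax A B
    let fB := IsFiltered.rightToMax A B
    have hA := c.w fA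
    have hB := c.w fB
    rw [← hA, ← hB]
    show appM (c.ι.app C) E (appM (Subobject.underlying.map fA.hom) E a) =
      appM (c.ι.app C) E (appM (Subobject.underlying.map fB.hom) E b)
    refine congrArg (appM (c.ι.app C) E) (appM_injective C.obj.arrow E ?_)
    refine Eq.trans ?_ (Eq.trans e ?_)
    · exact congrArg (fun φ : _ ⟶ M => appM φ E a) (Subobject.underlying_arrow fA.hom)
    · exact (congrArg (fun φ : _ ⟶ M => appM φ E b) (Subobject.underlying_arrow fB.hom)).symm
  have hsel : ∀ (E : EtOver X.obj) (_ : Aff E) (x : SectM M E), ∃ (A : (ftSub M).FullSubcategory)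
      (a : SectM (Subobject.underlying.obj A.obj) E), appM A.obj.arrow E a = x := fun E hE x => by
    obtain ⟨A, hA⟩ := exists_mem_ftSub hqc hqs M hE (fun _ => x)
    obtain ⟨a, ha⟩ := hA 0
    exact ⟨A, a, ha⟩
  choose A a ha using hsel
  have hval : ∀ {E : EtOver X.obj} (hE : Aff E) (x : SectM M E) (B : (ftSub M).FullSubcategory)
      (b : SectM (Subobject.underlying.obj B.obj) E), appM B.obj.arrow E b = x →
      appM (c.ι.app (A E hE x)) E (a E hE x) = appM (c.ι.app B) E b :=
    fun hE x B b hb => hwd hE _ _ _ _ ((ha _ hE x).trans hb.symm)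
  obtain ⟨φ, hφ⟩ := exists_hom_of_aff (M := M) (Y := c.pt)
    (fun E hE => { toFun := fun x => appM (c.ι.app (A E hE x)) E (a E hE x)
                   map_add' := fun x y => by
                     obtain ⟨B, hB⟩ := exists_mem_ftSub hqc hqs M hE ![x, y]
                     obtain ⟨p, hp⟩ := hB 0
                     obtain ⟨q, hq⟩ := hB 1
                     rw [hval hE x B p hp, hval hE y B q hq,
                       hval hE (x + y) B (p + q) (by rw [map_add, hp, hq]; rfl), map_add]
                   map_smul' := fun r x => by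
                     rw [RingHom.id_apply, hval hE (r • x) (A E hE x) (r • a E hE x)
                       (by rw [LinearMap.map_smul, ha]), LinearMap.map_smul] })
    (fun {E' E} g hE hE' x => by
      show appM (c.ι.app (A E' hE' (resM M g x))) E' _ = resM c.pt g (appM (c.ι.app (A E hE x)) E (a E hE x))
      rw [hval hE' (resM M g x) (A E hE x) (resM _ g (a E hE x)) ((appM_res _ g _).trans (congrArg (resM M g) (ha E hE x)))]
      exact appM_res _ g _)
  refine ⟨φ, fun N => hom_ext_aff fun E hE y => ?_, fun ψ hψ => hom_ext_aff fun E hE x => ?_⟩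
  · show appM φ E (appM (ι.app N) E y) = appM (c.ι.app N) E y
    rw [hι N, hφ E hE]
    exact hval hE _ N y rfl
  · rw [hφ E hE]
    show appM ψ E x = appM (c.ι.app (A E hE x)) E (a E hE x)
    rw [← hψ (A E hE x)]
    show _ = appM ψ E (appM (ι.app (A E hE x)) E (a E hE x))
    rw [hι]
    exact congrArg (appM ψ E) (ha E hE x).symm

end Groth.Agent.SpQC86
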