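import Groth.Agent.SpQC86.Largest

/-!
Sections killed by finitely many functions, and the submodule killed by an ideal of finite type.
-/

set_option autoImplicit false
set_option linter.style.haveILetI false
set_option backward.isDefEq.respectTransparency false

universe u

open CategoryTheory CategoryTheory.Limits AlgebraicGeometry Opposite
open AlgSp Groth.Agent.SpQC61
open scoped TensorProduct

namespace Groth.Agent.SpQC86

variable {S : Scheme.{u}} {X : Sp S} (M : ModEt X) [M.IsQuasicoherent]

/-- The sections killed by finitely many functions form, after a flat base change, those killed by their images. -/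
theorem mem_span_of_killed {E' E : EtOver X} (g : E' ⟶ E) [Aff E] [Aff E'] {n : ℕ} (a : Fin n → Γt E)
    {y : SectM M E'} (hy : ∀ i, cmap g (a i) • y = 0) :
    y ∈ Submodule.span (Γt E') (resM M g '' {s : SectM M E | ∀ i, a i • s = 0}) := by
  classical
  letI := (cmap g).toAlgebra
  haveI : Module.Flat (Γt E) (Γt E') := flat_cmap g
  let φ : SectM M E →ₗ[Γt E] (Fin n → SectM M E) := LinearMap.pi fun i => LinearMap.lsmul (Γt E) (SectM M E) (a i)
  obtain ⟨z, rfl⟩ := (bcM_bijective M g).2 y
  have hφ : φ.lTensor (Γt E') z = 0 := by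
    refine (TensorProduct.piRight (Γt E) (Γt E) (Γt E') fun _ : Fin n => SectM M E).injective (funext fun i => ?_)
    rw [piRight_lTensor, map_zero]
    refine (bcM_bijective M g).1 ?_
    refine Eq.trans ?_ ((hy i).trans (map_zero (bcM M g)).symm)
    clear hy
    induction z using TensorProduct.induction_on with
    | zero =>
      refine (congrArg _ (map_zero _)).trans ((map_zero (bcM M g)).trans ?_)
      exact ((congrArg _ (map_zero (bcM M g))).trans (smul_zero _)).symm
    | tmul b x =>
      show b • resM M g (a i • x) = cmap g (a i) • b • resM M g x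
      rw [resM_smul, smul_comm]
    | add p q hp hq =>
      exact ((congrArg _ (map_add _ p q)).trans ((map_add (bcM M g) _ _).trans (congrArg₂ (· + ·) hp hq))).trans
        ((congrArg _ (map_add (bcM M g) p q)).trans (smul_add _ _ _)).symm
  obtain ⟨w, rfl⟩ := (Module.Flat.lTensor_exact (M := Γt E') (LinearMap.exact_subtype_ker_map φ) z).1 hφ
  clear hy hφ
  induction w using TensorProduct.induction_on with
  | zero =>
    rw [map_zero, show bcM M g 0 = 0 from map_zero (bcM M g)]
    exact Submodule.zero_mem _
  | tmul b x =>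
    exact Submodule.smul_mem _ b (Submodule.subset_span ⟨x.1, fun i => congrFun (LinearMap.mem_ker.1 x.2) i, rfl⟩)
  | add p q hp hq =>
    rw [map_add, show bcM M g (_ + _) = _ from map_add (bcM M g) _ _]
    exact Submodule.add_mem _ hp hq

variable {M}

theorem smul_eq_zero_of_span {E : EtOver X} {s : Set (Γt E)} {x : SectM M E} (h : ∀ a ∈ s, a • x = 0) :
    ∀ a ∈ Ideal.span s, a • x = 0 := fun a ha => by
  induction ha using Submodule.span_induction with
  | mem z hz => exact h z hz
  | zero => exact zero_smul _ _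
  | add a b _ _ ha hb => rw [add_smul, ha, hb, add_zero]
  | smul r a _ ha => rw [smul_eq_mul, mul_smul, ha, smul_zero]

theorem killed_map {E' E : EtOver X} (g : E' ⟶ E) {J : Ideal (Γt E)} {x : SectM M E} (h : ∀ a ∈ J, a • x = 0) :
    ∀ a ∈ J.map (cmap g), a • resM M g x = 0 :=
  smul_eq_zero_of_span (by
    rintro _ ⟨a, ha, rfl⟩
    rw [← resM_smul, h a ha, map_zero])

theorem mem_span_killed_ideal {E' E : EtOver X} (g : E' ⟶ E) [Aff E] [Aff E'] {J : Ideal (Γt E)} (hJ : J.FG)
    {y : SectM M E'} (hy : ∀ a ∈ J.map (cmap g), a • y = 0) :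
    y ∈ Submodule.span (Γt E') (resM M g '' {s : SectM M E | ∀ a ∈ J, a • s = 0}) := by
  obtain ⟨n, a, ha⟩ := Submodule.fg_iff_exists_fin_generating_family.1 hJ
  refine Submodule.span_mono (Set.image_mono ?_) (mem_span_of_killed M g a fun i =>
    hy _ (Ideal.mem_map_of_mem _ (ha ▸ Submodule.subset_span ⟨i, rfl⟩)))
  intro s hs b hb
  exact smul_eq_zero_of_span (by rintro _ ⟨i, rfl⟩; exact hs i) b (ha.ge hb)

variable (M)

/-- Sections killed by an ideal. -/
def killed {E : EtOver X} (J : Ideal (Γt E)) : Submodule (Γt E) (SectM M E) where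
  carrier := {s | ∀ a ∈ J, a • s = 0}
  zero_mem' a _ := smul_zero a
  add_mem' {s t} hs ht a ha := by rw [smul_add, hs a ha, ht a ha, add_zero]
  smul_mem' r s hs a ha := by rw [smul_comm, hs a ha, smul_zero]

/-- The submodule of sections killed by an ideal sheaf of finite type. -/
theorem exists_annihilated (I : IdealEt X) (hI : I.IsQCoh) (hft : ∀ E hE, (I.ideal E hE).FG) :
    ∃ (F' : ModEt X) (ι : F' ⟶ M), Mono ι ∧ F'.IsQuasicoherent ∧ ∀ (E : EtOver X) (hE : Aff E),
      Set.range (appM ι E) = {s : SectM M E | ∀ a ∈ I.ideal E hE, a • s = 0} := by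
  let Q : ∀ E : EtOver X, Aff E → Submodule (Γt E) (SectM M E) := fun E hE => killed M (I.ideal E hE)
  have hres : ∀ {E' E : EtOver X} (g : E' ⟶ E) (hE : Aff E) (hE' : Aff E'),
      ∀ x ∈ Q E hE, resM M g x ∈ Q E' hE' := fun {E' E} g hE hE' x hx a ha => killed_map g hx a (hI g hE hE' ha)
  have hspan : ∀ {E' E : EtOver X} (g : E' ⟶ E) (hE : Aff E) (hE' : Aff E'),
      Q E' hE' ≤ Submodule.span (Γt E') (resM M g '' Q E hE) := fun {E' E} g hE hE' y hy => by
    haveI := hE
    haveI := hE'
    exact mem_span_killed_ideal g (hft E hE) fun a ha => hy a (I.map_le g hE hE' ha)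
  exact ⟨_, subι M Q hspan, inferInstance, isQuasicoherent_subM M Q hres hspan, fun E hE =>
    congrArg (fun P : Submodule (Γt E) (SectM M E) => (P : Set (SectM M E))) (range_subι M Q hres hspan E hE)⟩

end Groth.Agent.SpQC86
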