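import Groth.Agent.SpQC86.AnnSub
import Groth.Agent.SpPts86.QCMor

/-!
The quasi-coherent submodule of sections supported on the complement of a quasi-compact open subspace.
-/

set_option autoImplicit false
set_option linter.style.haveILetI false
set_option backward.isDefEq.respectTransparency false

universe u

open CategoryTheory CategoryTheory.Limits AlgebraicGeometry Opposite
open AlgSp Groth.Agent.SpQC61

namespace Groth.Agent.SpQC86

theorem toSpecΓ_bijective (W : Scheme.{u}) [IsAffine W] : Function.Bijective W.toSpecΓ :=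
  ConcreteCategory.bijective_of_isIso W.isoSpec.hom.base

theorem zeroLocus_subset_iff {W : Scheme.{u}} [IsAffine W] (I J : Ideal Γ(W, ⊤)) :
    W.zeroLocus (U := ⊤) (I : Set Γ(W, ⊤)) ⊆ W.zeroLocus (U := ⊤) (J : Set Γ(W, ⊤)) ↔ J ≤ I.radical := by
  rw [← W.toSpecΓ_preimage_zeroLocus, ← W.toSpecΓ_preimage_zeroLocus,
    Set.preimage_subset_preimage_iff (by rw [(toSpecΓ_bijective W).2.range_eq]; exact Set.subset_univ _),
    PrimeSpectrum.zeroLocus_subset_zeroLocus_iff]

theorem zeroLocus_map_appTop {W W' : Scheme.{u}} (f : W' ⟶ W) (I : Ideal Γ(W, ⊤)) :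
    W'.zeroLocus (U := ⊤) ((I.map f.appTop.hom : Ideal Γ(W', ⊤)) : Set Γ(W', ⊤)) =
      f ⁻¹' W.zeroLocus (U := ⊤) (I : Set Γ(W, ⊤)) := by
  rw [← W.toSpecΓ_preimage_zeroLocus, ← W'.toSpecΓ_preimage_zeroLocus, Ideal.map, PrimeSpectrum.zeroLocus_span,
    ← PrimeSpectrum.preimage_comap_zeroLocus]
  ext w
  have h : W.toSpecΓ (f w) = Spec.map f.appTop (W'.toSpecΓ w) := by
    rw [← Scheme.Hom.comp_apply, Scheme.toSpecΓ_naturality, Scheme.Hom.comp_apply]
  simp only [Set.mem_preimage, h]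
  exact Iff.rfl

theorem exists_fg_of_compact_open {W : Scheme.{u}} [IsAffine W] {V : Set W} (hc : IsCompact V) (ho : IsOpen V) :
    ∃ I : Ideal Γ(W, ⊤), I.FG ∧ W.zeroLocus (U := ⊤) (I : Set Γ(W, ⊤)) = Vᶜ := by
  have hb := toSpecΓ_bijective W
  obtain ⟨I, hI, he⟩ := PrimeSpectrum.isCompact_isOpen_iff_ideal.1
    ⟨hc.image W.toSpecΓ.continuous, W.isoSpec.hom.isOpenEmbedding.isOpenMap V ho⟩
  refine ⟨I, hI, ?_⟩
  rw [← W.toSpecΓ_preimage_zeroLocus, ← compl_compl (PrimeSpectrum.zeroLocus (I : Set Γ(W, ⊤))), Set.preimage_compl]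
  exact congrArg _ ((congrArg (W.toSpecΓ ⁻¹' ·) he).trans (Set.preimage_image_eq V hb.1))

variable {S : Scheme.{u}}

theorem compact_open_preimage {X U : AlgSp.Space S} (j : U ⟶ X) (hj : RepWith @IsOpenImmersion j.hom)
    (hjqc : IsQuasiCompactMor j.hom) {T : Over S} [IsAffine T.left] (g : (yon S).obj T ⟶ X.obj) :
    IsCompact (Points.ofPt g ⁻¹' Set.range (Points.map j.hom)) ∧
      IsOpen (Points.ofPt g ⁻¹' Set.range (Points.map j.hom)) := by
  obtain ⟨V, snd, fst, sq⟩ := hj.1 g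
  haveI : IsOpenImmersion snd.left := hj.2 g fst snd sq
  haveI : CompactSpace (Points ((yon S).obj T)) := SpPts86.compactSpace_points_yon T
  haveI := SpPts86.compactSpace_of_isQuasiCompactMor hjqc (IsAlgSpace.yon_obj T) sq
  haveI : CompactSpace ↥V.left := (Points.schemeHomeo V).symm.compactSpace
  rw [SpPts86.preimage_ofPt_range_map sq]
  exact ⟨isCompact_range snd.left.continuous, snd.left.isOpenEmbedding.isOpen_range⟩

theorem mem_iSup_killed {X : Sp S} (M : ModEt X) {E : EtOver X} (J : Ideal (Γt E)) {x : SectM M E} :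
    x ∈ ⨆ n : ℕ, killed M (J ^ n) ↔ ∃ n : ℕ, ∀ a ∈ J ^ n, a • x = 0 := by
  have hmono : Monotone fun n : ℕ => killed M (J ^ n) := fun m n h y hy a ha => hy a (Ideal.pow_le_pow_right h ha)
  exact Submodule.mem_iSup_of_directed _ (Monotone.directed_le hmono)

/-- Sections supported on a closed subset with quasi-compact complement. -/
theorem exists_supported {X : Sp S} (M : ModEt X) [M.IsQuasicoherent] (T : Set (Points X))
    (h1 : ∀ W : EtOver X, Aff W → ∃ I : Ideal (Γt W), I.FG ∧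
      W.obj.left.left.zeroLocus (U := ⊤) (I : Set (Γt W)) = {w | Points.ofPt W.obj.hom w ∈ T}) :
    ∃ (F' : ModEt X) (ι : F' ⟶ M), Mono ι ∧ F'.IsQuasicoherent ∧
      (∀ W : EtOver X, Aff W → Set.range (appM ι W) = {x : SectM M W | W.obj.left.left.zeroLocus (U := ⊤)
        ((AlgSp.annSect (show sectModEt M W from x) : Ideal (Γt W)) : Set (Γt W)) ⊆
          {w | Points.ofPt W.obj.hom w ∈ T}}) ∧
      ∀ W : EtOver X, Aff W → ∀ I : Ideal (Γt W), I.FG →
        W.obj.left.left.zeroLocus (U := ⊤) (I : Set (Γt W)) = {w | Points.ofPt W.obj.hom w ∈ T} →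
        Set.range (appM ι W) = {x : SectM M W | ∃ n : ℕ, ∀ a ∈ I ^ n, a • x = 0} := by
  choose I hI hIT using h1
  let Q : ∀ W : EtOver X, Aff W → Submodule (Γt W) (SectM M W) := fun W hW => ⨆ n : ℕ, killed M (I W hW ^ n)
  have key : ∀ (W : EtOver X) (hW : Aff W) (J : Ideal (Γt W)), J.FG →
      W.obj.left.left.zeroLocus (U := ⊤) (J : Set (Γt W)) = {w | Points.ofPt W.obj.hom w ∈ T} →
      ∀ x : SectM M W, W.obj.left.left.zeroLocus (U := ⊤)
        ((AlgSp.annSect (show sectModEt M W from x) : Ideal (Γt W)) : Set (Γt W)) ⊆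
          {w | Points.ofPt W.obj.hom w ∈ T} ↔ ∃ n : ℕ, ∀ a ∈ J ^ n, a • x = 0 := fun W hW J hJ hJT x => by
    haveI := hW
    rw [← hJT, zeroLocus_subset_iff]
    refine ⟨fun h => ?_, fun ⟨n, hn⟩ a ha => ⟨n, hn _ (Ideal.pow_mem_pow ha n)⟩⟩
    obtain ⟨n, hn⟩ := Ideal.exists_pow_le_of_le_radical_of_fg h hJ
    exact ⟨n, fun a ha => hn ha⟩
  have any : ∀ (W : EtOver X) (hW : Aff W) (J : Ideal (Γt W)), J.FG →
      W.obj.left.left.zeroLocus (U := ⊤) (J : Set (Γt W)) = {w | Points.ofPt W.obj.hom w ∈ T} →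
      ∀ x : SectM M W, x ∈ Q W hW ↔ ∃ n : ℕ, ∀ a ∈ J ^ n, a • x = 0 := fun W hW J hJ hJT x =>
    (mem_iSup_killed M (I W hW)).trans ((key W hW _ (hI W hW) (hIT W hW) x).symm.trans (key W hW J hJ hJT x))
  have hmap : ∀ {W' W : EtOver X} (g : W' ⟶ W) (hW : Aff W), ((I W hW).map (cmap g)).FG ∧
      W'.obj.left.left.zeroLocus (U := ⊤) (((I W hW).map (cmap g) : Ideal (Γt W')) : Set (Γt W')) =
        {w | Points.ofPt W'.obj.hom w ∈ T} := fun {W' W} g hW => by
    refine ⟨Ideal.FG.map (hI W hW) _, ?_⟩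
    rw [zeroLocus_map_appTop, hIT W hW]
    ext w
    show Points.ofPt W.obj.hom _ ∈ T ↔ Points.ofPt W'.obj.hom w ∈ T
    rw [← SpPts86.ofPt_comp, show (yon S).map g.hom.left ≫ W.obj.hom = W'.obj.hom from CostructuredArrow.w g.hom]
  have hres : ∀ {W' W : EtOver X} (g : W' ⟶ W) (hW : Aff W) (hW' : Aff W'),
      ∀ x ∈ Q W hW, resM M g x ∈ Q W' hW' := fun {W' W} g hW hW' x hx => by
    obtain ⟨n, hn⟩ := (mem_iSup_killed M (I W hW)).1 hx
    refine (any W' hW' _ (hmap g hW).1 (hmap g hW).2 _).2 ⟨n, ?_⟩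
    rw [← Ideal.map_pow]
    exact killed_map g hn
  have hspan : ∀ {W' W : EtOver X} (g : W' ⟶ W) (hW : Aff W) (hW' : Aff W'),
      Q W' hW' ≤ Submodule.span (Γt W') (resM M g '' Q W hW) := fun {W' W} g hW hW' y hy => by
    haveI := hW
    haveI := hW'
    obtain ⟨n, hn⟩ := (any W' hW' _ (hmap g hW).1 (hmap g hW).2 _).1 hy
    rw [← Ideal.map_pow] at hn
    exact Submodule.span_mono (Set.image_mono fun s hs => (mem_iSup_killed M (I W hW)).2 ⟨n, hs⟩)
      (mem_span_killed_ideal g ((hI W hW).pow (n := n)) hn)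
  refine ⟨_, subι M Q hspan, inferInstance, isQuasicoherent_subM M Q hres hspan, fun W hW => ?_,
    fun W hW J hJ hJT => ?_⟩
  · refine (congrArg (fun P : Submodule (Γt W) (SectM M W) => (P : Set (SectM M W)))
      (range_subι M Q hres hspan W hW)).trans (Set.ext fun x => ?_)
    exact (mem_iSup_killed M (I W hW)).trans (key W hW _ (hI W hW) (hIT W hW) x).symm
  · exact (congrArg (fun P : Submodule (Γt W) (SectM M W) => (P : Set (SectM M W)))
      (range_subι M Q hres hspan W hW)).trans (Set.ext fun x => any W hW J hJ hJT x)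

end Groth.Agent.SpQC86
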