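import Groth.Agent.SpQC86.SubFamClimb
import Groth.Agent.SpQC86.ClosedSub
import Groth.Agent.SpPts86.IdealBridge
import Groth.Agent.SpPts86.IdealGlueSp
import Groth.Agent.SpFP87.RedInduced

/-!
Quasi-compact open subspaces are the complements of ideals of finite type.
-/

set_option autoImplicit false
set_option linter.style.haveILetI false
set_option backward.isDefEq.respectTransparency false

universe u

open CategoryTheory CategoryTheory.Limits AlgebraicGeometry Opposite
open AlgSp Groth.Agent.SpQC61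

namespace Groth.Agent.SpQC86

variable {S : Scheme.{u}}

theorem range_closedImmersion_eq_zeroLocus {A T : Scheme.{u}} [IsAffine T] (f : A ⟶ T) [IsClosedImmersion f] :
    Set.range f = T.zeroLocus (U := ⊤) (RingHom.ker f.appTop.hom : Set Γ(T, ⊤)) := by
  rw [← SpPts86.ker_ideal_top f]
  have h1 : (f.ker.support : Set T) = closure (Set.range f) := f.support_ker
  rw [f.isClosedEmbedding.isClosed_range.closure_eq] at h1
  have h2 : (f.ker.support : Set T) ∩ ((⊤ : T.Opens) : Set T) =
      T.zeroLocus (U := ⊤) (f.ker.ideal ⟨⊤, isAffineOpen_top T⟩ : Set Γ(T, ⊤)) ∩ ((⊤ : T.Opens) : Set T) :=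
    f.ker.coe_support_inter ⟨⊤, isAffineOpen_top T⟩
  simpa [h1] using h2

variable {X : Sp S}

theorem preimage_range_of_repWith {Z : Sp S} {i : Z ⟶ X} (hi : RepWith @IsClosedImmersion i) (E : EtOver X) [Aff E] :
    Points.ofPt E.obj.hom ⁻¹' Set.range (Points.map i) =
      E.obj.left.left.zeroLocus (U := ⊤) ((idealOfRep hi.1).ideal E ‹_› : Set (Γt E)) := by
  haveI : IsClosedImmersion (hi.1.snd E.obj.hom).left := hi.2 _ _ _ (hi.1.isPullback _)
  rw [SpPts86.preimage_ofPt_range_map (hi.1.isPullback E.obj.hom), range_closedImmersion_eq_zeroLocus]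
  rfl

/-- Functions as sections of the structure sheaf. -/
noncomputable def unitEquiv (E : EtOver X) : SectM (unitModEt X) E ≃ₗ[Γt E] Γt E where
  toFun x := (show (OEtRing X).obj.obj (op E) from x).down
  invFun a := (show (OEtRing X).obj.obj (op E) from ULift.up a)
  map_add' _ _ := rfl
  map_smul' _ _ := rfl
  left_inv _ := rfl
  right_inv _ := rfl

theorem unitEquiv_res {E' E : EtOver X} (g : E' ⟶ E) (x : SectM (unitModEt X) E) :
    unitEquiv E' (resM (unitModEt X) g x) = cmap g (unitEquiv E x) := rfl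

theorem isQuasicoherent_unitModEt : (unitModEt X).IsQuasicoherent := by
  refine isQuasicoherent_of_good _ fun E hE E' g hE' => ?_
  letI := (cmap g).toAlgebra
  let e : TensorProduct (Γt E) (Γt E') (SectM (unitModEt X) E) ≃ₗ[Γt E] Γt E' :=
    (TensorProduct.congr (LinearEquiv.refl (Γt E) (Γt E')) (unitEquiv E)).trans (TensorProduct.rid (Γt E) (Γt E'))
  have h : ∀ z, unitEquiv E' (bcM (unitModEt X) g z) = e z := fun z => by
    induction z using TensorProduct.induction_on with
    | zero =>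
      rw [map_zero e, show bcM (unitModEt X) g 0 = 0 from map_zero _]
      exact map_zero _
    | tmul b m =>
      show unitEquiv E' (b • resM (unitModEt X) g m) = unitEquiv E m • b
      rw [LinearEquiv.map_smul, unitEquiv_res]
      exact mul_comm _ _
    | add p q hp hq =>
      rw [map_add e, show bcM (unitModEt X) g (p + q) = bcM (unitModEt X) g p + bcM (unitModEt X) g q from map_add _ _ _,
        map_add, hp, hq]
  refine ⟨fun a b hab => e.injective ((h a).symm.trans ((congrArg (unitEquiv E') hab).trans (h b))),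
    fun y => ⟨e.symm (unitEquiv E' y), (unitEquiv E').injective ((h _).trans (e.apply_symm_apply _))⟩⟩

/-- A complement of a quasi-compact open set is the zero locus of an ideal of finite type. -/
theorem exists_ideal_of_qc_open {X : Space S} [QuasiSeparatedSpace ↥S] (hqc : IsQuasiCompactSp X.obj)
    (hqs : IsQuasiSeparatedSp X.obj) {O : Set (Points X.obj)} (hO : IsOpen O) (hOc : IsCompact O) :
    ∃ I : IdealEt X.obj, I.IsQCoh ∧ (∀ (E : EtOver X.obj) (hE : Aff E), (I.ideal E hE).FG) ∧
      ∀ (E : EtOver X.obj) (hE : Aff E),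
        E.obj.left.left.zeroLocus (U := ⊤) (I.ideal E hE : Set (Γt E)) = (Points.ofPt E.obj.hom ⁻¹' O)ᶜ := by
  obtain ⟨Z, i, hZ, hi⟩ := SpFP87.exists_isRedInduced X.property Oᶜ hO.isClosed_compl
  let I₀ := idealOfRep hi.1.1
  have hI₀ : I₀.IsQCoh := SpPts86.idealOfRep_isQCoh hi.1.1
    (SpPts86.isQuasiCompactMor_of_repWith X.property
      (SpPts86.repWith_mono (fun _ _ f (_ : IsClosedImmersion f) => (inferInstance : QuasiCompact f)) hi.1))
  have hI₀T : ∀ (E : EtOver X.obj) (hE : Aff E),
      E.obj.left.left.zeroLocus (U := ⊤) (I₀.ideal E hE : Set (Γt E)) = (Points.ofPt E.obj.hom ⁻¹' O)ᶜ := fun E hE => by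
    haveI := hE
    rw [← preimage_range_of_repWith hi.1 E, hi.2.1, Set.preimage_compl]
  haveI := isQuasicoherent_unitModEt (X := X.obj)
  let Q : ∀ E : EtOver X.obj, Aff E → Submodule (Γt E) (SectM (unitModEt X.obj) E) := fun E hE =>
    Submodule.comap (unitEquiv E).toLinearMap (I₀.ideal E hE)
  have hres : ∀ {E' E : EtOver X.obj} (g : E' ⟶ E) (hE : Aff E) (hE' : Aff E'),
      ∀ x ∈ Q E hE, resM (unitModEt X.obj) g x ∈ Q E' hE' := fun g hE hE' x hx =>
    I₀.map_le g hE hE' (Ideal.mem_map_of_mem (cmap g) hx)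
  have hspan : ∀ {E' E : EtOver X.obj} (g : E' ⟶ E) (hE : Aff E) (hE' : Aff E'),
      Q E' hE' ≤ Submodule.span (Γt E') (resM (unitModEt X.obj) g '' Q E hE) := fun {E' E} g hE hE' x hx => by
    have h : ∀ a ∈ (I₀.ideal E hE).map (cmap g),
        (unitEquiv E').symm a ∈ Submodule.span (Γt E') (resM (unitModEt X.obj) g '' Q E hE) := fun a ha => by
      induction ha using Submodule.span_induction with
      | mem a ha =>
        obtain ⟨b, hb, rfl⟩ := ha
        exact Submodule.subset_span ⟨(unitEquiv E).symm b, hb, rfl⟩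
      | zero => rw [map_zero]; exact Submodule.zero_mem _
      | add p q _ _ hp hq => rw [map_add]; exact Submodule.add_mem _ hp hq
      | smul r p _ hp => rw [smul_eq_mul, ← smul_eq_mul, LinearEquiv.map_smul]; exact Submodule.smul_mem _ r hp
    exact h _ (hI₀ g hE hE' hx)
  haveI := isQuasicoherent_subM (unitModEt X.obj) Q hres hspan
  let M₀ := subM (unitModEt X.obj) Q hspan
  let κ := subι (unitModEt X.obj) Q hspan
  haveI := SpPts86.compactSpace_points_of_isQuasiCompactSp hqc
  obtain ⟨V, p, hV, hp, hps⟩ := SpPts86.exists_affine_chart_of_compactSpace X.property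
  let A : EtOver X.obj := EtOver.mk p hp
  haveI : Aff A := hV
  have hAc : IsCompact (Points.ofPt A.obj.hom ⁻¹' O) :=
    haveI : IsAffine A.obj.left.left := hV
    SpProper61.isCompact_preimage_ofPt X.property hqs A.obj.hom hO hOc
  obtain ⟨J, hJf, hJT⟩ := exists_fg_of_compact_open (W := A.obj.left.left) hAc
    (hO.preimage (Points.continuous_ofPt A.obj.hom))
  have hJr : J ≤ (I₀.ideal A hV).radical := (zeroLocus_subset_iff _ _).1 (by rw [hJT, hI₀T A hV])
  obtain ⟨n, hn⟩ := Ideal.exists_pow_le_of_le_radical_of_fg hJr hJf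
  obtain ⟨s, hs⟩ := hJf.pow (n := n + 1)
  have hsI : ∀ a ∈ s, a ∈ I₀.ideal A hV := fun a ha =>
    hn (Ideal.pow_le_pow_right (Nat.le_succ n) (hs ▸ Submodule.subset_span ha))
  have hmem : ∀ a ∈ s, ∃ y : SectM M₀ A, appM κ A y = (unitEquiv A).symm a := fun a ha =>
    (range_subι (unitModEt X.obj) Q hres hspan A hV).ge (hsI a ha)
  choose y hy using hmem
  obtain ⟨m, ⟨e⟩⟩ := Finite.exists_equiv_fin ↥(s : Set (Γt A))
  obtain ⟨N, hN⟩ := exists_subFam_containing hqc hqs M₀ (ι := Fin m) (fun _ => A) (fun _ => hV)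
    (fun k => y (e.symm k).1 (e.symm k).2)
  let φ : ∀ E : EtOver X.obj, SectM M₀ E →ₗ[Γt E] Γt E := fun E => (unitEquiv E).toLinearMap ∘ₗ appM κ E
  have hφ : ∀ {E' E : EtOver X.obj} (g : E' ⟶ E) (z : SectM M₀ E), φ E' (resM M₀ g z) = cmap g (φ E z) :=
    fun {E' E} g z => (congrArg (unitEquiv E') (appM_res κ g z)).trans (unitEquiv_res g _)
  let I : IdealEt X.obj :=
    { ideal := fun E hE => (N.Q E hE (inOp_univ E)).map (φ E)
      map_le := fun {E E'} g hE hE' => Ideal.map_le_iff_le_comap.2 fun a ⟨z, hz, hza⟩ =>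
        ⟨resM M₀ g z, N.res g hE (inOp_univ E) hE' z hz, (hφ g z).trans (congrArg (cmap g) hza)⟩ }
  have hle : ∀ (E : EtOver X.obj) (hE : Aff E), I.ideal E hE ≤ I₀.ideal E hE := fun E hE => by
    rintro _ ⟨z, -, rfl⟩
    exact (range_subι (unitModEt X.obj) Q hres hspan E hE).le (LinearMap.mem_range_self (appM κ E) z)
  have hIA : (Ideal.span (s : Set (Γt A))) ≤ I.ideal A hV := Ideal.span_le.2 fun a ha => by
    refine ⟨y a ha, ?_, ?_⟩
    · have h := hN (e ⟨a, ha⟩)
      rwa [show y (e.symm (e ⟨a, ha⟩)).1 (e.symm (e ⟨a, ha⟩)).2 = y a ha by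
        simp only [Equiv.symm_apply_apply]] at h
    · exact (congrArg (unitEquiv A) (hy a ha)).trans ((unitEquiv A).apply_symm_apply a)
  have hq : I.IsQCoh := fun {E E'} g hE hE' => by
    rintro _ ⟨z, hz, rfl⟩
    have hz' := N.span g hE (inOp_univ E) hE' hz
    clear hz
    induction hz' using Submodule.span_induction with
    | mem z hz =>
      obtain ⟨w, hw, rfl⟩ := hz
      rw [hφ]
      exact Ideal.mem_map_of_mem _ ⟨w, hw, rfl⟩
    | zero => rw [map_zero]; exact Submodule.zero_mem _
    | add a b _ _ ha hb => rw [map_add]; exact Submodule.add_mem _ ha hb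
    | smul r a _ ha => rw [LinearMap.map_smul]; exact Submodule.smul_mem _ r ha
  refine ⟨I, hq, fun E hE => (N.fg E hE (inOp_univ E)).map _, fun E hE => Set.Subset.antisymm (fun v hv hvO => ?_) ?_⟩
  · haveI := hE
    obtain ⟨W, j, g, w, hw⟩ := exists_over_nhd E A v (by
      obtain ⟨t, ht⟩ := SpPts86.surjective_ofPt hps (Points.ofPt E.obj.hom v)
      exact ⟨t, ht⟩)
    obtain ⟨U, hU, hwU, -⟩ := exists_isAffineOpen_mem_and_subset (x := w) (U := (⊤ : W.obj.left.left.Opens)) trivial
    let P := openObj W U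
    let pj : P ⟶ E := openObjι W U ≫ j
    let pg : P ⟶ A := openObjι W U ≫ g
    haveI : Aff P := hU
    let w' : ↥P.obj.left.left := ⟨w, hwU⟩
    have hvw : pj.hom.left.left w' = v := hw
    have hPz : P.obj.left.left.zeroLocus (U := ⊤) (I.ideal P hU : Set (Γt P)) ⊆
        P.obj.left.left.zeroLocus (U := ⊤) (((I.ideal A hV).map (cmap pg) : Ideal (Γt P)) : Set (Γt P)) :=
      (zeroLocus_subset_iff _ _).2 ((I.map_le pg hV hU).trans Ideal.le_radical)
    have h1 : w' ∈ P.obj.left.left.zeroLocus (U := ⊤) (I.ideal P hU : Set (Γt P)) := by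
      refine (zeroLocus_subset_iff _ _).2 (((hq pj hE hU)).trans Ideal.le_radical) ?_
      rw [zeroLocus_map_appTop]
      refine Set.mem_preimage.2 ?_
      rw [hvw]
      exact hv
    have h2 := hPz h1
    rw [zeroLocus_map_appTop] at h2
    have h3 : pg.hom.left.left w' ∈ A.obj.left.left.zeroLocus (U := ⊤) (J : Set (Γt A)) := by
      refine (zeroLocus_subset_iff _ _).2 ?_ h2
      intro a ha
      exact ⟨n + 1, hIA (hs.ge (Ideal.pow_mem_pow ha (n + 1)))⟩
    rw [hJT] at h3
    refine h3 ?_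
    show Points.ofPt A.obj.hom (pg.hom.left.left w') ∈ O
    rw [ofPt_hom pg w', ← ofPt_hom pj w', hvw]
    exact hvO
  · haveI := hE
    rw [← hI₀T E hE]
    exact (zeroLocus_subset_iff _ _).2 ((hle E hE).trans Ideal.le_radical)

end Groth.Agent.SpQC86
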