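import Groth.Agent.SpQC86.SubFamClimb
import Groth.Agent.SpQC86.Largest
import Groth.Agent.SpPts86.EtRestrict
import Groth.Agent.SpProper61.Induction

/-!
Submodules of finite type on a quasi-compact open subspace extend.
-/

set_option autoImplicit false
set_option linter.style.haveILetI false
set_option backward.isDefEq.respectTransparency false

universe u

open CategoryTheory CategoryTheory.Limits AlgebraicGeometry Opposite
open AlgSp Groth.Agent.SpQC61

namespace Groth.Agent.SpQC86

variable {S : Scheme.{u}}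

theorem mono_restr {U X : Sp S} {j : U ⟶ X} (hje : RepWith @Etale j) {A B : ModEt X} (f : A ⟶ B) [Mono f] :
    Mono ((SpPts86.restrModEt hje).map f) :=
  inferInstance

variable {U X : Space S} (j : U ⟶ X) (hj : RepWith @IsOpenImmersion j.hom)

include hj in
theorem repWith_etale_open : RepWith @Etale j.hom :=
  SpPts86.repWith_mono (fun _ _ g (_ : IsOpenImmersion g) => (inferInstance : Etale g)) hj

theorem inOp_postComp (hje : RepWith @Etale j.hom) (V : EtOver U.obj) :
    InOp (Set.range (Points.map j.hom)) ((SpPts86.postComp hje).obj V) :=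
  fun v => ⟨Points.ofPt V.obj.hom v, Points.map_ofPt V.obj.hom j.hom v⟩

include hj in
/-- An object lying in the open subspace comes from it. -/
theorem exists_iso_postComp (hje : RepWith @Etale j.hom) (E : EtOver X.obj)
    (h : InOp (Set.range (Points.map j.hom)) E) :
    ∃ V : EtOver U.obj, Nonempty ((SpPts86.postComp hje).obj V ≅ E) := by
  obtain ⟨k, hk⟩ := SpPts86.exists_factor_of_range_subset hj E.obj.hom (by
    rintro _ ⟨x, rfl⟩
    obtain ⟨t, rfl⟩ := (Points.schemeHomeo E.obj.left).surjective x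
    show Points.map E.obj.hom (Points.ofScheme E.obj.left t) ∈ _
    rw [← Points.ofPt_eq_map_ofScheme]
    exact h t)
  have hke : RepWith @Etale k := SpPts86.repWith_etale_of_isEtaleMor U.property (U.property.representable_from_yon k)
    (SpPts86.isEtaleMor_of_comp U.property (SpPts86.isEtaleMor_of_repWith_etale hje)
      (hk.symm ▸ SpPts86.isEtaleMor_of_repWith_etale E.property))
  refine ⟨EtOver.mk k hke, ⟨⟨EtOver.homMk (𝟙 E.obj.left) ?_, EtOver.homMk (𝟙 E.obj.left) ?_,
    EtOver.hom_ext _ _ (Category.id_comp _), EtOver.hom_ext _ _ (Category.id_comp _)⟩⟩⟩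
  · show (yon S).map (𝟙 E.obj.left) ≫ E.obj.hom = k ≫ j.hom
    rw [CategoryTheory.Functor.map_id, Category.id_comp, hk]
  · show (yon S).map (𝟙 E.obj.left) ≫ k ≫ j.hom = E.obj.hom
    rw [CategoryTheory.Functor.map_id, Category.id_comp, hk]

include hj in
theorem exists_postComp_map (hje : RepWith @Etale j.hom) {V V' : EtOver U.obj}
    (g : (SpPts86.postComp hje).obj V' ⟶ (SpPts86.postComp hje).obj V) :
    ∃ k : V' ⟶ V, (SpPts86.postComp hje).map k = g := by
  haveI := SpPts86.mono_of_repWith_le SpPts86.isOpenImmersion_le_monomorphisms hj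
  exact ⟨EtOver.homMk g.hom.left ((cancel_mono j.hom).1 ((Category.assoc _ _ _).trans (EtOver.w g))),
    EtOver.hom_ext _ _ rfl⟩

variable {M : ModEt X.obj} [M.IsQuasicoherent]

section Fam

variable (hje : RepWith @Etale j.hom) {G : ModEt U.obj} (γ : G ⟶ (SpPts86.restrModEt hje).obj M)

/-- Sections of the restriction are sections. -/
noncomputable abbrev toM (V : EtOver U.obj) (y : SectM ((SpPts86.restrModEt hje).obj M) V) :
    SectM M ((SpPts86.postComp hje).obj V) := y

omit [M.IsQuasicoherent] in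
theorem toM_res {V V' : EtOver U.obj} (k : V' ⟶ V) (y : SectM ((SpPts86.restrModEt hje).obj M) V) :
    toM j hje V' (resM _ k y) = resM M ((SpPts86.postComp hje).map k) (toM j hje V y) := rfl

omit [M.IsQuasicoherent] in
theorem toM_smul (V : EtOver U.obj) (r : Γt V) (y : SectM ((SpPts86.restrModEt hje).obj M) V) :
    toM j hje V (r • y) = (show Γt ((SpPts86.postComp hje).obj V) from r) • toM j hje V y := rfl

/-- The image of the sections. -/
noncomputable def imQ (V : EtOver U.obj) : Submodule (Γt ((SpPts86.postComp hje).obj V))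
    (SectM M ((SpPts86.postComp hje).obj V)) where
  carrier := Set.range fun y => toM j hje V (appM γ V y)
  zero_mem' := ⟨0, congrArg (toM j hje V) (map_zero (appM γ V))⟩
  add_mem' := by
    rintro _ _ ⟨p, rfl⟩ ⟨q, rfl⟩
    exact ⟨p + q, congrArg (toM j hje V) (map_add (appM γ V) p q)⟩
  smul_mem' := by
    rintro r _ ⟨p, rfl⟩
    exact ⟨(show Γt V from r) • p, (congrArg (toM j hje V) (LinearMap.map_smul (appM γ V) _ p)).trans (toM_smul j hje V r _)⟩

omit [M.IsQuasicoherent] in
theorem resM_mem_imQ {V V' : EtOver U.obj} (k : V' ⟶ V) {x : SectM M ((SpPts86.postComp hje).obj V)}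
    (hx : x ∈ imQ j hje γ V) : resM M ((SpPts86.postComp hje).map k) x ∈ imQ j hje γ V' := by
  obtain ⟨y, rfl⟩ := hx
  exact ⟨resM G k y, (congrArg (toM j hje V') (appM_res γ k y)).trans (toM_res j hje k _)⟩

omit [M.IsQuasicoherent] in
theorem imQ_le_spanRes [G.IsQuasicoherent] {V V' : EtOver U.obj} (k : V' ⟶ V) (hV : Aff V) (hV' : Aff V') :
    imQ j hje γ V' ≤ spanRes M ((SpPts86.postComp hje).map k) (imQ j hje γ V : Set (SectM M _)) := by
  haveI := hV
  haveI := hV'
  rintro _ ⟨y, rfl⟩
  suffices hz : ∀ z ∈ Submodule.span (Γt V') (resM ((SpPts86.restrModEt hje).obj M) k '' LinearMap.range (appM γ V)),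
      toM j hje V' z ∈ spanRes M ((SpPts86.postComp hje).map k) (imQ j hje γ V : Set (SectM M _)) from
    hz _ (range_spanning γ k (LinearMap.mem_range_self (appM γ V') y))
  intro z hz
  induction hz using Submodule.span_induction with
  | mem z hz =>
    obtain ⟨_, ⟨w, rfl⟩, rfl⟩ := hz
    rw [toM_res]
    exact resM_mem_spanRes _ ⟨w, rfl⟩
  | zero => exact Submodule.zero_mem _
  | add a b _ _ ha hb => exact Submodule.add_mem _ ha hb
  | smul r a _ ha =>
    rw [toM_smul]
    exact Submodule.smul_mem _ _ ha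

omit [M.IsQuasicoherent] in
theorem imQ_fg [G.IsQuasicoherent] [G.IsFiniteType] (V : EtOver U.obj) (hV : Aff V) : (imQ j hje γ V).FG := by
  haveI := hV
  obtain ⟨s, hs⟩ := (finite_sectM (M := G) V).fg_top
  refine Submodule.fg_def.2 ⟨(fun y => toM j hje V (appM γ V y)) '' (s : Set (SectM G V)), s.finite_toSet.image _,
    le_antisymm (Submodule.span_le.2 ?_) ?_⟩
  · rintro _ ⟨y, -, rfl⟩
    exact ⟨y, rfl⟩
  · rintro _ ⟨y, rfl⟩
    have hy : y ∈ Submodule.span (Γt V) (s : Set (SectM G V)) := hs.symm ▸ trivial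
    induction hy using Submodule.span_induction with
    | mem z hz => exact Submodule.subset_span ⟨z, hz, rfl⟩
    | zero =>
      show toM j hje V (appM γ V 0) ∈ _
      rw [map_zero]
      exact Submodule.zero_mem _
    | add a b _ _ ha hb =>
      show toM j hje V (appM γ V (a + b)) ∈ _
      rw [map_add]
      exact Submodule.add_mem _ ha hb
    | smul r a _ ha =>
      show toM j hje V (appM γ V (r • a)) ∈ _
      rw [LinearMap.map_smul, toM_smul]
      exact Submodule.smul_mem _ _ ha

/-- The sections whose pieces over the open subspace come from the submodule. -/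
noncomputable def openQ (E : EtOver X.obj) : Submodule (Γt E) (SectM M E) where
  carrier := {x | ∀ (V : EtOver U.obj) (_ : Aff V) (h : (SpPts86.postComp hje).obj V ⟶ E),
    resM M h x ∈ imQ j hje γ V}
  zero_mem' V _ h := by rw [map_zero]; exact Submodule.zero_mem _
  add_mem' {a b} ha hb V hV h := by rw [map_add]; exact Submodule.add_mem _ (ha V hV h) (hb V hV h)
  smul_mem' r a ha V hV h := by rw [resM_smul]; exact Submodule.smul_mem _ _ (ha V hV h)

omit [M.IsQuasicoherent] in
include hj in
theorem openQ_postComp {V : EtOver U.obj} (hV : Aff V) :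
    openQ j hje γ ((SpPts86.postComp hje).obj V) = imQ j hje γ V := by
  refine le_antisymm (fun x hx => resM_id x ▸ hx V hV (𝟙 _)) fun x hx V' _ h => ?_
  obtain ⟨k, rfl⟩ := exists_postComp_map j hj hje h
  exact resM_mem_imQ j hje γ k hx

omit [M.IsQuasicoherent] in
include hj in
theorem openQ_eq_of_iso {V : EtOver U.obj} (hV : Aff V) {E : EtOver X.obj} (e : (SpPts86.postComp hje).obj V ≅ E) :
    openQ j hje γ E = spanRes M e.inv (imQ j hje γ V : Set (SectM M _)) := by
  refine le_antisymm (fun x hx => ?_) (Submodule.span_le.2 ?_)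
  · have := resM_mem_spanRes (M := M) e.inv (show resM M e.hom x ∈ (imQ j hje γ V : Set _) from hx V hV e.hom)
    rwa [← resM_comp, e.inv_hom_id, resM_id] at this
  · rintro _ ⟨y, hy, rfl⟩
    exact fun V₁ hV₁ h₁ => by
      rw [← resM_comp]
      exact ((openQ_postComp j hj hje γ hV).ge hy) V₁ hV₁ (h₁ ≫ e.inv)

omit [M.IsQuasicoherent] in
include hj in
theorem exists_lift_aff (E : EtOver X.obj) (hE : Aff E) (h : InOp (Set.range (Points.map j.hom)) E) :
    ∃ (V : EtOver U.obj) (_ : (SpPts86.postComp hje).obj V ≅ E), Aff V := by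
  obtain ⟨V, ⟨e⟩⟩ := exists_iso_postComp j hj hje E h
  haveI : IsIso e.hom.hom.left.left :=
    inferInstanceAs (IsIso ((AlgSp.EtOver.forget X.obj ⋙ Over.forget S).map e.hom))
  haveI := hE
  exact ⟨V, e, IsAffine.of_isIso e.hom.hom.left.left⟩

omit [M.IsQuasicoherent] in
include hj in
/-- The family of a submodule over the open subspace. -/
theorem exists_subFam_of_open [G.IsQuasicoherent] [G.IsFiniteType] :
    ∃ N : SubFam M (Set.range (Points.map j.hom)), ∀ (V : EtOver U.obj) (hV : Aff V),
      N.Q ((SpPts86.postComp hje).obj V) hV (inOp_postComp j hje V) = imQ j hje γ V := by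
  refine ⟨{ Q := fun E _ _ => openQ j hje γ E
            res := fun {E' E} g _ _ _ x hx V hV h => by rw [← resM_comp]; exact hx V hV (h ≫ g)
            span := fun {E' E} g hE h hE' => ?_
            fg := fun E hE h => ?_ }, fun V hV => openQ_postComp j hj hje γ hV⟩
  · obtain ⟨V, e, hV⟩ := exists_lift_aff j hj hje E hE h
    obtain ⟨V', e', hV'⟩ := exists_lift_aff j hj hje E' hE' (h.of_hom g)
    obtain ⟨k, hk⟩ := exists_postComp_map j hj hje (e'.hom ≫ g ≫ e.inv)
    rw [openQ_eq_of_iso j hj hje γ hV' e', openQ_eq_of_iso j hj hje γ hV e, spanRes_comp]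
    refine (spanRes_mono e'.inv (imQ_le_spanRes j hje γ k hV hV')).trans ?_
    rw [spanRes_comp, hk, Iso.inv_hom_id_assoc]
  · obtain ⟨V, e, hV⟩ := exists_lift_aff j hj hje E hE h
    rw [openQ_eq_of_iso j hj hje γ hV e]
    exact spanRes_fg e.inv (imQ_fg j hje γ V hV)

end Fam

include hj in
/-- Submodules of finite type extend from quasi-compact opens. -/
theorem exists_extension [QuasiSeparatedSpace ↥S] (hqc : IsQuasiCompactSp X.obj) (hqs : IsQuasiSeparatedSp X.obj)
    (hU : IsQuasiCompactSp U.obj) [(SheafOfModules.pushforward.{u + 1} (bcRingHom hj.1)).IsRightAdjoint]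
    (G : ModEt U.obj) (g : G ⟶ (pullModEt hj.1).obj M) [Mono g] [G.IsQuasicoherent] [G.IsFiniteType] :
    ∃ (G' : ModEt X.obj) (g' : G' ⟶ M), Mono g' ∧ G'.IsQuasicoherent ∧ G'.IsFiniteType ∧
      ∃ e : (pullModEt hj.1).obj G' ≅ G, e.hom ≫ g = (pullModEt hj.1).map g' := by
  have hje := repWith_etale_open j hj
  let ψ := SpPts86.pullModEtIso hje hj.1
  let γ : G ⟶ (SpPts86.restrModEt hje).obj M := g ≫ ψ.hom.app M
  haveI : Mono γ := inferInstance
  obtain ⟨N, hN⟩ := exists_subFam_of_open j hj hje γ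
  haveI := SpPts86.compactSpace_points_of_isQuasiCompactSp hU
  obtain ⟨N', hN'⟩ := exists_subFam_extend hqc hqs M (SpPts86.isOpen_range_map hj)
    (isCompact_range (Points.continuous_map j.hom)) N
  obtain ⟨G', g', hm, hq, hf, hr⟩ := exists_sheaf_of_subFam M N'
  haveI := hm
  haveI := mono_restr hje g'
  let δ := (SpPts86.restrModEt hje).map g'
  have hQeq : ∀ (V : EtOver U.obj) (hV : Aff V),
      LinearMap.range (appM g' ((SpPts86.postComp hje).obj V)) = imQ j hje γ V := fun V hV =>
    (hr _ hV).trans ((hN' _ hV (inOp_postComp j hje V)).trans (hN V hV))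
  obtain ⟨a, ha⟩ := exists_fac γ δ fun V hV x => by
    obtain ⟨y, hy⟩ := (hQeq V hV).le (LinearMap.mem_range_self (appM g' ((SpPts86.postComp hje).obj V)) x)
    exact ⟨y, hy⟩
  obtain ⟨b, hb⟩ := exists_fac δ γ fun V hV x => by
    obtain ⟨y, hy⟩ := (hQeq V hV).ge ⟨x, rfl⟩
    exact ⟨y, hy⟩
  let e₀ : (SpPts86.restrModEt hje).obj G' ≅ G :=
    ⟨a, b, (cancel_mono δ).1 (by rw [Category.assoc, hb, ha, Category.id_comp]),
      (cancel_mono γ).1 (by rw [Category.assoc, ha, hb, Category.id_comp])⟩
  refine ⟨G', g', hm, hq, hf, ψ.app G' ≪≫ e₀, (cancel_mono (ψ.hom.app M)).1 ?_⟩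
  show ((ψ.hom.app G' ≫ a) ≫ g) ≫ ψ.hom.app M = _
  rw [ψ.hom.naturality g', Category.assoc, Category.assoc]
  exact congrArg (ψ.hom.app G' ≫ ·) ha

end Groth.Agent.SpQC86
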