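import Groth.Agent.SpQC86.Ses

/-!
Vanishing of first Cech cohomology: surjectivity on sections over affine objects.
-/

set_option autoImplicit false
set_option linter.style.haveILetI false
set_option backward.isDefEq.respectTransparency false

universe u

open CategoryTheory CategoryTheory.Limits AlgebraicGeometry Opposite
open AlgSp Groth.Agent.SpQC61
open scoped TensorProduct

namespace Groth.Agent.SpQC86

variable {S : Scheme.{u}} {X : Sp S}

/-- A Cech one-cocycle of a quasi-coherent module on an affine covering of an affine object is a coboundary. -/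
theorem exists_coboundary (M : ModEt X) [M.IsQuasicoherent] {m : ℕ} {E : EtOver X} [Aff E] {V : Fin m → EtOver X}
    (g : ∀ k, V k ⟶ E) (hV : ∀ k, Aff (V k))
    (hsurj : ∀ x : ↥E.obj.left.left, ∃ k, x ∈ Set.range (g k).hom.left.left)
    (a : ∀ k l, SectM M (EtOver.pullbackObj (g k) (g l)))
    (hcoc : ∀ k l n (T : EtOver X) (u : T ⟶ EtOver.pullbackObj (g n) (g k)) (u' : T ⟶ EtOver.pullbackObj (g n) (g l))
      (w : T ⟶ EtOver.pullbackObj (g k) (g l)),
      u ≫ EtOver.pullbackFst _ _ = u' ≫ EtOver.pullbackFst _ _ →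
      u ≫ EtOver.pullbackSnd _ _ = w ≫ EtOver.pullbackFst _ _ →
      u' ≫ EtOver.pullbackSnd _ _ = w ≫ EtOver.pullbackSnd _ _ →
      resM M u' (a n l) - resM M u (a n k) = resM M w (a k l)) :
    ∃ b : ∀ k, SectM M (V k), ∀ k l, resM M (EtOver.pullbackFst (g k) (g l)) (b k) -
      resM M (EtOver.pullbackSnd (g k) (g l)) (b l) = a k l := by
  haveI := hV
  classical
  let P : Fin m × Fin m → EtOver X := fun p => EtOver.pullbackObj (g p.1) (g p.2)
  let gp : ∀ p, P p ⟶ E := fun p => EtOver.pullbackFst (g p.1) (g p.2) ≫ g p.1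
  haveI hP : ∀ p, Aff (P p) := fun p => aff_pullback (g p.1) (g p.2)
  letI : ∀ l, Module (Γt E) (SectM M (V l)) := fun l => Module.compHom _ (cmap (g l))
  letI : ∀ p, Module (Γt E) (SectM M (P p)) := fun p => Module.compHom _ (cmap (gp p))
  letI : ∀ k, Algebra (Γt E) (Γt (V k)) := fun k => (cmap (g k)).toAlgebra
  haveI : ∀ k, Module.Flat (Γt E) (Γt (V k)) := fun k => flat_cmap (g k)
  let rf : ∀ p : Fin m × Fin m, SectM M (V p.1) →ₗ[Γt E] SectM M (P p) := fun p =>
    { toFun := resM M (EtOver.pullbackFst (g p.1) (g p.2))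
      map_add' := map_add _
      map_smul' := fun a x => by
        show resM M (EtOver.pullbackFst (g p.1) (g p.2)) (cmap (g p.1) a • x) = cmap (gp p) a • _
        rw [resM_smul, ← RingHom.comp_apply, ← cmap_comp] }
  let rs : ∀ p : Fin m × Fin m, SectM M (V p.2) →ₗ[Γt E] SectM M (P p) := fun p =>
    { toFun := resM M (EtOver.pullbackSnd (g p.1) (g p.2))
      map_add' := map_add _
      map_smul' := fun a x => by
        show resM M (EtOver.pullbackSnd (g p.1) (g p.2)) (cmap (g p.2) a • x) = cmap (gp p) a • _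
        rw [resM_smul, ← RingHom.comp_apply, ← cmap_comp, ← EtOver.pullback_condition] }
  let d0 : (∀ l, SectM M (V l)) →ₗ[Γt E] ∀ p, SectM M (P p) :=
    LinearMap.pi fun p => (rf p).comp (LinearMap.proj p.1) - (rs p).comp (LinearMap.proj p.2)
  let A : ∀ p, SectM M (P p) := fun p => a p.1 p.2
  have hzero : (LinearMap.range d0).mkQ A = 0 := by
    refine eq_zero_of_forall_one_tmul (fun k => Γt (V k)) (exists_prime_preimage g hsurj) _ fun n => ?_
    choose w hw using fun l => (phiM_bijective M (g n) (g l) (goodM_of_isQuasicoherent M (V l))).2 (-(a n l))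
    let W := (TensorProduct.piRight (Γt E) (Γt E) (Γt (V n)) fun l => SectM M (V l)).symm w
    have hW : ∀ l, (LinearMap.proj (φ := fun l => SectM M (V l)) (R := Γt E) l).lTensor (Γt (V n)) W = w l := fun l => by
      have h1 := piRight_lTensor (fun l => LinearMap.proj (φ := fun l => SectM M (V l)) (R := Γt E) l) W l
      rw [LinearMap.pi_proj, LinearMap.lTensor_id, LinearMap.id_apply] at h1
      exact h1.symm.trans (congrFun (LinearEquiv.apply_symm_apply _ w) l)
    have hd : d0.lTensor (Γt (V n)) W = (1 : Γt (V n)) ⊗ₜ[Γt E] A := by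
      refine (TensorProduct.piRight (Γt E) (Γt E) (Γt (V n)) fun p => SectM M (P p)).injective (funext fun p => ?_)
      rw [piRight_lTensor, LinearMap.lTensor_sub, LinearMap.sub_apply, LinearMap.lTensor_comp, LinearMap.lTensor_comp,
        LinearMap.comp_apply, LinearMap.comp_apply, hW, hW, TensorProduct.piRight_apply, TensorProduct.piRightHom_tmul]
      refine (phiM_bijective M (g n) (gp p) (goodM_of_isQuasicoherent M (P p))).1 ?_
      obtain ⟨u, hu₁, hu₂⟩ := PullbackCone.IsLimit.lift' (EtOver.pullbackIsLimit (g n) (g p.1))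
        (EtOver.pullbackFst (g n) (gp p)) (EtOver.pullbackSnd (g n) (gp p) ≫ EtOver.pullbackFst (g p.1) (g p.2))
        (by rw [EtOver.pullback_condition, Category.assoc])
      obtain ⟨u', hu₁', hu₂'⟩ := PullbackCone.IsLimit.lift' (EtOver.pullbackIsLimit (g n) (g p.2))
        (EtOver.pullbackFst (g n) (gp p)) (EtOver.pullbackSnd (g n) (gp p) ≫ EtOver.pullbackSnd (g p.1) (g p.2))
        (by rw [EtOver.pullback_condition, Category.assoc, ← EtOver.pullback_condition (g p.1) (g p.2)])
      refine (map_sub (phiM M (g n) (gp p)) _ _).trans ?_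
      refine (congrArg₂ (· - ·) (phiM_natural M (g n) (g p.1) (gp p) _ u hu₁ hu₂ (rf p) (fun _ => rfl) (w p.1))
        (phiM_natural M (g n) (g p.2) (gp p) _ u' hu₁' hu₂' (rs p) (fun _ => rfl) (w p.2))).trans ?_
      rw [hw, hw, map_neg, map_neg, neg_sub_neg,
        hcoc p.1 p.2 n _ u u' (EtOver.pullbackSnd (g n) (gp p)) (hu₁.trans hu₁'.symm) hu₂ hu₂']
      show _ = cmap (EtOver.pullbackFst (g n) (gp p)) 1 • resM M (EtOver.pullbackSnd (g n) (gp p)) (A p)
      rw [map_one, one_smul]
    have h2 : ((1 : Γt (V n)) ⊗ₜ[Γt E] (LinearMap.range d0).mkQ A) =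
        ((LinearMap.range d0).mkQ.comp d0).lTensor (Γt (V n)) W := by
      rw [LinearMap.lTensor_comp, LinearMap.comp_apply, hd, LinearMap.lTensor_tmul]
    rw [h2, LinearMap.range_mkQ_comp, LinearMap.lTensor_zero, LinearMap.zero_apply]
  obtain ⟨b, hb⟩ := (Submodule.Quotient.mk_eq_zero (LinearMap.range d0)).1 hzero
  exact ⟨b, fun k l => congrFun hb (k, l)⟩

/-- A surjection with quasi-coherent kernel is surjective on sections over affine objects. -/
theorem appM_surjective {C : ShortComplex (ModEt X)} (hC : C.ShortExact) [C.X₁.IsQuasicoherent] (E : EtOver X)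
    [Aff E] : Function.Surjective (appM C.g E) := fun x => by
  haveI : Mono C.f := hC.mono_f
  haveI : Epi C.g := hC.epi_g
  haveI := isLocallySurjective_of_epi C.g
  obtain ⟨m, V, g, hV, hg, hsurj⟩ := exists_finite_affine_cover
    (Presheaf.imageSieve_mem (etTop X) ((PresheafOfModules.toPresheaf _).map C.g.val) (U := op E) x)
  obtain ⟨y, hy'⟩ : ∃ y : ∀ k, SectM C.X₂ (V k), ∀ k, appM C.g (V k) (y k) = resM C.X₃ (g k) x :=
    ⟨fun k => (hg k).choose, fun k => (hg k).choose_spec⟩
  have hker : ∀ k l, appM C.g _ (resM C.X₂ (EtOver.pullbackFst (g k) (g l)) (y k) -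
      resM C.X₂ (EtOver.pullbackSnd (g k) (g l)) (y l)) = 0 := fun k l => by
    rw [map_sub, appM_res, appM_res, hy', hy', ← resM_comp, ← resM_comp, EtOver.pullback_condition, sub_self]
  choose a ha using fun k l => (appM_exact hC _ _).1 (hker k l)
  obtain ⟨b, hb⟩ := exists_coboundary C.X₁ g hV hsurj a fun k l n T u u' w h1 h2 h3 => by
    apply appM_injective C.f T
    rw [map_sub, appM_res, appM_res, appM_res, ha, ha, ha, map_sub, map_sub, map_sub, ← resM_comp, ← resM_comp,
      ← resM_comp, ← resM_comp, ← resM_comp, ← resM_comp, h1, h2, h3, sub_sub_sub_cancel_left]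
  obtain ⟨z, hz⟩ := resM_exists_glue C.X₂ g hsurj (fun k => y k - appM C.f (V k) (b k))
    fun k l => by
      rw [map_sub, map_sub, ← appM_res, ← appM_res, sub_eq_sub_iff_sub_eq_sub, ← ha, ← map_sub, hb]
  refine ⟨z, resM_eq_of_cover C.X₃ g hsurj fun k => ?_⟩
  rw [← appM_res, hz, map_sub, (appM_exact hC (V k) _).2 ⟨b k, rfl⟩, sub_zero, hy']

/-- Extensions of modules with the base change property have it. -/
theorem isQuasicoherent_extension {C : ShortComplex (ModEt X)} (hC : C.ShortExact) (h1 : C.X₁.IsQuasicoherent)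
    (h3 : C.X₃.IsQuasicoherent) : C.X₂.IsQuasicoherent := by
  refine isQuasicoherent_of_good _ fun E hE => fun E' g ha => ?_
  haveI := hE
  haveI := ha
  exact bcM_five hC g (appM_surjective hC E) (appM_surjective hC E') (bcM_bijective C.X₁ g) (bcM_bijective C.X₃ g)

end Groth.Agent.SpQC86
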