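import Groth.Agent.SpQC86.LocProj
import Groth.Agent.SpPts86.EtRestrictChart

/-!
Zariski companions and sections over open pieces of a chart.
-/

set_option autoImplicit false
set_option linter.style.haveILetI false
set_option backward.isDefEq.respectTransparency false

universe u

open CategoryTheory CategoryTheory.Limits AlgebraicGeometry Opposite
open AlgSp Groth.Agent.SpQC61

namespace Groth.Agent.SpQC86

variable {S : Scheme.{u}} {U : Over S}

/-- An open of a scheme as an object of its small etale site. -/
noncomputable abbrev schObj (W : U.left.Opens) : EtOver ((yon S).obj U) :=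
  (EtOver.ofScheme U).obj (etaleOfOpen U.left W)

theorem aff_schObj {W : U.left.Opens} (hW : IsAffineOpen W) : Aff (schObj W) := hW

/-- Functions on an open of a scheme. -/
noncomputable def topRing (W : U.left.Opens) : Γt (schObj W) ≃+* (U.left.ringCatSheaf.obj.obj (op W) : Type u) :=
  W.topIso.commRingCatIsoToRingEquiv

variable {N : ModEt ((yon S).obj U)} {G : U.left.Modules} (c : ZarCompanion U.left G ((resSchModEt U).obj N))

/-- The companion on sections. -/
noncomputable def compEquiv (W : U.left.Opens) : SectM N (schObj W) ≃+ (G.val.obj (op W) : Type u) :=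
  (c.iso W).trans AddEquiv.ulift

theorem compEquiv_smul (W : U.left.Opens) (r : Γt (schObj W)) (m : SectM N (schObj W)) :
    compEquiv c W (r • m) = topRing W r • compEquiv c W m := by
  have h := c.map_smul W (W.topIso.hom r) m
  rw [show W.topIso.inv (W.topIso.hom r) = r from
    ConcreteCategory.congr_hom W.topIso.hom_inv_id r] at h
  exact congrArg ULift.down h

theorem small_of_companion (c : ZarCompanion U.left G ((resSchModEt U).obj N)) (W : U.left.Opens) :
    Small.{u} (SectM N (schObj W)) := small_map (compEquiv c W).toEquiv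

include c in
theorem projective_companion_iff (W : U.left.Opens) :
    Module.Projective (Γt (schObj W)) (SectM N (schObj W)) ↔
      Module.Projective (U.left.ringCatSheaf.obj.obj (op W)) (G.val.obj (op W)) := by
  haveI h1 : RingHomInvPair (topRing W).toRingHom (topRing W).symm.toRingHom :=
    ⟨(topRing W).symm_toRingHom_comp_toRingHom, (topRing W).toRingHom_comp_symm_toRingHom⟩
  haveI h2 : RingHomInvPair (topRing W).symm.toRingHom (topRing W).toRingHom := h1.symm
  let e : SectM N (schObj W) ≃ₛₗ[(topRing W).toRingHom] (G.val.obj (op W) : Type u) :=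
    { compEquiv c W with map_smul' := compEquiv_smul c W }
  exact ⟨fun h => haveI := h; Module.Projective.of_equiv e, fun h => haveI := h; Module.Projective.of_equiv e.symm⟩

variable {X : Sp S} {p : (yon S).obj U ⟶ X} (hp : RepWith @Etale p)

/-- An open of a chart as an etale object over the space. -/
noncomputable abbrev chartObj (W : U.left.Opens) : EtOver X := (SpPts86.postComp hp).obj (schObj W)

/-- Sections over an open of a chart, as a module over the functions on the open. -/
noncomputable instance chartModule (F : ModEt X) (W : U.left.Opens) : Module (Γt (schObj W)) (SectM F (chartObj hp W)) :=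
  sectMModule F (chartObj hp W)

/-- Sections of the restriction to a chart. -/
noncomputable def restrEquiv (F : ModEt X) (W : U.left.Opens) :
    SectM ((SpPts86.restrModEt hp).obj F) (schObj W) ≃ₗ[Γt (schObj W)] SectM F (chartObj hp W) where
  toFun x := x
  invFun x := x
  map_add' _ _ := rfl
  map_smul' _ _ := rfl

variable (hrep : Representable p) [(SheafOfModules.pushforward.{u + 1} (bcRingHom hrep)).IsRightAdjoint]
  {F : ModEt X} {G : U.left.Modules}

include hrep in
/-- Sections over an open of a chart and the companion of the inverse image. -/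
theorem chart_companion (c : ZarCompanion U.left G ((resSchModEt U).obj ((pullModEt hrep).obj F))) (W : U.left.Opens) :
    Small.{u} (SectM F (chartObj hp W)) ∧
      (Module.Projective (Γt (chartObj hp W)) (SectM F (chartObj hp W)) ↔
        Module.Projective (U.left.ringCatSheaf.obj.obj (op W)) (G.val.obj (op W))) := by
  let i := (SpPts86.pullModEtIso hp hrep).app F
  let e : SectM ((pullModEt hrep).obj F) (schObj W) ≃ₗ[Γt (schObj W)] SectM F (chartObj hp W) :=
    LinearEquiv.ofLinear (appM i.hom (schObj W)) (appM i.inv (schObj W))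
      (LinearMap.ext fun x => congrArg (fun f : _ ⟶ (SpPts86.restrModEt hp).obj F => appM f (schObj W) x) i.inv_hom_id)
      (LinearMap.ext fun x => congrArg (fun f : _ ⟶ (pullModEt hrep).obj F => appM f (schObj W) x) i.hom_inv_id)
      ≪≫ₗ restrEquiv hp F W
  haveI := small_of_companion c W
  refine ⟨small_map e.toEquiv.symm, Iff.trans ?_ (projective_companion_iff c W)⟩
  refine ⟨fun h => ?_, fun h => ?_⟩
  · have h' : Module.Projective (Γt (schObj W)) (SectM F (chartObj hp W)) := h
    haveI := h'
    exact Module.Projective.of_equiv' e.symm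
  · haveI := h
    have h' : Module.Projective (Γt (schObj W)) (SectM F (chartObj hp W)) := Module.Projective.of_equiv' e
    exact h'

/-- Near every point, an object over the space maps to an affine open of a surjective chart. -/
theorem exists_hom_chartObj (hs : RepWith @Surjective p) (E : EtOver X) (x : ↥E.obj.left.left) :
    ∃ (V : EtOver X) (v : V ⟶ E) (W : U.left.Opens) (_ : IsAffineOpen W) (_ : V ⟶ chartObj hp W),
      x ∈ Set.range v.hom.left.left := by
  obtain ⟨Q, g, ⟨⟨⟩, ⟨l⟩⟩, y, hy⟩ := SpPts86.exists_mem_range_of_mem_etTop (SpPts86.coversTop_chart hp hs E) x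
  obtain ⟨W, hW, hyW, -⟩ :=
    exists_isAffineOpen_mem_and_subset (x := l.hom.left.left y) (U := (⊤ : U.left.Opens)) trivial
  let O : Q.obj.left.left.Opens := l.hom.left.left ⁻¹ᵁ W
  have hr : Set.range (openObjι Q O ≫ l).hom.left.left ⊆ Set.range W.ι := by
    rw [Scheme.Opens.range_ι]
    rintro _ ⟨z, rfl⟩
    exact (z : O).2
  let a : (openObj Q O).obj.left.left ⟶ (W : Scheme) := IsOpenImmersion.lift W.ι (openObjι Q O ≫ l).hom.left.left hr
  have ha : a ≫ W.ι = (openObjι Q O ≫ l).hom.left.left := IsOpenImmersion.lift_fac _ _ _
  let b : (openObj Q O).obj.left ⟶ (chartObj hp W).obj.left := Over.homMk a (by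
    show a ≫ W.ι ≫ U.hom = _
    rw [← Category.assoc, ha]
    exact Over.w (openObjι Q O ≫ l).hom.left)
  refine ⟨openObj Q O, openObjι Q O ≫ g, W, hW, EtOver.homMk b ?_, ⟨⟨y, hyW⟩, hy⟩⟩
  have h2 : b ≫ EtOver.homOfEtale (etaleOfOpen U.left W) = (openObjι Q O ≫ l).hom.left := Over.OverMorphism.ext ha
  refine Eq.trans ?_ (EtOver.w (openObjι Q O ≫ l))
  show (yon S).map b ≫ (((yon S).map (EtOver.homOfEtale (etaleOfOpen U.left W)) ≫ 𝟙 _) ≫ p) = _
  rw [Category.comp_id, ← Category.assoc, ← Functor.map_comp, h2]
  rfl

theorem projective_chartObj (hs : RepWith @Surjective p) {Y : EtOver X} [Aff Y] (F : ModEt X) [F.IsQuasicoherent]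
    [Small.{u} (SectM F Y)]
    (h : ∀ W : U.left.Opens, IsAffineOpen W → Module.Projective (Γt (chartObj hp W)) (SectM F (chartObj hp W))) :
    Module.Projective (Γt Y) (SectM F Y) :=
  projective_of_locally F fun x => by
    obtain ⟨V, v, W, hW, f, hx⟩ := exists_hom_chartObj hp hs Y x
    exact ⟨V, v, chartObj hp W, f, hx, hW, h W hW⟩

end Groth.Agent.SpQC86
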