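import Groth.Agent.SpQC86.Companion
import Groth.Agent.QC70.Loc
import Mathlib.Topology.Sheaves.SheafCondition.UniqueGluing

/-!
Existence of Zariski companions of quasi-coherent modules with small sections.
-/

set_option autoImplicit false
set_option linter.style.haveILetI false
set_option backward.isDefEq.respectTransparency false

universe u

open CategoryTheory CategoryTheory.Limits AlgebraicGeometry Opposite TopologicalSpace
open AlgSp Groth.Agent.SpQC61

namespace Groth.Agent.SpQC86

variable {S : Scheme.{u}} {U : Over S}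

/-- An inclusion of opens. -/
noncomputable abbrev schLE {W' W : U.left.Opens} (h : W' ≤ W) : schObj W' ⟶ schObj W :=
  (EtOver.ofScheme U).map (etaleOfLE h)

theorem schObj_hom_ext {Z : EtOver ((yon S).obj U)} {W : U.left.Opens} (a b : Z ⟶ schObj W) : a = b := by
  refine EtOver.hom_ext _ _ (Over.OverMorphism.ext ?_)
  have ha := EtOver.w a
  have hb := EtOver.w b
  have h : a.hom.left ≫ EtOver.homOfEtale (etaleOfOpen U.left W) = b.hom.left ≫ EtOver.homOfEtale (etaleOfOpen U.left W) := by
    refine (yon S).map_injective ?_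
    rw [Functor.map_comp, Functor.map_comp]
    exact (congrArg (_ ≫ ·) (Category.comp_id _).symm).trans ((ha.trans hb.symm).trans (congrArg (_ ≫ ·) (Category.comp_id _)))
  have h2 : a.hom.left.left ≫ W.ι = b.hom.left.left ≫ W.ι := congrArg CommaMorphism.left h
  exact (cancel_mono W.ι).1 h2

theorem range_le_of_hom {Z : EtOver ((yon S).obj U)} {W : U.left.Opens} (a : Z ⟶ schObj W) (z : ↥Z.obj.left.left) :
    ((a.hom.left.left ≫ W.ι) z) ∈ W := by
  have : (a.hom.left.left ≫ W.ι) z ∈ Set.range W.ι := ⟨a.hom.left.left z, rfl⟩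
  rwa [Scheme.Opens.range_ι] at this

theorem exists_hom_schObj_inf {Z : EtOver ((yon S).obj U)} {W W' : U.left.Opens} (a : Z ⟶ schObj W) (b : Z ⟶ schObj W') :
    ∃ c : Z ⟶ schObj (W ⊓ W'), c ≫ schLE inf_le_left = a ∧ c ≫ schLE inf_le_right = b := by
  have hab : a.hom.left.left ≫ W.ι = b.hom.left.left ≫ W'.ι := by
    have ha := EtOver.w a
    have hb := EtOver.w b
    have h : a.hom.left ≫ EtOver.homOfEtale (etaleOfOpen U.left W) = b.hom.left ≫ EtOver.homOfEtale (etaleOfOpen U.left W') := by
      refine (yon S).map_injective ?_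
      rw [Functor.map_comp, Functor.map_comp]
      exact (congrArg (_ ≫ ·) (Category.comp_id _).symm).trans ((ha.trans hb.symm).trans (congrArg (_ ≫ ·) (Category.comp_id _)))
    exact congrArg CommaMorphism.left h
  have hr : Set.range (a.hom.left.left ≫ W.ι) ⊆ Set.range (W ⊓ W').ι := by
    rw [Scheme.Opens.range_ι]
    rintro _ ⟨z, rfl⟩
    exact ⟨range_le_of_hom a z, hab ▸ range_le_of_hom b z⟩
  let c₀ := IsOpenImmersion.lift (W ⊓ W').ι (a.hom.left.left ≫ W.ι) hr
  have hc : c₀ ≫ (W ⊓ W').ι = a.hom.left.left ≫ W.ι := IsOpenImmersion.lift_fac _ _ _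
  let b₀ : Z.obj.left ⟶ (schObj (W ⊓ W')).obj.left := Over.homMk c₀ (by
    show c₀ ≫ (W ⊓ W').ι ≫ U.hom = _
    rw [← Category.assoc, hc, Category.assoc]
    exact Over.w a.hom.left)
  have hb₀ : b₀ ≫ EtOver.homOfEtale (etaleOfOpen U.left (W ⊓ W')) = a.hom.left ≫ EtOver.homOfEtale (etaleOfOpen U.left W) :=
    Over.OverMorphism.ext hc
  refine ⟨EtOver.homMk b₀ ?_, schObj_hom_ext _ _, schObj_hom_ext _ _⟩
  refine Eq.trans ?_ (EtOver.w a)
  show (yon S).map b₀ ≫ (yon S).map _ ≫ 𝟙 _ = (yon S).map a.hom.left ≫ (yon S).map _ ≫ 𝟙 _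
  rw [← Category.assoc, ← Functor.map_comp, hb₀, Functor.map_comp, Category.assoc]

variable (N : ModEt ((yon S).obj U)) [hQ : N.IsQuasicoherent]
  (hsmall : ∀ W : U.left.Opens, IsAffineOpen W → Small.{u} (SectM N (schObj W)))

include hsmall in
omit hQ in
theorem small_schObj (W : U.left.Opens) : Small.{u} (SectM N (schObj W)) := by
  let ι := {A : U.left.Opens // IsAffineOpen A ∧ A ≤ W}
  haveI : ∀ A : ι, Small.{u} (SectM N (schObj A.1)) := fun A => hsmall A.1 A.2.1
  refine small_of_injective (f := fun (x : SectM N (schObj W)) (A : ι) => resM N (schLE A.2.2) x) fun x y h => ?_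
  refine eq_of_cover (N.over (schObj W)) (o := Over.mk (𝟙 (schObj W))) (V := fun A : ι => Over.mk (schLE A.2.2))
    (fun A => Over.homMk (schLE A.2.2) (Category.comp_id _)) (fun v => ?_) fun A => congrFun h A
  obtain ⟨A, hA, hvA, hAW⟩ := exists_isAffineOpen_mem_and_subset (x := W.ι v) (U := W) (by exact v.2)
  exact ⟨⟨A, hA, hAW⟩, ⟨W.ι v, hvA⟩, Subtype.ext (Scheme.homOfLE_apply (e := hAW) _)⟩

/-- The values of the companion. -/
def CSect (W : U.left.Opens) : Type u :=
  haveI := small_schObj N hsmall W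
  Shrink.{u} (SectM N (schObj W))

noncomputable instance (W : U.left.Opens) : AddCommGroup (CSect N hsmall W) :=
  haveI := small_schObj N hsmall W
  inferInstanceAs (AddCommGroup (Shrink.{u} (SectM N (schObj W))))

omit hQ in
/-- The identification with sections. -/
noncomputable def cEquiv (W : U.left.Opens) : CSect N hsmall W ≃+ SectM N (schObj W) :=
  haveI := small_schObj N hsmall W
  Shrink.addEquiv (α := SectM N (schObj W))

noncomputable instance csectModule (W : U.left.Opens) : Module (U.left.ringCatSheaf.obj.obj (op W)) (CSect N hsmall W) :=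
  letI : Module (U.left.ringCatSheaf.obj.obj (op W)) (SectM N (schObj W)) := Module.compHom _ (topRing W).symm.toRingHom
  (cEquiv N hsmall W).module _

omit hQ in
theorem cEquiv_smul (W : U.left.Opens) (r : U.left.ringCatSheaf.obj.obj (op W)) (x : CSect N hsmall W) :
    cEquiv N hsmall W (r • x) = (topRing W).symm r • cEquiv N hsmall W x :=
  (cEquiv N hsmall W).apply_symm_apply _

omit hQ in
theorem topRing_symm_res {W' W : U.left.Opens} (h : W' ≤ W) (r : U.left.ringCatSheaf.obj.obj (op W)) :
    (topRing W').symm ((U.left.ringCatSheaf.obj.map (homOfLE h).op).hom r) = cmap (schLE h) ((topRing W).symm r) := by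
  have h2 : U.left.presheaf.map (homOfLE h).op ≫ W'.topIso.inv = W.topIso.inv ≫ (U.left.homOfLE h).appTop := by
    rw [Iso.comp_inv_eq, Category.assoc, Iso.eq_inv_comp]
    simp [Scheme.Opens.topIso, ← Functor.map_comp]
  exact ConcreteCategory.congr_hom h2 r

/-- The presheaf of abelian groups. -/
noncomputable def compP : (U.left.Opens)ᵒᵖ ⥤ AddCommGrpCat.{u} where
  obj W := AddCommGrpCat.of (CSect N hsmall W.unop)
  map {W W'} f := AddCommGrpCat.ofHom (((cEquiv N hsmall W'.unop).symm.toAddMonoidHom.comp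
    (resM N (schLE f.unop.le))).comp (cEquiv N hsmall W.unop).toAddMonoidHom)
  map_id W := by
    ext x
    show (cEquiv N hsmall W.unop).symm (resM N (schLE _) (cEquiv N hsmall W.unop x)) = x
    rw [schObj_hom_ext (schLE _) (𝟙 _), resM_id, AddEquiv.symm_apply_apply]
  map_comp {W W' W''} f g := by
    ext x
    show (cEquiv N hsmall W''.unop).symm (resM N (schLE _) (cEquiv N hsmall W.unop x)) =
      (cEquiv N hsmall W''.unop).symm (resM N (schLE g.unop.le)
        (cEquiv N hsmall W'.unop ((cEquiv N hsmall W'.unop).symm (resM N (schLE f.unop.le) (cEquiv N hsmall W.unop x)))))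
    rw [AddEquiv.apply_symm_apply, ← resM_comp, schObj_hom_ext (schLE _ ≫ schLE _) (schLE _)]

noncomputable instance (W : (U.left.Opens)ᵒᵖ) : Module (U.left.ringCatSheaf.obj.obj W) ((compP N hsmall).obj W) :=
  csectModule N hsmall W.unop

omit hQ in
theorem compP_apply {W' W : U.left.Opens} (h : W' ≤ W) (x : CSect N hsmall W) :
    cEquiv N hsmall W' ((compP N hsmall).map (homOfLE h).op x) = resM N (schLE h) (cEquiv N hsmall W x) :=
  (cEquiv N hsmall W').apply_symm_apply _

/-- The companion as a presheaf of modules. -/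
noncomputable def compMod : PresheafOfModules.{u} U.left.ringCatSheaf.obj :=
  PresheafOfModules.ofPresheaf (compP N hsmall) fun {W W'} f r x => (cEquiv N hsmall W'.unop).injective (by
    show cEquiv N hsmall W'.unop ((compP N hsmall).map (homOfLE f.unop.le).op (r • x)) =
      cEquiv N hsmall W'.unop ((U.left.ringCatSheaf.obj.map (homOfLE f.unop.le).op).hom r • _)
    rw [compP_apply, cEquiv_smul, resM_smul, cEquiv_smul, topRing_symm_res]
    exact congrArg _ (compP_apply N hsmall f.unop.le x).symm)

omit hQ in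
theorem isSheaf_compMod : Presheaf.IsSheaf (Opens.grothendieckTopology U.left) (compMod N hsmall).presheaf := by
  refine (TopCat.Presheaf.isSheaf_iff_isSheafUniqueGluing
    (F := ((compP N hsmall) : TopCat.Presheaf AddCommGrpCat.{u} U.left))).mpr fun ι W sf hsf => ?_
  let t : ∀ i, SectM N (schObj (W i)) := fun i => cEquiv N hsmall (W i) (sf i)
  let o : Over (schObj (iSup W)) := Over.mk (𝟙 _)
  let V : ι → Over (schObj (iSup W)) := fun i => Over.mk (schLE (le_iSup W i))
  let g : ∀ i, V i ⟶ o := fun i => Over.homMk (schLE (le_iSup W i)) (Category.comp_id _)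
  have hcov : ∀ x : ↥o.left.obj.left.left, ∃ i, x ∈ Set.range (g i).left.hom.left.left := fun v => by
    let Ws : U.left.Opens := iSup W
    obtain ⟨i, hi⟩ := Opens.mem_iSup.1 (show Ws.ι v ∈ iSup W from v.2)
    exact ⟨i, ⟨Ws.ι v, hi⟩, Subtype.ext (Scheme.homOfLE_apply (e := le_iSup W i) _)⟩
  obtain ⟨y, hy⟩ := exists_glue (N.over (schObj (iSup W))) g hcov t fun i j Z a b _ => by
    obtain ⟨c, hca, hcb⟩ := exists_hom_schObj_inf a.left b.left
    show resM N a.left (t i) = resM N b.left (t j)
    rw [← hca, ← hcb, resM_comp, resM_comp]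
    have h := congrArg (cEquiv N hsmall (W i ⊓ W j)) (hsf i j)
    refine congrArg _ ?_
    exact ((compP_apply N hsmall inf_le_left (sf i)).symm.trans h).trans (compP_apply N hsmall inf_le_right (sf j))
  refine ⟨(cEquiv N hsmall (iSup W)).symm y, fun i => (cEquiv N hsmall (W i)).injective ?_, fun y' hy' => ?_⟩
  · exact ((compP_apply N hsmall (le_iSup W i) _).trans (by rw [AddEquiv.apply_symm_apply]; rfl)).trans (hy i)
  · refine (AddEquiv.eq_symm_apply _).2 ?_
    refine eq_of_cover (N.over (schObj (iSup W))) g hcov fun i => Eq.trans ?_ (hy i).symm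
    exact (compP_apply N hsmall (le_iSup W i) y').symm.trans (congrArg (cEquiv N hsmall (W i)) (hy' i))

/-- The companion. -/
noncomputable def compG : U.left.Modules := ⟨compMod N hsmall, isSheaf_compMod N hsmall⟩

/-- It is a companion. -/
noncomputable def compC : ZarCompanion U.left (compG N hsmall) ((resSchModEt U).obj N) where
  iso W := ((cEquiv N hsmall W).symm : SectM N (schObj W) ≃+ CSect N hsmall W).trans AddEquiv.ulift.symm
  map_smul W a m := ULift.ext _ _ <| (cEquiv N hsmall W).injective (by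
    refine ((cEquiv N hsmall W).apply_symm_apply _).trans ?_
    refine Eq.trans ?_ (cEquiv_smul N hsmall W a ((cEquiv N hsmall W).symm m)).symm
    rw [AddEquiv.apply_symm_apply]
    rfl)
  map_res {W W'} h m := ULift.ext _ _ <| (cEquiv N hsmall W').injective (by
    refine ((cEquiv N hsmall W').apply_symm_apply _).trans ?_
    refine Eq.trans ?_ (compP_apply N hsmall h ((cEquiv N hsmall W).symm m)).symm
    rw [AddEquiv.apply_symm_apply]
    rfl)

omit hQ in
theorem isLocalization_schLE {W : U.left.Opens} (hW : IsAffineOpen W) (f : Γ(U.left, W)) :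
    letI := (cmap (schLE (U.left.basicOpen_le f))).toAlgebra
    IsLocalization.Away ((topRing W).symm f) (Γt (schObj (U.left.basicOpen f))) := by
  letI := (cmap (schLE (U.left.basicOpen_le f))).toAlgebra
  letI := (U.left.presheaf.map (homOfLE (U.left.basicOpen_le f)).op).hom.toAlgebra
  obtain ⟨h1, h2, h3⟩ := (isLocalization_iff (Submonoid.powers f) Γ(U.left, U.left.basicOpen f)).1
    (hW.isLocalization_basicOpen f)
  let e := (topRing W).symm
  let e' := (topRing (U.left.basicOpen f)).symm
  have he : ∀ a : Γ(U.left, W), cmap (schLE (U.left.basicOpen_le f)) (e a) =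
      e' ((U.left.presheaf.map (homOfLE (U.left.basicOpen_le f)).op).hom a) := fun a =>
    (topRing_symm_res (U.left.basicOpen_le f) a).symm
  refine (isLocalization_iff _ _).2 ⟨?_, fun z => ?_, fun {x y} hxy => ?_⟩
  · rintro ⟨_, n, rfl⟩
    rw [RingHom.algebraMap_toAlgebra]
    show IsUnit (cmap _ (e f ^ n))
    rw [← map_pow, he]
    exact (h1 ⟨f ^ n, n, rfl⟩).map e'
  · obtain ⟨z, rfl⟩ := e'.surjective z
    obtain ⟨⟨a, ⟨_, n, rfl⟩⟩, ha⟩ := h2 z
    refine ⟨⟨e a, ⟨e f ^ n, n, rfl⟩⟩, ?_⟩
    rw [RingHom.algebraMap_toAlgebra]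
    show e' z * cmap _ (e f ^ n) = cmap _ (e a)
    rw [← map_pow, he, he, ← map_mul]
    exact congrArg e' ha
  · obtain ⟨x, rfl⟩ := e.surjective x
    obtain ⟨y, rfl⟩ := e.surjective y
    rw [RingHom.algebraMap_toAlgebra, he, he] at hxy
    obtain ⟨⟨_, n, rfl⟩, hn⟩ := h3 (e'.injective hxy)
    refine ⟨⟨e f ^ n, n, rfl⟩, ?_⟩
    show e f ^ n * e x = e f ^ n * e y
    rw [← map_pow, ← map_mul, ← map_mul]
    exact congrArg e hn

theorem isQuasicoherent_compG : (compG N hsmall).IsQuasicoherent := by
  refine QC70.isQuasicoherent_of_forall_isLocAt _ fun W hW => ?_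
  haveI : Aff (schObj W) := hW
  refine ⟨fun f s => ?_, fun f t ht => ?_⟩ <;>
  · haveI : Aff (schObj (U.left.basicOpen f)) := hW.basicOpen f
    let g := schLE (U.left.basicOpen_le f)
    letI := (cmap g).toAlgebra
    haveI := isLocalization_schLE hW f
    have hT : IsLocalizedModule (Submonoid.powers ((topRing W).symm f))
        (TensorProduct.mk (Γt (schObj W)) (Γt (schObj (U.left.basicOpen f))) (SectM N (schObj W)) 1) :=
      inferInstance
    haveI := hT
    have hbc := bcM_bijective N g
    first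
    | (obtain ⟨z, hz⟩ := hbc.2 (cEquiv N hsmall (U.left.basicOpen f) s)
       obtain ⟨⟨m, ⟨_, n, rfl⟩⟩, hm⟩ := IsLocalizedModule.surj (Submonoid.powers ((topRing W).symm f))
         (TensorProduct.mk (Γt (schObj W)) (Γt (schObj (U.left.basicOpen f))) (SectM N (schObj W)) 1) z
       refine ⟨n, (cEquiv N hsmall W).symm m, (cEquiv N hsmall (U.left.basicOpen f)).injective ?_⟩
       refine (compP_apply N hsmall (U.left.basicOpen_le f) _).trans ?_
       refine Eq.trans ?_ (cEquiv_smul N hsmall _ _ _).symm
       rw [AddEquiv.apply_symm_apply, map_pow,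
         show (topRing (U.left.basicOpen f)).symm (QC70.resO U.left (U.left.basicOpen_le f) f) =
           cmap g ((topRing W).symm f) from topRing_symm_res (U.left.basicOpen_le f) f, ← map_pow, ← hz]
       have h2 := congrArg (bcM N g) hm
       refine Eq.trans ?_ (h2.symm.trans ?_)
       · exact (one_smul (Γt (schObj (U.left.basicOpen f))) (resM N g m)).symm
       · rw [Submonoid.smul_def, ← algebraMap_smul (Γt (schObj (U.left.basicOpen f))) _ z]
         exact bcMap_smul (resM N g) (resM_smul N g) _ z)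
    | (have h0 : bcM N g ((1 : Γt (schObj (U.left.basicOpen f))) ⊗ₜ[Γt (schObj W)] cEquiv N hsmall W t) = bcM N g 0 := by
         refine ((one_smul (Γt (schObj (U.left.basicOpen f))) (resM N g (cEquiv N hsmall W t))).trans ?_).trans
           (map_zero (bcM N g)).symm
         exact (compP_apply N hsmall (U.left.basicOpen_le f) t).symm.trans
           ((congrArg _ ht).trans (map_zero (cEquiv N hsmall (U.left.basicOpen f))))
       obtain ⟨⟨_, n, rfl⟩, hn⟩ := (IsLocalizedModule.eq_zero_iff (Submonoid.powers ((topRing W).symm f))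
         (TensorProduct.mk (Γt (schObj W)) (Γt (schObj (U.left.basicOpen f))) (SectM N (schObj W)) 1)
         (m := cEquiv N hsmall W t)).1 (hbc.1 h0)
       refine ⟨n, (cEquiv N hsmall W).injective ?_⟩
       refine (cEquiv_smul N hsmall _ _ _).trans (Eq.trans ?_ (map_zero (cEquiv N hsmall W)).symm)
       rw [map_pow]
       exact hn)

end Groth.Agent.SpQC86
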