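import Groth.Agent.SpQC86.Retract
import Groth.Agent.SpQC86.CompanionExist

/-!
Local projectivity is preserved by inverse image along representable morphisms.
-/

set_option autoImplicit false
set_option linter.style.haveILetI false
set_option backward.isDefEq.respectTransparency false

universe u

open CategoryTheory CategoryTheory.Limits AlgebraicGeometry Opposite
open AlgSp Groth.Agent.SpQC61

namespace Groth.Agent.SpQC86

variable {S : Scheme.{u}} {X Y : Sp S} {f : X ⟶ Y} (hf : Representable f)

/-- The inverse image over an object corepresents. -/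
noncomputable def corepOver [(SheafOfModules.pushforward.{u + 1} (bcRingHom hf)).IsRightAdjoint] (G : ModEt Y)
    (E : EtOver Y) :
    (SheafOfModules.pushforward.{u + 1} (SpPts86.bcOverRingHom hf E) ⋙ coyoneda.obj (op (G.over E))).CorepresentableBy
      (((pullModEt hf).obj G).over ((EtOver.bc hf).obj E)) :=
  let adjX := SheafOfModules.overPushforwardOverAdj.{u + 1} (R := OEtRing X) ((EtOver.bc hf).obj E)
  let adjY := SheafOfModules.overPushforwardOverAdj.{u + 1} (R := OEtRing Y) E
  let Q := SpPts86.pushforwardOverBcIso hf E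
  let L := (pullPushAdjModEt hf).comp adjX
  { homEquiv := fun {N} => (L.homEquiv G N).trans ((Iso.homCongr (Iso.refl G) (Q.app N)).trans
        (adjY.homEquiv G _).symm)
    homEquiv_comp := fun {N N'} g a => by
      show (adjY.homEquiv G _).symm (𝟙 G ≫ L.homEquiv G N' (a ≫ g) ≫ Q.hom.app N') =
        (adjY.homEquiv G _).symm (𝟙 G ≫ L.homEquiv G N a ≫ Q.hom.app N) ≫ _
      rw [Category.id_comp, Category.id_comp, L.homEquiv_naturality_right, Category.assoc, Q.hom.naturality,
        ← Category.assoc, ← adjY.homEquiv_naturality_right_symm]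
      rfl }

/-- Sections of a direct summand of a free module over affine objects are projective. -/
theorem projective_sect_of_retract {E : EtOver X} {A : ModOver E} {I : Type (u + 1)} (s : A ⟶ freeOver E I)
    (r : freeOver E I ⟶ A) (h : s ≫ r = 𝟙 A) (o : Over E) [Aff o.left] :
    Module.Projective (Γt o.left) (Sect A o) := by
  let e : (I →₀ Γt o.left) ≃ₗ[Γt o.left] Sect (freeOver E I) o :=
    LinearEquiv.ofBijective (comb (tauS E I) o) ⟨comb_tau_injective o, comb_tau_surjective o⟩
  haveI : Module.Projective (Γt o.left) (Sect (freeOver E I) o) := Module.Projective.of_equiv' e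
  exact Module.Projective.of_split (appS s o) (appS r o)
    (LinearMap.ext fun x => congrArg (fun φ : A ⟶ A => appS φ o x) h)

/-- Projective sections pull back to projective sections near the preimage. -/
theorem projective_pull [(SheafOfModules.pushforward.{u + 1} (bcRingHom hf)).IsRightAdjoint] (G : ModEt Y)
    [G.IsQuasicoherent] (E : EtOver Y) [Aff E] (hP : Module.Projective (Γt E) (SectM G E))
    {V : EtOver X} [Aff V] (v : V ⟶ (EtOver.bc hf).obj E) :
    Module.Projective (Γt V) (SectM ((pullModEt hf).obj G) V) := by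
  haveI := hP
  obtain ⟨σ₀, hσ₀⟩ := Module.projective_def'.1 hP
  obtain ⟨s, r, hsr⟩ := exists_retract G σ₀ (goodM_of_isQuasicoherent G E) fun n => LinearMap.congr_fun hσ₀ n
  haveI : (Over.post (X := E) (EtOver.bc hf)).Final := SpPts86.final_overPost _ _
  let φ := SpPts86.bcOverRingHom hf E
  let c := corepOver hf G E
  let I := SectM G E
  let A := ((pullModEt hf).obj G).over ((EtOver.bc hf).obj E)
  let F := SheafOfModules.pushforward.{u + 1} φ
  let a : A ⟶ freeOver ((EtOver.bc hf).obj E) I := c.homEquiv.symm (s ≫ SpPts86.freeToPushforward φ I)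
  let e := Equiv.ofBijective _ (SpPts86.bijective_freeToPushforward φ I A)
  let b : freeOver ((EtOver.bc hf).obj E) I ⟶ A := e.symm (r ≫ c.homEquiv (𝟙 A))
  have hb : SpPts86.freeToPushforward φ I ≫ F.map b = r ≫ c.homEquiv (𝟙 A) := e.apply_symm_apply _
  have hab : a ≫ b = 𝟙 A := c.homEquiv.injective (by
    refine (c.homEquiv_comp b a).trans ?_
    show c.homEquiv a ≫ F.map b = _
    rw [Equiv.apply_symm_apply, Category.assoc, hb, ← Category.assoc, hsr, Category.id_comp])
  haveI : Aff (Over.mk v).left := ‹Aff V›
  exact projective_sect_of_retract a b hab (Over.mk v)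

variable {U : Over S}

/-- A locally projective module has projective sections over affine objects. -/
theorem projective_of_companions (G : ModEt Y) [G.IsQuasicoherent]
    (hsmall : ∀ E : EtOver Y, IsAffine E.obj.left.left → Small.{u} (sectModEt G E))
    (hproj : ∀ {V : Over S} (q : (yon S).obj V ⟶ Y) (hrepq : Representable q)
      [(SheafOfModules.pushforward.{u + 1} (bcRingHom hrepq)).IsRightAdjoint]
      (H : V.left.Modules) [Coh.IsQCoh H]
      (_ : ZarCompanion V.left H ((resSchModEt V).obj ((pullModEt hrepq).obj G)))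
      (W : V.left.Opens), RepWith @Etale q → IsAffineOpen W →
        Module.Projective (V.left.ringCatSheaf.obj.obj (op W)) (H.val.obj (op W)))
    (E : EtOver Y) [Aff E] : Module.Projective (Γt E) (SectM G E) := by
  let V := E.obj.left
  let q : (yon S).obj V ⟶ Y := E.obj.hom
  have hq : RepWith @Etale q := E.property
  haveI hadj : (SheafOfModules.pushforward.{u + 1} (bcRingHom hq.1)).IsRightAdjoint :=
    ⟨_, ⟨SpPts86.restrPushAdj hq hq.1⟩⟩
  let N := (pullModEt hq.1).obj G
  haveI : N.IsQuasicoherent := SpPts86.isQuasicoherent_pullModEt hq.1 ‹_› hq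
  let i := (SpPts86.pullModEtIso hq hq.1).app G
  have hs : ∀ W : V.left.Opens, IsAffineOpen W → Small.{u} (SectM N (schObj W)) := fun W hW => by
    haveI := hsmall (chartObj hq W) hW
    exact small_map (α := SectM N (schObj W)) (β := sectModEt G (chartObj hq W))
      { toFun := appM i.hom (schObj W)
        invFun := appM i.inv (schObj W)
        left_inv := fun x => congrArg (fun f : N ⟶ N => appM f (schObj W) x) i.hom_inv_id
        right_inv := fun x => congrArg
          (fun f : (SpPts86.restrModEt hq).obj G ⟶ (SpPts86.restrModEt hq).obj G => appM f (schObj W) x) i.inv_hom_id }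
  haveI : Coh.IsQCoh (compG N hs) := isQuasicoherent_compG N hs
  have hT : IsAffineOpen (⊤ : V.left.Opens) := isAffineOpen_top V.left
  haveI : Aff (chartObj hq (⊤ : V.left.Opens)) := hT
  have h1 : Module.Projective (Γt (chartObj hq (⊤ : V.left.Opens))) (SectM G (chartObj hq (⊤ : V.left.Opens))) :=
    (chart_companion hq hq.1 (compC N hs) ⊤).2.2 (hproj q hq.1 (compG N hs) (compC N hs) ⊤ hq hT)
  let b : E.obj.left ⟶ (chartObj hq (⊤ : V.left.Opens)).obj.left := Over.homMk V.left.topIso.inv (by
    show V.left.topIso.inv ≫ (⊤ : V.left.Opens).ι ≫ V.hom = V.hom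
    rw [← Category.assoc, ← Scheme.topIso_hom, Iso.inv_hom_id, Category.id_comp])
  refine projective_of_hom G (EtOver.homMk b ?_ : E ⟶ chartObj hq (⊤ : V.left.Opens)) h1
  have h2 : b ≫ EtOver.homOfEtale (etaleOfOpen V.left ⊤) = 𝟙 V := Over.OverMorphism.ext V.left.topIso.inv_hom_id
  show (yon S).map b ≫ (((yon S).map (EtOver.homOfEtale (etaleOfOpen V.left ⊤)) ≫ 𝟙 _) ≫ q) = _
  rw [Category.comp_id, ← Category.assoc, ← Functor.map_comp, h2]
  exact SpPts86.yon_map_id_comp _

include hf in
/-- Inverse images of locally projective modules are locally projective. -/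
theorem projective_pull_chart (hY : IsAlgSpace Y) [(SheafOfModules.pushforward.{u + 1} (bcRingHom hf)).IsRightAdjoint]
    (G : ModEt Y) [hG : G.IsQuasicoherent] (hG' : ∀ (E : EtOver Y), Aff E → Module.Projective (Γt E) (SectM G E))
    (E' : EtOver X) [Aff E'] [Small.{u} (SectM ((pullModEt hf).obj G) E')] :
    Module.Projective (Γt E') (SectM ((pullModEt hf).obj G) E') := by
  haveI := SpPts86.isQuasicoherent_pullModEt_of_representable hf hY hG
  let I := {W : EtOver Y // Aff W}
  have hcov : (etTop Y).CoversTop (fun W : I => W.1) := fun W => by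
    refine SpPts86.mem_etTop_of_forall _ fun v => ?_
    obtain ⟨U, hU, hvU, -⟩ := exists_isAffineOpen_mem_and_subset (x := v) (U := (⊤ : W.obj.left.left.Opens)) trivial
    exact ⟨openObj W U, openObjι W U, ⟨⟨openObj W U, hU⟩, ⟨𝟙 _⟩⟩, ⟨⟨v, hvU⟩, rfl⟩⟩
  obtain ⟨m, V, v, hV, hv, hsurj⟩ := exists_finite_affine_cover (SpPts86.coversTop_bc hf hY hcov E')
  refine projective_of_cover _ v hV hsurj fun k => ?_
  obtain ⟨i, ⟨w⟩⟩ := hv k
  haveI := hV k
  haveI := i.2
  exact projective_pull hf G i.1 (hG' i.1 i.2) w

end Groth.Agent.SpQC86
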