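import Groth.Agent.SpQC86.SubQC
import Mathlib.RingTheory.Smooth.IntegralClosure
import Mathlib.RingTheory.Etale.Basic
import Mathlib.RingTheory.RingHom.Etale
import Mathlib.RingTheory.Smooth.Basic

/-!
The quasi-coherent subalgebra of integral elements of a quasi-coherent algebra.
-/

set_option autoImplicit false
set_option linter.style.haveILetI false
set_option backward.isDefEq.respectTransparency false

universe u

open CategoryTheory CategoryTheory.Limits AlgebraicGeometry Opposite
open AlgSp Groth.Agent.SpQC61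
open scoped TensorProduct

namespace Groth.Agent.SpQC86

variable {S : Scheme.{u}} {X : Sp S}

theorem etale_cmap {E' E : EtOver X} (g : E' ⟶ E) [Aff E] [Aff E'] : (cmap g).Etale := by
  haveI := EtOver.etale_left g
  exact HasRingHomProperty.appTop @Etale _ inferInstance

/-- Etale base change commutes with integral closure, in terms of integral elements. -/
theorem integral_mem_span {R R' B B' : Type*} [CommRing R] [CommRing R'] [CommRing B] [CommRing B'] [Algebra R R']
    [Algebra R B] [Algebra R' B'] [Algebra.Smooth R R'] (f : B →+* B')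
    (hf : ∀ a : R, f (algebraMap R B a) = algebraMap R' B' (algebraMap R R' a))
    (hb : ∀ y : B', ∃ z : R' ⊗[R] B, ∀ (L : R' ⊗[R] B →+ B'),
      (∀ r b, L (r ⊗ₜ b) = r • f b) → L z = y)
    (hinj : ∀ (L : R' ⊗[R] B →+ B'), (∀ r b, L (r ⊗ₜ b) = r • f b) → Function.Injective L)
    {y : B'} (hy : _root_.IsIntegral R' y) : y ∈ Submodule.span R' (f '' {x | _root_.IsIntegral R x}) := by
  letI : Algebra R B' := ((algebraMap R' B').comp (algebraMap R R')).toAlgebra
  haveI : IsScalarTower R R' B' := IsScalarTower.of_algebraMap_eq' rfl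
  let f' : B →ₐ[R] B' := { f with commutes' := hf }
  let L : R' ⊗[R] B →ₐ[R'] B' := Algebra.TensorProduct.lift (Algebra.ofId R' B') f' fun _ _ => Commute.all _ _
  have hL : ∀ r b, L.toRingHom.toAddMonoidHom (r ⊗ₜ b) = r • f b := fun r b => by
    show L (r ⊗ₜ b) = _
    rw [Algebra.TensorProduct.lift_tmul, Algebra.smul_def]
    rfl
  obtain ⟨z, hz⟩ := hb y
  have hzy : L z = y := hz _ hL
  have hint : _root_.IsIntegral R' z := by
    rw [← isIntegral_algHom_iff L (hinj _ hL), hzy]
    exact hy
  obtain ⟨w, hw⟩ := (TensorProduct.toIntegralClosure_bijective_of_smooth (R := R) (S := R') (B := B)).2 ⟨z, hint⟩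
  have hw' : Algebra.TensorProduct.map (AlgHom.id R' R') (integralClosure R B).val w = z := congrArg Subtype.val hw
  rw [← hzy, ← hw']
  clear hw hw' hzy hint hz
  induction w using TensorProduct.induction_on with
  | zero => rw [map_zero, map_zero]; exact Submodule.zero_mem _
  | tmul r b =>
    rw [Algebra.TensorProduct.map_tmul]
    exact (hL r b.1).symm ▸ Submodule.smul_mem _ r (Submodule.subset_span ⟨b.1, b.2, rfl⟩)
  | add p q hp hq => rw [map_add, map_add]; exact Submodule.add_mem _ hp hq

variable (A : EtSh X CommRingCat.{u + 1}) (φ : OEt X ⟶ A)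

/-- The algebra as a module. -/
noncomputable abbrev algMod : ModEt X :=
  (SheafOfModules.restrictScalars ((sheafCompose (etTop X) (forget₂ CommRingCat.{u + 1} RingCat.{u + 1})).map φ)).obj
    (SheafOfModules.unit ((sheafCompose (etTop X) (forget₂ CommRingCat.{u + 1} RingCat.{u + 1})).obj A))

/-- The structure map on sections. -/
noncomputable def strΓ (E : EtOver X) : Γt E →+* A.obj.obj (op E) :=
  (φ.hom.app (op E)).hom.comp (ULift.ringEquiv.symm.toRingHom : Γt E →+* (OEt X).obj.obj (op E))

theorem strΓ_res {E' E : EtOver X} (g : E' ⟶ E) (a : Γt E) :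
    A.obj.map g.op (strΓ A φ E a) = strΓ A φ E' (cmap g a) :=
  (ConcreteCategory.congr_hom (φ.hom.naturality g.op) (ULift.up a)).symm

theorem isIntegralElem_strΓ_iff (E : EtOver X) (x : A.obj.obj (op E)) :
    (strΓ A φ E).IsIntegralElem x ↔ (φ.hom.app (op E)).hom.IsIntegralElem x := by
  constructor
  · rintro ⟨p, hp, he⟩
    exact ⟨p.map (ULift.ringEquiv.symm.toRingHom : Γt E →+* (OEt X).obj.obj (op E)), hp.map _,
      by rw [Polynomial.eval₂_map]; exact he⟩
  · rintro ⟨p, hp, he⟩
    refine ⟨p.map (ULift.ringEquiv.toRingHom : (OEt X).obj.obj (op E) →+* Γt E), hp.map _, ?_⟩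
    rw [Polynomial.eval₂_map]
    exact he

/-- The integral sections over an affine object. -/
noncomputable def intQ (E : EtOver X) : Submodule (Γt E) (SectM (algMod A φ) E) where
  carrier := {x | (strΓ A φ E).IsIntegralElem (show A.obj.obj (op E) from x)}
  zero_mem' := by
    show (strΓ A φ E).IsIntegralElem (0 : A.obj.obj (op E))
    rw [← map_zero (strΓ A φ E)]; exact (strΓ A φ E).isIntegralElem_map
  add_mem' := fun {x y} hx hy => RingHom.IsIntegralElem.add (strΓ A φ E) hx hy
  smul_mem' := fun a x hx => RingHom.IsIntegralElem.mul (strΓ A φ E) ((strΓ A φ E).isIntegralElem_map (x := a)) hx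

theorem intQ_res {E' E : EtOver X} (g : E' ⟶ E) (x : SectM (algMod A φ) E) (hx : x ∈ intQ A φ E) :
    resM (algMod A φ) g x ∈ intQ A φ E' := by
  letI := (strΓ A φ E).toAlgebra
  letI := (strΓ A φ E').toAlgebra
  obtain ⟨p, hp, he⟩ := hx
  refine ⟨p.map (cmap g), hp.map _, ?_⟩
  rw [Polynomial.eval₂_map, show (strΓ A φ E').comp (cmap g) =
    (A.obj.map g.op).hom.comp (strΓ A φ E) from RingHom.ext fun a => (strΓ_res A φ g a).symm]
  exact (Polynomial.hom_eval₂ p _ (A.obj.map g.op).hom (x : A.obj.obj (op E))).symm.trans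
    ((congrArg _ he).trans (map_zero _))

variable [(algMod A φ).IsQuasicoherent]

theorem intQ_span {E' E : EtOver X} (g : E' ⟶ E) [Aff E] [Aff E'] :
    intQ A φ E' ≤ Submodule.span (Γt E') (resM (algMod A φ) g '' intQ A φ E) := by
  letI := (strΓ A φ E).toAlgebra
  letI := (strΓ A φ E').toAlgebra
  letI := (cmap g).toAlgebra
  haveI : Algebra.Etale (Γt E) (Γt E') := etale_cmap g
  have hbc := bcM_bijective (algMod A φ) g
  have heq : ∀ (L : Γt E' ⊗[Γt E] (A.obj.obj (op E)) →+ A.obj.obj (op E')),
      (∀ r b, L (r ⊗ₜ b) = r • (A.obj.map g.op).hom b) → ∀ z, L z = bcM (algMod A φ) g z := fun L hL z => by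
    induction z using TensorProduct.induction_on with
    | zero => exact (map_zero L).trans (map_zero (bcM (algMod A φ) g)).symm
    | tmul r b => exact (hL r b).trans rfl
    | add p q hp hq =>
      exact (map_add L p q).trans ((congrArg₂ (· + ·) hp hq).trans (map_add (bcM (algMod A φ) g) p q).symm)
  intro y hy
  exact integral_mem_span (R := Γt E) (R' := Γt E') (B := A.obj.obj (op E)) (B' := A.obj.obj (op E'))
    (A.obj.map g.op).hom (strΓ_res A φ g)
    (fun w => ⟨(hbc.2 w).choose, fun L hL => (heq L hL _).trans (hbc.2 w).choose_spec⟩)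
    (fun L hL p q h => hbc.1 ((heq L hL p).symm.trans (h.trans (heq L hL q)))) hy

/-- The integral sections. -/
noncomputable abbrev intSub : PresheafOfModules.Submodule (algMod A φ).val :=
  subP (algMod A φ) fun E _ => intQ A φ E

/-- The ring of integral sections. -/
noncomputable def intRing (W : (EtOver X)ᵒᵖ) : Subring (A.obj.obj W) where
  carrier := {x | ∀ (E : EtOver X) (_ : Aff E) (f : E ⟶ W.unop), (strΓ A φ E).IsIntegralElem ((A.obj.map f.op).hom x)}
  zero_mem' := fun E _ f => by
    rw [map_zero, ← map_zero (strΓ A φ E)]; exact (strΓ A φ E).isIntegralElem_map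
  add_mem' := fun {x y} hx hy E hE f => by
    rw [map_add]; exact RingHom.IsIntegralElem.add (strΓ A φ E) (hx E hE f) (hy E hE f)
  neg_mem' := fun {x} hx E hE f => by
    rw [map_neg]; exact RingHom.IsIntegralElem.neg (strΓ A φ E) (hx E hE f)
  one_mem' := fun E _ f => by
    rw [map_one, ← map_one (strΓ A φ E)]; exact (strΓ A φ E).isIntegralElem_map
  mul_mem' := fun {x y} hx hy E hE f => by
    rw [map_mul]; exact RingHom.IsIntegralElem.mul (strΓ A φ E) (hx E hE f) (hy E hE f)

/-- The presheaf of rings of integral sections. -/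
noncomputable def intAlgP : (EtOver X)ᵒᵖ ⥤ CommRingCat.{u + 1} where
  obj W := CommRingCat.of (intRing A φ W)
  map {W W'} f := CommRingCat.ofHom ((A.obj.map f).hom.restrict (intRing A φ W) (intRing A φ W')
    fun x hx => (intSub A φ).map f hx)
  map_id W := by ext x; exact congrArg (fun h : A.obj.obj W ⟶ A.obj.obj W => h.hom x.1) (A.obj.map_id W)
  map_comp f g := by ext x; exact congrArg (fun h => (CommRingCat.Hom.hom h) x.1) (A.obj.map_comp f g)

theorem intQ_span' {E' E : EtOver X} (g : E' ⟶ E) (hE : Aff E) (hE' : Aff E') :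
    intQ A φ E' ≤ Submodule.span (Γt E') (resM (algMod A φ) g '' intQ A φ E) :=
  haveI := hE
  haveI := hE'
  intQ_span A φ g

theorem isSheaf_intAlgP : Presheaf.IsSheaf (etTop X) (intAlgP A φ) := by
  rw [Presheaf.isSheaf_iff_isSheaf_forget _ _ (CategoryTheory.forget CommRingCat.{u + 1})]
  have h := (Presheaf.isSheaf_iff_isSheaf_forget _ _ (CategoryTheory.forget AddCommGrpCat.{u + 1})).1
    (isSheaf_subP (algMod A φ) (fun E _ => intQ A φ E) (intQ_span' A φ))
  let e : (intSub A φ).toPresheafOfModules.presheaf ⋙ CategoryTheory.forget AddCommGrpCat.{u + 1} ≅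
      intAlgP A φ ⋙ CategoryTheory.forget CommRingCat.{u + 1} :=
    NatIso.ofComponents (fun W => Iso.refl _) fun f => rfl
  exact (Presheaf.isSheaf_of_iso_iff e).1 h

/-- The sheaf of rings of integral sections. -/
noncomputable def intAlg : EtSh X CommRingCat.{u + 1} := ⟨intAlgP A φ, isSheaf_intAlgP A φ⟩

/-- The inclusion. -/
noncomputable def intι : intAlg A φ ⟶ A :=
  ⟨{ app := fun W => CommRingCat.ofHom (intRing A φ W).subtype, naturality := fun _ _ _ => rfl }⟩

/-- The structure map. -/
noncomputable def intStr : OEt X ⟶ intAlg A φ :=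
  ⟨{ app := fun W => CommRingCat.ofHom ((φ.hom.app W).hom.codRestrict (intRing A φ W) fun a E hE f => by
        rw [← show φ.hom.app (op E) ((OEt X).obj.map f.op a) = (A.obj.map f.op).hom (φ.hom.app W a) from
          ConcreteCategory.congr_hom (φ.hom.naturality f.op) a]
        exact (strΓ A φ E).isIntegralElem_map (x := ((OEt X).obj.map f.op a).down))
     naturality := fun W W' f => by ext a; exact Subtype.ext (ConcreteCategory.congr_hom (φ.hom.naturality f) a) }⟩

theorem isQuasicoherent_intAlg : (algMod (intAlg A φ) (intStr A φ)).IsQuasicoherent := by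
  let e : ∀ W, (intSub A φ).toPresheafOfModules.obj W ≃ₗ[(OEtRing X).obj.obj W]
      (algMod (intAlg A φ) (intStr A φ)).val.obj W := fun W =>
    { toFun := fun x => x, invFun := fun x => x, map_add' := fun _ _ => rfl, map_smul' := fun _ _ => rfl }
  let i : subM (algMod A φ) (fun E _ => intQ A φ E) (intQ_span' A φ) ≅ algMod (intAlg A φ) (intStr A φ) :=
    (SheafOfModules.fullyFaithfulForget _).preimageIso
      (PresheafOfModules.isoMk (fun W => (e W).toModuleIso) fun _ _ f => rfl)
  refine isQuasicoherent_of_iso i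
    (isQuasicoherent_subM (algMod A φ) (fun E _ => intQ A φ E) (fun g _ _ => intQ_res A φ g) (intQ_span' A φ))

theorem exists_intAlg : ∃ (A' : EtSh X CommRingCat.{u + 1}) (ι : A' ⟶ A) (φ' : OEt X ⟶ A'),
    φ' ≫ ι = φ ∧ (∀ E : EtOver X, Function.Injective (ι.hom.app (op E))) ∧
      (∀ E : EtOver X, Aff E → ∀ x : A.obj.obj (op E),
        x ∈ Set.range (ι.hom.app (op E)) ↔ (φ.hom.app (op E)).hom.IsIntegralElem x) ∧
      (algMod A' φ').IsQuasicoherent := by
  refine ⟨intAlg A φ, intι A φ, intStr A φ, rfl, fun E => Subtype.val_injective, fun E hE x => ?_,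
    isQuasicoherent_intAlg A φ⟩
  rw [← isIntegralElem_strΓ_iff]
  constructor
  · rintro ⟨y, rfl⟩
    have h := (y : intRing A φ (op E)).2 E hE (𝟙 E)
    rw [show (𝟙 E : E ⟶ E).op = 𝟙 (op E) from rfl, A.obj.map_id] at h
    exact h
  · intro hx
    exact ⟨(⟨x, fun E' hE' f => intQ_res A φ f x hx⟩ : intRing A φ (op E)), rfl⟩

end Groth.Agent.SpQC86
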