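import Mathlib.Algebra.Category.ModuleCat.Presheaf.Pullback
import Mathlib.Algebra.Category.ModuleCat.Sheaf.PullbackContinuous
import Mathlib.CategoryTheory.Category.ULift
import Groth.Prelude.Def_AlgSpOX2

/-!
Inverse images of modules exist on the small etale sites.
-/

set_option autoImplicit false
set_option linter.style.haveILetI false
set_option backward.isDefEq.respectTransparency false

universe u

open CategoryTheory CategoryTheory.Limits AlgebraicGeometry Opposite
open AlgSp

namespace Groth.Agent.SpQC86

section Presheaf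

variable {C : Type (u + 1)} [Category.{u} C] {D : Type (u + 1)} [Category.{u} D]

/-- The lift of morphisms. -/
abbrev upH (C : Type (u + 1)) [Category.{u} C] : C ⥤ ULiftHom.{u + 1} C := ULiftHom.up

/-- Its inverse. -/
abbrev downH (C : Type (u + 1)) [Category.{u} C] : ULiftHom.{u + 1} C ⥤ C := ULiftHom.down

/-- Modules on a category as modules on the category with lifted morphisms. -/
noncomputable abbrev liftHomMod (R : Cᵒᵖ ⥤ RingCat.{u + 1}) :
    PresheafOfModules.{u + 1} R ⥤ PresheafOfModules.{u + 1} ((downH C).op ⋙ R) :=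
  PresheafOfModules.pushforward (F := downH C) (𝟙 ((downH C).op ⋙ R))

/-- The inverse functor. -/
noncomputable abbrev unliftHomMod (R : Cᵒᵖ ⥤ RingCat.{u + 1}) :
    PresheafOfModules.{u + 1} ((downH C).op ⋙ R) ⥤ PresheafOfModules.{u + 1} R :=
  PresheafOfModules.pushforward (F := upH C) (R := (downH C).op ⋙ R) (S := R) (𝟙 R)

/-- The two lifts are inverse. -/
noncomputable def liftHomModEquiv (R : Cᵒᵖ ⥤ RingCat.{u + 1}) :
    PresheafOfModules.{u + 1} R ≌ PresheafOfModules.{u + 1} ((downH C).op ⋙ R) :=
  CategoryTheory.Equivalence.mk (liftHomMod R) (unliftHomMod R)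
    (NatIso.ofComponents (fun M => PresheafOfModules.isoMk (fun X => LinearEquiv.toModuleIso
      { toFun := fun x => x, invFun := fun x => x, left_inv := fun _ => rfl, right_inv := fun _ => rfl,
        map_add' := fun _ _ => rfl, map_smul' := fun _ _ => rfl }) (fun _ _ f => rfl))
      fun f => by ext; rfl)
    (NatIso.ofComponents (fun M => PresheafOfModules.isoMk (fun X => LinearEquiv.toModuleIso
      { toFun := fun x => x, invFun := fun x => x, left_inv := fun _ => rfl, right_inv := fun _ => rfl,
        map_add' := fun _ _ => rfl, map_smul' := fun _ _ => rfl }) (fun _ _ f => rfl))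
      fun f => by ext; rfl)

theorem isRightAdjoint_pushforward {F : C ⥤ D} {R : Dᵒᵖ ⥤ RingCat.{u + 1}} {S : Cᵒᵖ ⥤ RingCat.{u + 1}}
    (φ : S ⟶ F.op ⋙ R) : (PresheafOfModules.pushforward.{u + 1} φ).IsRightAdjoint := by
  let F' : ULiftHom.{u + 1} C ⥤ ULiftHom.{u + 1} D := downH C ⋙ F ⋙ upH D
  let φ' : (downH C).op ⋙ S ⟶ F'.op ⋙ (downH D).op ⋙ R := Functor.whiskerLeft (downH C).op φ
  haveI : (PresheafOfModules.pushforward.{u + 1} φ').IsRightAdjoint := inferInstance
  haveI : (liftHomMod R).IsRightAdjoint := (liftHomModEquiv R).symm.toAdjunction.isRightAdjoint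
  haveI : (unliftHomMod S).IsRightAdjoint := (liftHomModEquiv S).toAdjunction.isRightAdjoint
  let e : liftHomMod R ⋙ PresheafOfModules.pushforward.{u + 1} φ' ⋙ unliftHomMod S ≅
      PresheafOfModules.pushforward.{u + 1} φ :=
    NatIso.ofComponents (fun M => PresheafOfModules.isoMk (fun X => Iso.refl _) (fun _ _ f => rfl))
      fun f => by ext; rfl
  exact Functor.isRightAdjoint_of_iso e

end Presheaf

variable {S : Scheme.{u}} {X Y : Sp S} {f : X ⟶ Y}

/-- The inverse image of modules exists. -/
theorem isRightAdjoint_pushModEt (hf : Representable f) :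
    (SheafOfModules.pushforward.{u + 1} (bcRingHom hf)).IsRightAdjoint :=
  haveI := isRightAdjoint_pushforward (bcRingHom hf).hom
  inferInstance

end Groth.Agent.SpQC86
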