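import Groth.Agent.SpQC86.SubQC
import Groth.Agent.SpQC86.PushQC
import Groth.Agent.SpQC86.PullExists
import Groth.Agent.SpPts86.EtPushMod
import Groth.Agent.SpPts86.EtPullQC
import Mathlib.Algebra.Category.ModuleCat.Presheaf.Sheafify

/-!
Modules killed by the ideal of a closed subspace are direct images.
-/

set_option autoImplicit false
set_option linter.style.haveILetI false
set_option backward.isDefEq.respectTransparency false

universe u

open CategoryTheory CategoryTheory.Limits AlgebraicGeometry Opposite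
open AlgSp Groth.Agent.SpQC61 Groth.Agent.SpPts86

namespace Groth.Agent.SpQC86

variable {S : Scheme.{u}} {Z X : Sp S} {i : Z ⟶ X}

/-- The action on the sections of a module is killed by the functions vanishing on the closed subspace. -/
def KilledBy (hf : Representable i) (F : ModEt X) : Prop :=
  ∀ E : EtOver X, Aff E → ∀ (a : Γt E), bcΓ hf E a = 0 → ∀ s : SectM F E, a • s = 0

/-- The structure sheaf of the closed subspace on the target. -/
noncomputable abbrev pushO (hf : Representable i) : EtSh X RingCat.{u + 1} :=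
  (pushEt hf RingCat.{u + 1}).obj (OEtRing Z)

variable {hf : Representable i} {F : ModEt X}

theorem KilledBy.smul_eq_zero (hF : KilledBy hf F) (E : (EtOver X)ᵒᵖ) (x : (OEtRing X).obj.obj E)
    (hx : (bcRingHom hf).hom.app E x = 0) (m : F.val.obj E) : x • m = 0 := by
  refine sect_ext_aff F (W := E.unop) (x := x • m) (y := 0) fun E' hE' g => ?_
  rw [map_zero]
  have h0 : (bcRingHom hf).hom.app (op E') ((OEtRing X).obj.map g.op x) = 0 :=
    (NatTrans.naturality_apply (bcRingHom hf).hom g.op x).trans ((congrArg _ hx).trans (map_zero _))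
  exact (F.val.map_smul g.op x m).trans
    (hF E' hE' ((OEtRing X).obj.map g.op x).down (congrArg ULift.down h0) (F.val.map g.op m))

/-- The image of the comparison of structure sheaves. -/
noncomputable def imR (hf : Representable i) : (EtOver X)ᵒᵖ ⥤ RingCat.{u + 1} where
  obj E := RingCat.of ((bcRingHom hf).hom.app E).hom.range
  map {E E'} g := RingCat.ofHom ((((pushO hf).obj.map g).hom.comp ((bcRingHom hf).hom.app E).hom.range.subtype).codRestrict
    ((bcRingHom hf).hom.app E').hom.range fun x => by
      obtain ⟨y, hy⟩ := x.2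
      exact ⟨(OEtRing X).obj.map g y, (NatTrans.naturality_apply (bcRingHom hf).hom g y).trans
        (congrArg ((pushO hf).obj.map g) hy)⟩)
  map_id E := by
    ext x
    exact ConcreteCategory.congr_hom ((pushO hf).obj.map_id E) x.1
  map_comp g g' := by
    ext x
    exact ConcreteCategory.congr_hom ((pushO hf).obj.map_comp g g') x.1

/-- Its inclusion. -/
noncomputable def imι (hf : Representable i) : imR hf ⟶ (pushO hf).obj where
  app E := RingCat.ofHom ((bcRingHom hf).hom.app E).hom.range.subtype
  naturality _ _ _ := rfl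

/-- Functions in the image act through any lift. -/
noncomputable def imAct (E : (EtOver X)ᵒᵖ) (r : ((bcRingHom hf).hom.app E).hom.range) (m : F.val.obj E) :
    F.val.obj E :=
  r.2.choose • m

theorem imAct_eq (hF : KilledBy hf F) (E : (EtOver X)ᵒᵖ) (r : ((bcRingHom hf).hom.app E).hom.range)
    (x : (OEtRing X).obj.obj E) (hx : (bcRingHom hf).hom.app E x = r.1) (m : F.val.obj E) :
    imAct E r m = x • m := by
  have h0 : (bcRingHom hf).hom.app E (r.2.choose - x) = 0 :=
    (map_sub ((bcRingHom hf).hom.app E).hom _ _).trans (sub_eq_zero.2 (r.2.choose_spec.trans hx.symm))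
  exact sub_eq_zero.1 ((sub_smul _ _ _).symm.trans (hF.smul_eq_zero E _ h0 m))

/-- The sections of the module are modules over the image. -/
@[instance_reducible]
noncomputable def imModule (hF : KilledBy hf F) (E : (EtOver X)ᵒᵖ) :
    Module ((imR hf).obj E) (((SheafOfModules.toSheaf _).obj F).obj.obj E) where
  smul r m := imAct E r m
  one_smul m := (imAct_eq hF E 1 1 (map_one _) m).trans (one_smul _ _)
  mul_smul r r' m := by
    obtain ⟨x, hx⟩ := r.2
    obtain ⟨x', hx'⟩ := r'.2
    refine (imAct_eq hF E (r * r') (x * x') ((map_mul ((bcRingHom hf).hom.app E).hom x x').trans (congrArg₂ (· * ·) hx hx')) m).trans ?_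
    refine (mul_smul x x' _).trans ?_
    exact ((congrArg (x • ·) (imAct_eq hF E r' x' hx' m).symm).trans (imAct_eq hF E r x hx _).symm)
  smul_zero r := smul_zero (M := (OEtRing X).obj.obj E) (A := F.val.obj E) _
  smul_add r m m' := smul_add (M := (OEtRing X).obj.obj E) (A := F.val.obj E) _ _ _
  add_smul r r' m := by
    obtain ⟨x, hx⟩ := r.2
    obtain ⟨x', hx'⟩ := r'.2
    refine (imAct_eq hF E (r + r') (x + x') ((map_add ((bcRingHom hf).hom.app E).hom x x').trans (congrArg₂ (· + ·) hx hx')) m).trans ?_
    exact (add_smul x x' _).trans (congrArg₂ (· + ·) (imAct_eq hF E r x hx m).symm (imAct_eq hF E r' x' hx' m).symm)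
  zero_smul m := (imAct_eq hF E 0 0 (map_zero _) m).trans (zero_smul _ _)

/-- The module as a module over the image. -/
noncomputable def imMod (hF : KilledBy hf F) : PresheafOfModules.{u + 1} (imR hf) :=
  letI := imModule hF
  PresheafOfModules.ofPresheaf ((SheafOfModules.toSheaf _).obj F).obj fun E E' g r m => by
    obtain ⟨x, hx⟩ := r.2
    refine (congrArg (F.val.map g) (imAct_eq hF E r x hx m)).trans ?_
    refine (F.val.map_smul g x m).trans (imAct_eq hF E' _ ((OEtRing X).obj.map g x) ?_ _).symm
    exact (NatTrans.naturality_apply (bcRingHom hf).hom g x).trans (congrArg ((pushO hf).obj.map g) hx)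

instance : Presheaf.IsLocallyInjective (etTop X) (imι hf) :=
  Presheaf.isLocallyInjective_of_injective _ _ fun _ => Subtype.val_injective

theorem isLocallySurjective_imι (hi : RepWith @IsClosedImmersion i) :
    Presheaf.IsLocallySurjective (etTop X) (imι hi.1) :=
  ⟨fun {E} s => (etTop X).superset_covering (fun W g hg => by
    obtain ⟨x, hx⟩ := hg
    exact ⟨⟨_, ⟨x, rfl⟩⟩, hx⟩)
    ((isLocallySurjective_bcRingHom hi).imageSieve_mem (U := E) s)⟩

section

variable (hi : RepWith @IsClosedImmersion i) (hX : IsAlgSpace X) {F : ModEt X} (hF : KilledBy hi.1 F)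

/-- The module as a module over the structure sheaf of the closed subspace. -/
noncomputable def overPushO : SheafOfModules.{u + 1} (pushO hi.1) :=
  haveI := isLocallySurjective_imι hi
  PresheafOfModules.sheafify (imι hi.1) (M₀ := imMod hF) (A := (SheafOfModules.toSheaf _).obj F) (𝟙 _)

/-- Functions on the closed subspace act on the sections of the module. -/
noncomputable def actI (E : EtOver X) (r : (pushO hi.1).obj.obj (op E)) (m : F.val.obj (op E)) :
    F.val.obj (op E) :=
  HSMul.hSMul (α := (pushO hi.1).obj.obj (op E)) (β := (overPushO hi hF).val.obj (op E)) r m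

theorem actI_map {E E' : EtOver X} (g : E' ⟶ E) (r : (pushO hi.1).obj.obj (op E)) (m : F.val.obj (op E)) :
    F.val.map g.op (actI hi hF E r m) = actI hi hF E' ((pushO hi.1).obj.map g.op r) (F.val.map g.op m) :=
  (overPushO hi hF).val.map_smul g.op r m

theorem actI_bc (E : EtOver X) (x : (OEtRing X).obj.obj (op E)) (m : F.val.obj (op E)) :
    actI hi hF E ((bcRingHom hi.1).hom.app (op E) x) m = x • m := by
  haveI := isLocallySurjective_imι hi
  refine Eq.trans ?_ (imAct_eq hF (op E) ⟨_, ⟨x, rfl⟩⟩ x rfl m)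
  exact ((PresheafOfModules.toSheafify (imι hi.1) (M₀ := imMod hF) (A := (SheafOfModules.toSheaf _).obj F) (𝟙 _)).app
    (op E)).hom.map_smul ⟨_, ⟨x, rfl⟩⟩ m |>.symm

theorem actI_one (E : EtOver X) (m : F.val.obj (op E)) :
    actI hi hF E (1 : (pushO hi.1).obj.obj (op E)) m = m :=
  one_smul (M := (pushO hi.1).obj.obj (op E)) (α := (overPushO hi hF).val.obj (op E)) m

theorem actI_mul (E : EtOver X) (r r' : (pushO hi.1).obj.obj (op E)) (m : F.val.obj (op E)) :
    actI hi hF E (r * r') m = actI hi hF E r (actI hi hF E r' m) :=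
  SemigroupAction.mul_smul (α := (pushO hi.1).obj.obj (op E)) (β := (overPushO hi hF).val.obj (op E)) r r' m

theorem actI_zero_right (E : EtOver X) (r : (pushO hi.1).obj.obj (op E)) :
    actI hi hF E r 0 = 0 :=
  smul_zero (M := (pushO hi.1).obj.obj (op E)) (A := (overPushO hi hF).val.obj (op E)) r

theorem actI_zero_left (E : EtOver X) (m : F.val.obj (op E)) :
    actI hi hF E (0 : (pushO hi.1).obj.obj (op E)) m = 0 :=
  zero_smul ((pushO hi.1).obj.obj (op E)) (A := (overPushO hi hF).val.obj (op E)) m

theorem actI_add_right (E : EtOver X) (r : (pushO hi.1).obj.obj (op E)) (m m' : F.val.obj (op E)) :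
    actI hi hF E r (m + m') = actI hi hF E r m + actI hi hF E r m' :=
  smul_add (M := (pushO hi.1).obj.obj (op E)) (A := (overPushO hi hF).val.obj (op E)) r m m'

theorem actI_add_left (E : EtOver X) (r r' : (pushO hi.1).obj.obj (op E)) (m : F.val.obj (op E)) :
    actI hi hF E (r + r') m = actI hi hF E r m + actI hi hF E r' m :=
  add_smul (R := (pushO hi.1).obj.obj (op E)) (M := (overPushO hi hF).val.obj (op E)) r r' m

include hX hF in
theorem mem_essImage_toSheaf :
    (pushEt hi.1 AddCommGrpCat.{u + 1}).essImage ((SheafOfModules.toSheaf _).obj F) := by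
  refine mem_essImage_pushEt hi.1 (repWith_intUI_of_closedImm hi) hX _ fun E hE => ?_
  haveI : Subsingleton (((SheafOfModules.toSheaf (OEtRing X)).obj F).obj.obj (op E)) := ⟨fun a b =>
    sect_ext_aff F (W := E) (x := a) (y := b) fun E' hE' g => by
      haveI := isEmpty_bc_of_avoidsRange hi.1 (hE.of_hom g)
      have h : ∀ s : SectM F E', s = 0 := fun s =>
        (one_smul _ s).symm.trans (hF E' hE' 1 (Subsingleton.elim _ _) s)
      exact (h _).trans (h _).symm⟩
  exact ⟨(AddCommGrpCat.isZero_of_subsingleton _).isTerminal⟩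

/-- The additive sheaf on the closed subspace. -/
noncomputable def gAb : AbEt Z := (mem_essImage_toSheaf hi hX hF).witness

/-- Its direct image. -/
noncomputable def gIso : (pushEt hi.1 AddCommGrpCat.{u + 1}).obj (gAb hi hX hF) ≅ (SheafOfModules.toSheaf _).obj F :=
  (mem_essImage_toSheaf hi hX hF).getIso

/-- Comparison of sections. -/
noncomputable def gEquiv (E : EtOver X) :
    (gAb hi hX hF).obj.obj (op ((EtOver.bc hi.1).obj E)) ≃+ F.val.obj (op E) :=
  (((sheafToPresheaf _ _).mapIso (gIso hi hX hF)).app (op E)).addCommGroupIsoToAddEquiv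

theorem gEquiv_map {E E' : EtOver X} (g : E' ⟶ E) (m : (gAb hi hX hF).obj.obj (op ((EtOver.bc hi.1).obj E))) :
    gEquiv hi hX hF E' ((gAb hi hX hF).obj.map ((EtOver.bc hi.1).map g).op m) = F.val.map g.op (gEquiv hi hX hF E m) :=
  NatTrans.naturality_apply (gIso hi hX hF).hom.hom g.op m

theorem gEquiv_symm_map {E E' : EtOver X} (g : E' ⟶ E) (m : F.val.obj (op E)) :
    (gAb hi hX hF).obj.map ((EtOver.bc hi.1).map g).op ((gEquiv hi hX hF E).symm m) =
      (gEquiv hi hX hF E').symm (F.val.map g.op m) := by
  apply (gEquiv hi hX hF E').injective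
  rw [gEquiv_map, AddEquiv.apply_symm_apply, AddEquiv.apply_symm_apply]

/-- Pairs of a function and a section. -/
noncomputable def pairs : (EtOver Z)ᵒᵖ ⥤ Type (u + 1) where
  obj V := (OEtRing Z).obj.obj V × (gAb hi hX hF).obj.obj V
  map g := TypeCat.ofHom fun p => ((OEtRing Z).obj.map g p.1, (gAb hi hX hF).obj.map g p.2)
  map_id V := by ext p <;> simp
  map_comp g g' := by ext p <;> simp

/-- The action on the objects coming from the target. -/
noncomputable def actα : (EtOver.bc hi.1).op ⋙ pairs hi hX hF ⟶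
    (EtOver.bc hi.1).op ⋙ ((sheafCompose _ (forget AddCommGrpCat.{u + 1})).obj (gAb hi hX hF)).obj where
  app E := TypeCat.ofHom fun p => (gEquiv hi hX hF E.unop).symm (actI hi hF E.unop p.1 (gEquiv hi hX hF E.unop p.2))
  naturality E E' g := by
    ext p
    exact ((congrArg (gEquiv hi hX hF E'.unop).symm ((congrArg (actI hi hF E'.unop _)
      (gEquiv_map hi hX hF g.unop p.2)).trans (actI_map hi hF g.unop p.1 (gEquiv hi hX hF E.unop p.2)).symm)).trans
      (gEquiv_symm_map hi hX hF g.unop _).symm)

/-- The action. -/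
noncomputable def act (V : (EtOver Z)ᵒᵖ) (r : (OEtRing Z).obj.obj V) (m : (gAb hi hX hF).obj.obj V) :
    (gAb hi hX hF).obj.obj V :=
  haveI := isCoverDense_bc (repWith_intUI_of_closedImm hi) hX
  haveI := isLocallyFull_bc (repWith_intUI_of_closedImm hi)
  Functor.IsCoverDense.Types.appHom (K := etTop Z) (G := EtOver.bc hi.1)
    (ℱ' := (sheafCompose _ (forget AddCommGrpCat.{u + 1})).obj (gAb hi hX hF)) (actα hi hX hF) V.unop
    ((r, m) : (pairs hi hX hF).obj V)

theorem act_restrict {V : EtOver Z} {E : EtOver X} (g : (EtOver.bc hi.1).obj E ⟶ V)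
    (r : (OEtRing Z).obj.obj (op V)) (m : (gAb hi hX hF).obj.obj (op V)) :
    (gAb hi hX hF).obj.map g.op (act hi hX hF (op V) r m) =
      (gEquiv hi hX hF E).symm (actI hi hF E ((OEtRing Z).obj.map g.op r)
        (gEquiv hi hX hF E ((gAb hi hX hF).obj.map g.op m))) :=
  haveI := isCoverDense_bc (repWith_intUI_of_closedImm hi) hX
  haveI := isLocallyFull_bc (repWith_intUI_of_closedImm hi)
  Functor.IsCoverDense.Types.appHom_restrict (K := etTop Z) (G := EtOver.bc hi.1)
    (ℱ' := (sheafCompose _ (forget AddCommGrpCat.{u + 1})).obj (gAb hi hX hF)) (actα hi hX hF) g.op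
    ((r, m) : (pairs hi hX hF).obj (op V))

theorem ext_bc {V : EtOver Z} {x y : (gAb hi hX hF).obj.obj (op V)}
    (h : ∀ (E : EtOver X) (g : (EtOver.bc hi.1).obj E ⟶ V),
      gEquiv hi hX hF E ((gAb hi hX hF).obj.map g.op x) = gEquiv hi hX hF E ((gAb hi hX hF).obj.map g.op y)) :
    x = y := by
  refine eq_of_locally_eq (gAb hi hX hF) _ _ fun v => ?_
  obtain ⟨E, g, w, hw⟩ := exists_bc_map_mem_range (repWith_intUI_of_closedImm hi) hX V v
  exact ⟨_, g, (gEquiv hi hX hF E).injective (h E g), ⟨w, hw⟩⟩

theorem equiv_act {V : EtOver Z} {E : EtOver X} (g : (EtOver.bc hi.1).obj E ⟶ V)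
    (r : (OEtRing Z).obj.obj (op V)) (m : (gAb hi hX hF).obj.obj (op V)) :
    gEquiv hi hX hF E ((gAb hi hX hF).obj.map g.op (act hi hX hF (op V) r m)) =
      actI hi hF E ((OEtRing Z).obj.map g.op r) (gEquiv hi hX hF E ((gAb hi hX hF).obj.map g.op m)) :=
  (congrArg (gEquiv hi hX hF E) (act_restrict hi hX hF g r m)).trans (AddEquiv.apply_symm_apply _ _)

theorem act_map {V V' : EtOver Z} (g : V' ⟶ V) (r : (OEtRing Z).obj.obj (op V)) (m : (gAb hi hX hF).obj.obj (op V)) :
    (gAb hi hX hF).obj.map g.op (act hi hX hF (op V) r m) =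
      act hi hX hF (op V') ((OEtRing Z).obj.map g.op r) ((gAb hi hX hF).obj.map g.op m) :=
  ext_bc hi hX hF fun E g' => by
    rw [equiv_act, ← ConcreteCategory.comp_apply, ← Functor.map_comp, ← op_comp, equiv_act, op_comp,
      Functor.map_comp, Functor.map_comp, ConcreteCategory.comp_apply, ConcreteCategory.comp_apply]

/-- The module structure on the sheaf on the closed subspace. -/
@[instance_reducible]
noncomputable def gModule (V : (EtOver Z)ᵒᵖ) : Module ((OEtRing Z).obj.obj V) ((gAb hi hX hF).obj.obj V) where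
  smul := act hi hX hF V
  one_smul m := ext_bc hi hX hF fun E g => by
    show gEquiv hi hX hF E ((gAb hi hX hF).obj.map g.op (act hi hX hF _ _ _)) = _
    rw [equiv_act, map_one, actI_one]
  mul_smul r r' m := ext_bc hi hX hF fun E g => by
    show gEquiv hi hX hF E ((gAb hi hX hF).obj.map g.op (act hi hX hF _ _ _)) =
      gEquiv hi hX hF E ((gAb hi hX hF).obj.map g.op (act hi hX hF _ _ (act hi hX hF _ _ _)))
    rw [equiv_act, equiv_act, equiv_act, map_mul, actI_mul]
  smul_zero r := ext_bc hi hX hF fun E g => by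
    show gEquiv hi hX hF E ((gAb hi hX hF).obj.map g.op (act hi hX hF _ _ _)) = _
    rw [equiv_act, map_zero, map_zero, actI_zero_right]
  smul_add r m m' := ext_bc hi hX hF fun E g => by
    show gEquiv hi hX hF E ((gAb hi hX hF).obj.map g.op (act hi hX hF _ _ _)) =
      gEquiv hi hX hF E ((gAb hi hX hF).obj.map g.op (act hi hX hF _ _ _ + act hi hX hF _ _ _))
    rw [map_add, map_add, equiv_act, equiv_act, equiv_act, map_add, map_add, actI_add_right]
  add_smul r r' m := ext_bc hi hX hF fun E g => by
    show gEquiv hi hX hF E ((gAb hi hX hF).obj.map g.op (act hi hX hF _ _ _)) =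
      gEquiv hi hX hF E ((gAb hi hX hF).obj.map g.op (act hi hX hF _ _ _ + act hi hX hF _ _ _))
    rw [map_add, map_add, equiv_act, equiv_act, equiv_act, map_add, actI_add_left]
  zero_smul m := ext_bc hi hX hF fun E g => by
    show gEquiv hi hX hF E ((gAb hi hX hF).obj.map g.op (act hi hX hF _ _ _)) = _
    rw [equiv_act, map_zero, map_zero, map_zero, actI_zero_left]

/-- The module on the closed subspace. -/
noncomputable def gMod : ModEt Z where
  val := letI := gModule hi hX hF
    PresheafOfModules.ofPresheaf (gAb hi hX hF).obj fun V V' g r m => act_map hi hX hF g.unop r m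
  isSheaf := (gAb hi hX hF).property

theorem gEquiv_bc (E : EtOver X) (x : (OEtRing X).obj.obj (op E))
    (m : ((pushModEt hi.1).obj (gMod hi hX hF)).val.obj (op E)) :
    gEquiv hi hX hF E (x • m : ((pushModEt hi.1).obj (gMod hi hX hF)).val.obj (op E)) =
      x • gEquiv hi hX hF E m := by
  refine Eq.trans ?_ (actI_bc hi hF E x _)
  have h := equiv_act hi hX hF (𝟙 ((EtOver.bc hi.1).obj E)) ((bcRingHom hi.1).hom.app (op E) x) m
  simp only [op_id, CategoryTheory.Functor.map_id] at h
  exact h

/-- Comparison of sections, linearly. -/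
noncomputable def gLin (E : (EtOver X)ᵒᵖ) :
    ((pushModEt hi.1).obj (gMod hi hX hF)).val.obj E ≃ₗ[(OEtRing X).obj.obj E] F.val.obj E where
  toFun m := gEquiv hi hX hF E.unop m
  invFun m := (gEquiv hi hX hF E.unop).symm m
  map_add' m m' := map_add (gEquiv hi hX hF E.unop) m m'
  map_smul' x m := gEquiv_bc hi hX hF E.unop x m
  left_inv := (gEquiv hi hX hF E.unop).left_inv
  right_inv := (gEquiv hi hX hF E.unop).right_inv

/-- Its direct image is the module. -/
noncomputable def pushGModIso : (pushModEt hi.1).obj (gMod hi hX hF) ≅ F :=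
  (SheafOfModules.fullyFaithfulForget _).preimageIso (PresheafOfModules.isoMk
    (fun E => (gLin hi hX hF E).toModuleIso) fun E E' g => by ext m; exact gEquiv_map hi hX hF g.unop m)

theorem isQuasicoherent_gMod [F.IsQuasicoherent] : (gMod hi hX hF).IsQuasicoherent := by
  haveI := isRightAdjoint_pushModEt (S := S) hi.1
  haveI := isIso_counit_pullPushAdjModEt hi hX (gMod hi hX hF)
  have h : ((pullModEt hi.1).obj F).IsQuasicoherent :=
    isQuasicoherent_pullModEt_of_representable hi.1 hX inferInstance
  exact (SheafOfModules.isQuasicoherent (OEtRing Z)).prop_of_iso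
    ((pullModEt hi.1).mapIso (pushGModIso hi hX hF).symm ≪≫ asIso ((pullPushAdjModEt hi.1).counit.app _)) h

end

end Groth.Agent.SpQC86
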