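import Groth.Agent.SpQC86.Colim
import Groth.Agent.QC70.ToSheaf

/-!
Quasi-coherent modules on the small etale site are closed under colimits and kernels.
-/

set_option autoImplicit false
set_option linter.style.haveILetI false
set_option backward.isDefEq.respectTransparency false

universe u w w'

open CategoryTheory CategoryTheory.Limits AlgebraicGeometry Opposite
open AlgSp Groth.Agent.SpQC61

namespace Groth.Agent.SpQC86

variable {S : Scheme.{u}} {X : Sp S}

/-- Sheafification of presheaves of modules on the small etale site. -/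
noncomputable abbrev shM (X : Sp S) : PModEt X ⥤ ModEt X :=
  PresheafOfModules.sheafification.{u + 1} (𝟙 (OEtRing X).obj)

/-- The underlying presheaf. -/
noncomputable abbrev forgM (X : Sp S) : ModEt X ⥤ PModEt X :=
  SheafOfModules.forget (OEtRing X) ⋙ PresheafOfModules.restrictScalars (𝟙 (OEtRing X).obj)

theorem goodP_forgM (M : ModEt X) [M.IsQuasicoherent] (E : EtOver X) (hE : Aff E) : GoodP ((forgM X).obj M) E :=
  goodM_of_isQuasicoherent M E

/-- The sheafification of a presheaf with the base change property is quasi-coherent. -/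
theorem isQuasicoherent_sheafify (P : PModEt X) (hP : ∀ E, Aff E → GoodP P E) :
    ((shM X).obj P).IsQuasicoherent := by
  refine isQuasicoherent_of_good _ fun E hE => ?_
  let η := (PresheafOfModules.sheafificationAdjunction.{u + 1} (𝟙 (OEtRing X).obj)).unit.app P
  let φ : P.presheaf ⟶ ((shM X).obj P).val.presheaf := CategoryTheory.toSheafify (etTop X) P.presheaf
  haveI : Presheaf.IsLocallyInjective (etTop X) φ :=
    inferInstanceAs (Presheaf.IsLocallyInjective (etTop X) (CategoryTheory.toSheafify (etTop X) P.presheaf))
  haveI : Presheaf.IsLocallySurjective (etTop X) φ :=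
    inferInstanceAs (Presheaf.IsLocallySurjective (etTop X) (CategoryTheory.toSheafify (etTop X) P.presheaf))
  exact goodM_of_locally_bijective φ (fun E a x => (η.app (op E)).hom.map_smul (upΓ E a) x) hP E

/-- Quasi-coherence is invariant under isomorphism. -/
theorem isQuasicoherent_of_iso {M N : ModEt X} (e : M ≅ N) (hM : M.IsQuasicoherent) : N.IsQuasicoherent :=
  (SheafOfModules.isQuasicoherent (OEtRing X)).prop_of_iso e hM

/-- Quasi-coherent modules are closed under colimits. -/
theorem isQuasicoherent_of_isColimit {J : Type w} [Category.{w'} J]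
    [HasColimitsOfShape J AddCommGrpCat.{u + 1}]
    [∀ R : RingCat.{u + 1}, HasColimitsOfShape J (ModuleCat.{u + 1} R)]
    [HasColimitsOfShape J (PModEt X)] [∀ E : EtOver X, PreservesColimitsOfShape J (evAb X E)]
    {D : J ⥤ ModEt X} (hD : ∀ j, (D.obj j).IsQuasicoherent) {c : Cocone D} (hc : IsColimit c) :
    c.pt.IsQuasicoherent := by
  let t := colimit.cocone (D ⋙ forgM X)
  let ht : IsColimit t := colimit.isColimit _
  let adj := PresheafOfModules.sheafificationAdjunction.{u + 1} (𝟙 (OEtRing X).obj)
  haveI : PreservesColimitsOfShape J (shM X) := adj.leftAdjoint_preservesColimits.preservesColimitsOfShape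
  have hc1 : IsIso adj.counit := inferInstance
  let e : (D ⋙ forgM X) ⋙ shM X ≅ D :=
    Functor.associator _ _ _ ≪≫ Functor.isoWhiskerLeft D (asIso adj.counit) ≪≫ D.rightUnitor
  refine isQuasicoherent_of_iso ((isColimitOfPreserves (shM X) ht).coconePointsIsoOfNatIso hc e)
    (isQuasicoherent_sheafify t.pt ?_)
  exact goodP_of_isColimit t (fun E => isColimitOfPreserves (evAb X E) ht)
    fun j E hE => haveI := hD j; goodP_forgM (D.obj j) E hE

theorem isQuasicoherent_colimit {J : Type u} [SmallCategory J] (D : J ⥤ ModEt X) [HasColimit D]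
    (hD : ∀ j, (D.obj j).IsQuasicoherent) : (colimit D).IsQuasicoherent :=
  isQuasicoherent_of_isColimit hD (colimit.isColimit D)

theorem isQuasicoherent_cokernel {F G : ModEt X} (φ : F ⟶ G) (hF : F.IsQuasicoherent) (hG : G.IsQuasicoherent) :
    (cokernel φ).IsQuasicoherent :=
  isQuasicoherent_of_isColimit (D := parallelPair φ 0) (fun j => by cases j <;> assumption)
    (colimit.isColimit (parallelPair φ 0))

end Groth.Agent.SpQC86
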