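import Groth.Agent.SpQC86.Limits
import Mathlib.CategoryTheory.Sites.EpiMono
import Mathlib.Algebra.Category.ModuleCat.Kernels
import Mathlib.Algebra.Homology.ShortComplex.ModuleCat

/-!
Short exact sequences of modules on the small etale site and the base change property.
-/

set_option autoImplicit false
set_option linter.style.haveILetI false
set_option backward.isDefEq.respectTransparency false

universe u

open CategoryTheory CategoryTheory.Limits AlgebraicGeometry Opposite
open AlgSp Groth.Agent.SpQC61

namespace Groth.Agent.SpQC86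

variable {S : Scheme.{u}} {X : Sp S}

/-- A map of modules on sections. -/
noncomputable def appM {M N : ModEt X} (f : M ⟶ N) (E : EtOver X) : SectM M E →ₗ[Γt E] SectM N E where
  toFun x := (f.val.app (op E)).hom x
  map_add' x y := map_add (f.val.app (op E)).hom x y
  map_smul' a x := (f.val.app (op E)).hom.map_smul (upΓ E a) x

theorem appM_res {M N : ModEt X} (f : M ⟶ N) {E' E : EtOver X} (g : E' ⟶ E) (x : SectM M E) :
    appM f E' (resM M g x) = resM N g (appM f E x) :=
  PresheafOfModules.naturality_apply f.val g.op x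

theorem bcM_lTensor {M N : ModEt X} (f : M ⟶ N) {E' E : EtOver X} (g : E' ⟶ E) :
    letI := (cmap g).toAlgebra
    ∀ z, bcM N g ((appM f E).lTensor (Γt E') z) = appM f E' (bcM M g z) := by
  letI := (cmap g).toAlgebra
  intro z
  induction z using TensorProduct.induction_on with
  | zero =>
    exact ((congrArg _ (map_zero ((appM f E).lTensor (Γt E')))).trans (map_zero (bcM N g))).trans
      ((congrArg _ (map_zero (bcM M g))).trans (map_zero _)).symm
  | tmul b n =>
    show b • resM N g (appM f E n) = appM f E' (b • resM M g n)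
    rw [LinearMap.map_smul, appM_res]
  | add p q hp hq =>
    exact ((congrArg _ (map_add ((appM f E).lTensor (Γt E')) p q)).trans
      ((map_add (bcM N g) _ _).trans (congrArg₂ (· + ·) hp hq))).trans
      ((congrArg _ (map_add (bcM M g) p q)).trans (map_add (appM f E') _ _)).symm

/-- Taking sections over an object. -/
noncomputable abbrev evM (E : EtOver X) : ModEt X ⥤ AddCommGrpCat.{u + 1} :=
  SheafOfModules.forget (OEtRing X) ⋙ evAb X E

theorem appM_injective {M N : ModEt X} (f : M ⟶ N) [Mono f] (E : EtOver X) : Function.Injective (appM f E) := by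
  haveI : Mono f.val := (SheafOfModules.forget _).map_mono f
  exact PresheafOfModules.injective_of_mono f.val (op E)

variable {C : ShortComplex (ModEt X)}

theorem appM_exact (hC : C.ShortExact) (E : EtOver X) : Function.Exact (appM C.f E) (appM C.g E) := fun x => by
  haveI : Mono C.f := hC.mono_f
  haveI : PreservesFiniteLimits (evM (X := X) E) := inferInstance
  have h := ((ShortComplex.ab_exact_iff_function_exact _).1 (hC.exact.map_of_mono_of_preservesKernel (evM E) ‹_›
    inferInstance)) x
  exact h

theorem isLocallySurjective_of_epi {M N : ModEt X} (f : M ⟶ N) [Epi f] :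
    Presheaf.IsLocallySurjective (etTop X) ((PresheafOfModules.toPresheaf _).map f.val) := by
  haveI : Epi ((SheafOfModules.toSheaf (OEtRing X)).map f) := inferInstance
  exact (Sheaf.isLocallySurjective_iff_epi' _ ((SheafOfModules.toSheaf (OEtRing X)).map f)).2 ‹_›

theorem bcM_five (hC : C.ShortExact) {E' E : EtOver X} (g : E' ⟶ E) [Aff E] [Aff E']
    (hs : Function.Surjective (appM C.g E)) (hs' : Function.Surjective (appM C.g E'))
    (h1 : Function.Bijective (bcM C.X₁ g)) (h3 : Function.Bijective (bcM C.X₃ g)) :
    Function.Bijective (bcM C.X₂ g) := by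
  haveI : Mono C.f := hC.mono_f
  letI := (cmap g).toAlgebra
  haveI : Module.Flat (Γt E) (Γt E') := flat_cmap g
  have hex := Module.Flat.lTensor_exact (M := Γt E') (appM_exact hC E)
  refine ⟨(injective_iff_map_eq_zero _).2 fun z hz => ?_, fun x => ?_⟩
  · have h0 : (appM C.g E).lTensor (Γt E') z = 0 := h3.1 (by
      rw [bcM_lTensor, hz, map_zero]; exact (map_zero (bcM C.X₃ g)).symm)
    obtain ⟨w, rfl⟩ := (hex z).1 h0
    have hw : w = 0 := h1.1 (by
      refine (appM_injective C.f E' ?_).trans (map_zero (bcM C.X₁ g)).symm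
      rw [← bcM_lTensor, hz, map_zero])
    rw [hw]
    exact map_zero ((appM C.f E).lTensor (Γt E'))
  · obtain ⟨w, hw⟩ := h3.2 (appM C.g E' x)
    obtain ⟨z, rfl⟩ := LinearMap.lTensor_surjective (Γt E') hs w
    have h0 : appM C.g E' (x - bcM C.X₂ g z) = 0 := by
      rw [map_sub, ← bcM_lTensor, hw, sub_self]
    obtain ⟨k, hk⟩ := (appM_exact hC E' _).1 h0
    obtain ⟨v, rfl⟩ := h1.2 k
    refine ⟨z + (appM C.f E).lTensor (Γt E') v, ?_⟩
    refine (map_add (bcM C.X₂ g) _ _).trans ?_
    rw [bcM_lTensor, hk, add_sub_cancel]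

/-- The kernel of a map of modules with the base change property has it. -/
theorem isQuasicoherent_kernel {F G : ModEt X} (φ : F ⟶ G) (hF : F.IsQuasicoherent) (hG : G.IsQuasicoherent) :
    (kernel φ).IsQuasicoherent := by
  refine isQuasicoherent_of_good _ fun E hE => fun E' g ha => ?_
  haveI := hE
  haveI := ha
  letI := (cmap g).toAlgebra
  haveI : Module.Flat (Γt E) (Γt E') := flat_cmap g
  have hexs : ∀ E, Function.Exact (appM (kernel.ι φ) E) (appM φ E) := fun E x => by
    haveI : PreservesFiniteLimits (evM (X := X) E) := inferInstance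
    have h := ((ShortComplex.ab_exact_iff_function_exact _).1 ((ShortComplex.exact_kernel φ).map_of_mono_of_preservesKernel
      (evM E) inferInstance inferInstance)) x
    exact h
  have hex := Module.Flat.lTensor_exact (M := Γt E') (hexs E)
  have hF' := bcM_bijective F g
  have hG' := bcM_bijective G g
  refine ⟨(injective_iff_map_eq_zero _).2 fun z hz => ?_, fun x => ?_⟩
  · refine Module.Flat.lTensor_preserves_injective_linearMap (M := Γt E') (appM (kernel.ι φ) E)
      (appM_injective _ E) (hF'.1 ?_)
    rw [map_zero, bcM_lTensor, hz, map_zero]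
    exact (map_zero (bcM F g)).symm
  · obtain ⟨w, hw⟩ := hF'.2 (appM (kernel.ι φ) E' x)
    have h0 : (appM φ E).lTensor (Γt E') w = 0 := hG'.1 (by
      rw [bcM_lTensor, hw]
      exact ((hexs E' _).2 ⟨x, rfl⟩).trans (map_zero (bcM G g)).symm)
    obtain ⟨v, rfl⟩ := (hex w).1 h0
    exact ⟨v, appM_injective (kernel.ι φ) E' (by rw [← bcM_lTensor, hw])⟩

end Groth.Agent.SpQC86
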