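import Groth.Agent.SpQC61.GenLocal

/-!
Locally spanning sections give an epimorphism from a free module.
-/

set_option autoImplicit false
set_option backward.isDefEq.respectTransparency false

universe v₁ u₁

open CategoryTheory CategoryTheory.Limits Opposite
open Groth.Agent.SpQC61

namespace Groth.Agent.SpQC86

variable {C : Type u₁} [Category.{v₁} C] {J : GrothendieckTopology C} {R : Sheaf J RingCat.{max u₁ v₁}}
  [HasSheafify J AddCommGrpCat.{max u₁ v₁}] [J.WEqualsLocallyBijective AddCommGrpCat.{max u₁ v₁}]
  {M : SheafOfModules.{max u₁ v₁} R} {I : Type (max u₁ v₁)} (s : I → M.sections)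

theorem eq_of_eq_on_sections {H : SheafOfModules.{max u₁ v₁} R} (g h : M ⟶ H)
    (he : ∀ i, SheafOfModules.sectionsMap g (s i) = SheafOfModules.sectionsMap h (s i)) {V : C}
    {y : M.val.obj (op V)} (hy : y ∈ spanAt s V) : g.val.app (op V) y = h.val.app (op V) y := by
  induction hy using Submodule.span_induction with
  | mem z hz =>
    obtain ⟨i, rfl⟩ := hz
    exact congrArg (fun t : H.sections => t.val (op V)) (he i)
  | zero => exact (map_zero (g.val.app (op V)).hom).trans (map_zero (h.val.app (op V)).hom).symm
  | add a b _ _ ha hb =>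
    exact ((map_add (g.val.app (op V)).hom a b).trans (congrArg₂ (· + ·) ha hb)).trans
      (map_add (h.val.app (op V)).hom a b).symm
  | smul r a _ ha =>
    exact ((LinearMap.map_smul (g.val.app (op V)).hom r a).trans (congrArg (r • ·) ha)).trans
      (LinearMap.map_smul (h.val.app (op V)).hom r a).symm

/-- Locally spanning sections generate. -/
theorem epi_freeHomEquiv_symm (hs : ∀ (W : C) (x : M.val.obj (op W)), spanSieve s x ∈ J W) :
    Epi (M.freeHomEquiv.symm s) := by
  refine ⟨fun {H} g h e => SheafOfModules.Hom.ext (PresheafOfModules.hom_ext fun W => ?_)⟩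
  obtain ⟨W⟩ := W
  ext x
  have he : ∀ i, SheafOfModules.sectionsMap g (s i) = SheafOfModules.sectionsMap h (s i) := fun i => by
    have := congrArg (fun φ => H.freeHomEquiv φ i) e
    simpa [SheafOfModules.freeHomEquiv_comp_apply] using this
  have hM : Presieve.IsSheaf J (H.val.presheaf ⋙ forget AddCommGrpCat.{max u₁ v₁}) :=
    (isSheaf_iff_isSheaf_of_type _ _).1 ((Presheaf.isSheaf_iff_isSheaf_forget _ _ _).1 H.isSheaf)
  refine (hM _ (hs W x)).isSeparatedFor.ext fun V v hv => ?_
  show H.val.map v.op (g.val.app (op W) x) = H.val.map v.op (h.val.app (op W) x)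
  rw [← PresheafOfModules.naturality_apply, ← PresheafOfModules.naturality_apply]
  exact eq_of_eq_on_sections s g h he hv

end Groth.Agent.SpQC86
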