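import Groth.Agent.SpQC61.Main
import Groth.Agent.SpQC86.Epi
import Mathlib.Algebra.Category.ModuleCat.Presheaf.EpiMono
import Mathlib.LinearAlgebra.DirectSum.Finsupp
import Mathlib.LinearAlgebra.TensorProduct.RightExactness

/-!
A module whose sections over affine objects are base change is quasi-coherent.
-/

set_option autoImplicit false
set_option linter.style.haveILetI false
set_option backward.isDefEq.respectTransparency false

universe u

open CategoryTheory CategoryTheory.Limits AlgebraicGeometry Opposite
open AlgSp Groth.Agent.SpQC61

namespace Groth.Agent.SpQC86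

variable {S : Scheme.{u}} {X : Sp S} {E : EtOver X}

theorem mem_spanAt_of_mem_span {F : ModOver E} {I : Type (u + 1)} (s : I → F.sections) {o : Over E} {x : Sect F o}
    (hx : x ∈ Submodule.span (Γt o.left) (Set.range fun i => sectAt F s i o)) :
    (x : F.val.obj (op o)) ∈ spanAt s o := by
  induction hx using Submodule.span_induction with
  | mem z hz => obtain ⟨i, rfl⟩ := hz; exact Submodule.subset_span ⟨i, rfl⟩
  | zero => exact Submodule.zero_mem _
  | add a b _ _ ha hb => exact Submodule.add_mem _ ha hb
  | smul r a _ ha => exact Submodule.smul_mem (spanAt s o) (upΓ o.left r) ha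

/-- Sections spanning over affine objects generate. -/
theorem epi_of_span_affine {F : ModOver E} {I : Type (u + 1)} (s : I → F.sections)
    (h : ∀ (o : Over E), Aff o.left → ∀ x : Sect F o,
      x ∈ Submodule.span (Γt o.left) (Set.range fun i => sectAt F s i o)) :
    Epi (F.freeHomEquiv.symm s) := by
  refine epi_freeHomEquiv_symm s fun W x => ?_
  rw [GrothendieckTopology.mem_over_iff]
  refine SpPts86.mem_etTop_of_forall _ fun v => ?_
  obtain ⟨U, hU, hvU, -⟩ := exists_isAffineOpen_mem_and_subset (x := v) (U := (⊤ : W.left.obj.left.left.Opens)) trivial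
  refine ⟨openObj W.left U, openObjι W.left U, (Sieve.overEquiv_iff _ _).2 ?_, ⟨⟨v, hvU⟩, rfl⟩⟩
  exact mem_spanAt_of_mem_span s (h _ (show Aff (openObj W.left U) from hU) _)

theorem res_resM {M : ModEt X} {o' o : Over E} (g : o' ⟶ o) (x : SectM M o.left) :
    res (M.over E) g x = resM M g.left x := rfl

variable (M : ModEt X) (E)

/-- The restrictions of the sections over an object. -/
noncomputable def genS (x : SectM M E) : (M.over E).sections :=
  PresheafOfModules.sectionsMk (fun o => (resM M o.unop.hom x : M.val.obj (op o.unop.left))) fun o o' f => by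
    show resM M f.unop.left (resM M o.unop.hom x) = resM M o'.unop.hom x
    rw [← resM_comp]
    exact congrArg (fun a => resM M a x) (Over.w f.unop)

/-- The structure map to the tautological object of the slice. -/
noncomputable def toTop (o : Over E) : o ⟶ Over.mk (𝟙 E) := Over.homMk o.hom (Category.comp_id _)

/-- The relations among the sections over an object. -/
noncomputable abbrev Rel : Submodule (Γt E) (SectM M E →₀ Γt E) := LinearMap.ker (Finsupp.linearCombination (Γt E) _root_.id)

/-- Relations as sections of the free module. -/
noncomputable def relT (c : Rel E M) : (freeOver E (SectM M E)).sections :=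
  PresheafOfModules.sectionsMk
    (fun o => (res (freeOver E (SectM M E)) (toTop E o.unop) (comb (tauS E (SectM M E)) (Over.mk (𝟙 E)) c.1) :
      (freeOver E (SectM M E)).val.obj (op o.unop)))
    fun o o' f => by
      show res _ f.unop _ = _
      rw [← res_comp]
      exact res_congr _ (Over.w f.unop) _

/-- The map from the free module on the sections. -/
noncomputable abbrev genπ : freeOver E (SectM M E) ⟶ M.over E := (M.over E).freeHomEquiv.symm (genS E M)

theorem genπ_comb (o : Over E) (c : SectM M E →₀ Γt o.left) :
    appS (genπ E M) o (comb (tauS E (SectM M E)) o c) = comb (genS E M) o c := by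
  rw [appS_comb]
  refine congrArg (fun t => comb t o c) (funext fun i => ?_)
  exact SheafOfModules.sectionsMap_freeHomEquiv_symm_freeSection (genS E M) i

theorem genπ_relT (c : Rel E M) (o : Over E) : appS (genπ E M) o (sectAt _ (relT E M) c o) = 0 := by
  show appS (genπ E M) o (res _ (toTop E o) (comb (tauS E (SectM M E)) (Over.mk (𝟙 E)) c.1)) = 0
  rw [← appS_res, genπ_comb]
  let L : (SectM M E →₀ Γt E) →ₗ[Γt E] SectM M E := Finsupp.linearCombination (Γt E) _root_.id
  have hL : ∀ n a, L (Finsupp.single n a) = a • n := fun n a => Finsupp.linearCombination_single (Γt E) a n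
  have key : ∀ d : SectM M E →₀ Γt E, comb (o := Over.mk (𝟙 E)) (genS E M) d = (L d : SectM M E) := fun d => by
    induction d using Finsupp.induction_linear with
    | zero => exact (map_zero _).trans (map_zero L).symm
    | add a b ha hb => exact (map_add _ a b).trans ((congrArg₂ (· + ·) ha hb).trans (map_add L a b).symm)
    | single n a =>
      refine (Finsupp.linearCombination_single _ _ _).trans (Eq.trans ?_ (hL n a).symm)
      have h : resM M (𝟙 E) n = n := res_id (M.over E) (Over.mk (𝟙 E)) n
      show a • resM M (𝟙 E) n = a • n
      rw [h]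
  have hk : L c.1 = 0 := LinearMap.mem_ker.1 c.2
  have h0 : comb (o := Over.mk (𝟙 E)) (genS E M) c.1 = 0 := (key c.1).trans hk
  rw [h0, map_zero]

theorem relT_comp :
    (freeOver E (SectM M E)).freeHomEquiv.symm (relT E M) ≫ genπ E M = 0 := by
  apply (M.over E).freeHomEquiv.injective
  funext c
  rw [SheafOfModules.freeHomEquiv_comp_apply, Equiv.apply_symm_apply]
  apply PresheafOfModules.sections_ext
  intro o
  exact genπ_relT E M c o.unop

/-- Lifts of the relations to the kernel. -/
noncomputable def relK : Rel E M → (kernel (genπ E M)).sections :=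
  (kernel (genπ E M)).freeHomEquiv
    (kernel.lift (genπ E M) ((freeOver E (SectM M E)).freeHomEquiv.symm (relT E M)) (relT_comp E M))

theorem ι_relK (c : Rel E M) : SheafOfModules.sectionsMap (kernel.ι (genπ E M)) (relK E M c) = relT E M c := by
  rw [relK, ← SheafOfModules.freeHomEquiv_comp_apply, kernel.lift_ι, Equiv.apply_symm_apply]

variable [Aff E]

/-- A module whose sections are base change from `E` is presented over `E`. -/
theorem nonempty_presentation (hgood : GoodM M E) : Nonempty (M.over E).Presentation := by
  classical
  let s := genS E M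
  have hgen : Epi ((M.over E).freeHomEquiv.symm s) := epi_of_span_affine s fun o ho x => by
    letI := (cmap o.hom).toAlgebra
    obtain ⟨z, rfl⟩ := (hgood o.left o.hom ho).2 x
    induction z using TensorProduct.induction_on with
    | zero => rw [map_zero]; exact Submodule.zero_mem _
    | tmul b n => exact Submodule.smul_mem _ b (Submodule.subset_span ⟨n, rfl⟩)
    | add a b ha hb => rw [map_add]; exact Submodule.add_mem _ ha hb
  haveI := hgen
  let gens : SheafOfModules.GeneratingSections (M.over E) :=
    { I := SectM M E, s := s, epi := hgen }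
  have hrel : Epi ((kernel (genπ E M)).freeHomEquiv.symm (relK E M)) := by
    refine epi_of_span_affine (relK E M) fun o ho y => ?_
    haveI := ho
    obtain ⟨c, hc⟩ := comb_tau_surjective (I := SectM M E) o (appS (kernel.ι (genπ E M)) o y)
    have hc0 : comb (genS E M) o c = 0 := by
      rw [← genπ_comb, hc]
      exact congrArg (fun φ : kernel (genπ E M) ⟶ M.over E => appS φ o y) (kernel.condition (genπ E M))
    letI := (cmap o.hom).toAlgebra
    let B := Γt o.left
    let f₁ : Rel E M →ₗ[Γt E] (SectM M E →₀ Γt E) := (Rel E M).subtype
    let f₂ : (SectM M E →₀ Γt E) →ₗ[Γt E] SectM M E := Finsupp.linearCombination (Γt E) _root_.id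
    have hex : Function.Exact f₁ f₂ := fun z => ⟨fun hz => ⟨⟨z, hz⟩, rfl⟩, by rintro ⟨z, rfl⟩; exact z.2⟩
    have hsurj : Function.Surjective f₂ := fun n => ⟨Finsupp.single n 1, by simp [f₂]⟩
    let e := TensorProduct.finsuppScalarRight (Γt E) (Γt E) B (SectM M E)
    have hbc : ∀ w, bcM M o.hom (f₂.lTensor B w) = comb (genS E M) o (e w) := fun w => by
      induction w using TensorProduct.induction_on with
      | zero =>
        rw [map_zero, map_zero]
        exact (map_zero (bcM M o.hom)).trans (map_zero (comb (genS E M) o)).symm
      | tmul b p =>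
        induction p using Finsupp.induction_linear with
        | zero =>
          rw [TensorProduct.tmul_zero, map_zero, map_zero]
          exact (map_zero (bcM M o.hom)).trans (map_zero (comb (genS E M) o)).symm
        | add p q hp hq =>
          rw [TensorProduct.tmul_add]
          exact ((congrArg (bcM M o.hom) (map_add (f₂.lTensor B) _ _)).trans (map_add (bcM M o.hom) _ _)).trans
            ((congrArg₂ (· + ·) hp hq).trans ((congrArg (comb (genS E M) o) (map_add e _ _)).trans (map_add (comb (genS E M) o) _ _)).symm)
        | single n a =>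
          rw [LinearMap.lTensor_tmul, TensorProduct.finsuppScalarRight_apply_tmul,
            Finsupp.sum_single_index (by simp)]
          refine Eq.trans ?_ (Finsupp.linearCombination_single _ _ _).symm
          show b • resM M o.hom (f₂ (Finsupp.single n a)) = (cmap o.hom a * b) • resM M o.hom n
          rw [show f₂ (Finsupp.single n a) = a • n from Finsupp.linearCombination_single _ _ _, resM_smul, mul_comm]
          exact (mul_smul _ _ _).symm
      | add p q hp hq =>
        exact ((congrArg (bcM M o.hom) (map_add (f₂.lTensor B) _ _)).trans (map_add (bcM M o.hom) _ _)).trans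
          ((congrArg₂ (· + ·) hp hq).trans ((congrArg (comb (genS E M) o) (map_add e _ _)).trans (map_add (comb (genS E M) o) _ _)).symm)
    have hker : f₂.lTensor B (e.symm c) = 0 := (hgood o.left o.hom ho).1 (by
      rw [hbc, LinearEquiv.apply_symm_apply, hc0, map_zero])
    obtain ⟨w, hw⟩ := (lTensor_exact (M := ↥(Rel E M)) (N := SectM M E →₀ Γt E) (P := SectM M E) B hex hsurj _).1 hker
    have hcw : c = e (f₁.lTensor B w) := by rw [hw, LinearEquiv.apply_symm_apply]
    have hinj : Function.Injective (appS (kernel.ι (genπ E M)) o) := by
      haveI : Mono (kernel.ι (genπ E M)).val :=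
        (SheafOfModules.forget _).map_mono (kernel.ι (genπ E M))
      exact PresheafOfModules.injective_of_mono (kernel.ι (genπ E M)).val (op o)
    have key : ∀ w, ∃ y' ∈ Submodule.span (Γt o.left) (Set.range fun i => sectAt _ (relK E M) i o),
        appS (kernel.ι (genπ E M)) o y' = comb (tauS E (SectM M E)) o (e (f₁.lTensor B w)) := fun w => by
      induction w using TensorProduct.induction_on with
      | zero => exact ⟨0, Submodule.zero_mem _, by rw [map_zero, map_zero, map_zero, map_zero]⟩
      | add p q hp hq =>
        obtain ⟨p', hp1, hp2⟩ := hp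
        obtain ⟨q', hq1, hq2⟩ := hq
        exact ⟨p' + q', Submodule.add_mem _ hp1 hq1, by rw [map_add, map_add, map_add, map_add, hp2, hq2]⟩
      | tmul b k =>
        refine ⟨b • sectAt _ (relK E M) k o, Submodule.smul_mem _ _ (Submodule.subset_span ⟨k, rfl⟩), ?_⟩
        rw [LinearMap.map_smul]
        have h1 : appS (kernel.ι (genπ E M)) o (sectAt _ (relK E M) k o) =
            res _ (toTop E o) (comb (tauS E (SectM M E)) (Over.mk (𝟙 E)) k.1) :=
          congrArg (fun t : (freeOver E (SectM M E)).sections => t.val (op o)) (ι_relK E M k)
        have h2 : e (f₁.lTensor B (b ⊗ₜ[Γt E] k)) = b • resC (toTop E o) k.1 := by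
          refine Finsupp.ext fun n => ?_
          rw [LinearMap.lTensor_tmul, TensorProduct.finsuppScalarRight_apply_tmul_apply]
          show cmap o.hom (k.1 n) * b = b * cmap o.hom (k.1 n)
          exact mul_comm _ _
        rw [h1, h2, res_comb, LinearMap.map_smul]
    obtain ⟨y', hy', hy''⟩ := key w
    have : y = y' := hinj ((hc.symm.trans (congrArg (comb (tauS E (SectM M E)) o) hcw)).trans hy''.symm)
    rw [this]
    exact hy'
  exact ⟨{ generators := gens, relations := { I := Rel E M, s := relK E M, epi := hrel } }⟩

variable {E}

omit [Aff E] in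
/-- A module whose sections over affine objects are base change is quasi-coherent. -/
theorem isQuasicoherent_of_good (hgood : ∀ E : EtOver X, Aff E → GoodM M E) : M.IsQuasicoherent := by
  let I := {W : EtOver X // Aff W}
  have hcov : (etTop X).CoversTop (fun W : I => W.1) := fun W => by
    refine SpPts86.mem_etTop_of_forall _ fun v => ?_
    obtain ⟨U, hU, hvU, -⟩ := exists_isAffineOpen_mem_and_subset (x := v) (U := (⊤ : W.obj.left.left.Opens)) trivial
    exact ⟨openObj W U, openObjι W U, ⟨⟨openObj W U, hU⟩, ⟨𝟙 _⟩⟩, ⟨⟨v, hvU⟩, rfl⟩⟩
  exact (SheafOfModules.QuasicoherentData.isQuasicoherent (M := M)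
    { I := I, X := fun W => W.1, coversTop := hcov,
      presentation := fun W => haveI := W.2; (nonempty_presentation W.1 M (hgood W.1 W.2)).some })

/-- Quasi-coherence is the base change property over affine objects. -/
theorem isQuasicoherent_iff_good : M.IsQuasicoherent ↔ ∀ E : EtOver X, Aff E → GoodM M E :=
  ⟨fun h E hE => goodM_of_isQuasicoherent M E, isQuasicoherent_of_good M⟩

end Groth.Agent.SpQC86
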