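import Groth.Agent.SpQC86.KilledEssImage
import Groth.Agent.SpQC86.Largest
import Groth.Agent.SpQC86.Ses

/-!
The largest quasi-coherent submodule killed by the ideal of a closed subspace.
-/

set_option autoImplicit false
set_option linter.style.haveILetI false
set_option backward.isDefEq.respectTransparency false

universe u

open CategoryTheory CategoryTheory.Limits AlgebraicGeometry Opposite
open AlgSp Groth.Agent.SpQC61

namespace Groth.Agent.SpQC86

variable {S : Scheme.{u}} {Z X : Sp S} {i : Z ⟶ X} (hf : Representable i) (F : ModEt X)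

/-- Families of killed submodules of sections over affine objects defining quasi-coherent submodules. -/
structure KFam where
  /-- the submodules -/
  Q : ∀ E : EtOver X, Aff E → Submodule (Γt E) (SectM F E)
  res : ∀ {E' E : EtOver X} (g : E' ⟶ E) (hE : Aff E) (hE' : Aff E'), ∀ x ∈ Q E hE, resM F g x ∈ Q E' hE'
  span : ∀ {E' E : EtOver X} (g : E' ⟶ E) (hE : Aff E) (hE' : Aff E'),
    Q E' hE' ≤ Submodule.span (Γt E') (resM F g '' Q E hE)
  killed : ∀ (E : EtOver X) (hE : Aff E), ∀ x ∈ Q E hE, ∀ a : Γt E, bcΓ hf E a = 0 → a • x = 0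

/-- The largest such family. -/
noncomputable def topK (E : EtOver X) (hE : Aff E) : Submodule (Γt E) (SectM F E) := ⨆ P : KFam hf F, P.Q E hE

theorem topK_res {E' E : EtOver X} (g : E' ⟶ E) (hE : Aff E) (hE' : Aff E') :
    ∀ x ∈ topK hf F E hE, resM F g x ∈ topK hf F E' hE' := fun x hx => by
  refine Submodule.iSup_induction _ (motive := fun x => resM F g x ∈ topK hf F E' hE') hx
    (fun P y hy => Submodule.mem_iSup_of_mem P (P.res g hE hE' y hy)) ?_ fun a b ha hb => ?_
  · show resM F g 0 ∈ _
    rw [map_zero]; exact Submodule.zero_mem _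
  · show resM F g (a + b) ∈ _
    rw [map_add]; exact Submodule.add_mem _ ha hb

theorem topK_span {E' E : EtOver X} (g : E' ⟶ E) (hE : Aff E) (hE' : Aff E') :
    topK hf F E' hE' ≤ Submodule.span (Γt E') (resM F g '' topK hf F E hE) :=
  iSup_le fun P => (P.span g hE hE').trans
    (Submodule.span_mono (Set.image_mono (le_iSup (fun P : KFam hf F => P.Q E hE) P)))

theorem topK_killed (E : EtOver X) (hE : Aff E) (a : Γt E) (ha : bcΓ hf E a = 0) :
    ∀ x ∈ topK hf F E hE, a • x = 0 := fun x hx =>
  Submodule.iSup_induction _ (motive := fun x => a • x = 0) hx (fun P y hy => P.killed E hE y hy a ha)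
    (smul_zero a) fun p q hp hq => by rw [smul_add, hp, hq, add_zero]

/-- There is a largest quasi-coherent submodule killed by the ideal. -/
theorem exists_largest_killed [F.IsQuasicoherent] :
    ∃ (F' : ModEt X) (κ : F' ⟶ F), Mono κ ∧ F'.IsQuasicoherent ∧ KilledBy hf F' ∧
      ∀ H : ModEt X, H.IsQuasicoherent → KilledBy hf H → ∀ φ : H ⟶ F, ∃ l : H ⟶ F', l ≫ κ = φ := by
  let j := subι F (topK hf F) (topK_span hf F)
  have hr := range_subι F (topK hf F) (topK_res hf F) (topK_span hf F)
  refine ⟨_, j, inferInstance, isQuasicoherent_subM F (topK hf F) (topK_res hf F) (topK_span hf F),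
    fun E hE a ha s => appM_injective j E ?_, fun H hH hk φ => ?_⟩
  · rw [LinearMap.map_smul, map_zero]
    exact topK_killed hf F E hE a ha _ ((hr E hE).le (LinearMap.mem_range_self (appM j E) s))
  haveI := hH
  let P : KFam hf F :=
    { Q := fun E _ => LinearMap.range (appM φ E)
      res := fun g _ _ x hx => by
        obtain ⟨y, rfl⟩ := hx
        exact ⟨resM H g y, appM_res _ g y⟩
      span := fun g hE hE' => haveI := hE; haveI := hE'; range_spanning φ g
      killed := fun E hE x hx a ha => by
        obtain ⟨y, rfl⟩ := hx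
        rw [← LinearMap.map_smul, hk E hE a ha y, map_zero] }
  exact exists_fac j φ fun E hE x =>
    (hr E hE).ge (Submodule.mem_iSup_of_mem P (LinearMap.mem_range_self (appM φ E) x))

theorem killedBy_push (G : ModEt Z) : KilledBy hf ((pushModEt hf).obj G) := fun E _ a ha s => by
  have h0 : (bcRingHom hf).hom.app (op E) (upΓ E a) = 0 := ULift.ext _ _ ha
  exact (congrArg (fun r => HSMul.hSMul (α := (OEtRing Z).obj.obj (op ((EtOver.bc hf).obj E)))
    (β := G.val.obj (op ((EtOver.bc hf).obj E))) r s) h0).trans (zero_smul _ _)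

variable {hf}

/-- The direct image along a closed immersion has a right adjoint on quasi-coherent modules. -/
theorem isLeftAdjoint_pushQC (hi : RepWith @IsClosedImmersion i) (hX : IsAlgSpace X)
    (hq : ∀ G : ModEt Z, G.IsQuasicoherent → ((pushModEt hi.1).obj G).IsQuasicoherent) :
    ((SheafOfModules.isQuasicoherent (OEtRing X)).lift
      ((SheafOfModules.isQuasicoherent (OEtRing Z)).ι ⋙ pushModEt hi.1) (fun G => hq G.obj G.property)).IsLeftAdjoint := by
  let L := (SheafOfModules.isQuasicoherent (OEtRing X)).lift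
    ((SheafOfModules.isQuasicoherent (OEtRing Z)).ι ⋙ pushModEt hi.1) (fun G => hq G.obj G.property)
  obtain ⟨hfull, hfaith⟩ := SpPts86.pushModEt_full_faithful hi hX
  haveI := hfull
  haveI := hfaith
  choose F' κ hκ hqc hkill hfac using fun F : (SheafOfModules.isQuasicoherent (OEtRing X)).FullSubcategory =>
    haveI : F.obj.IsQuasicoherent := F.property
    exists_largest_killed hi.1 F.obj
  let G : (SheafOfModules.isQuasicoherent (OEtRing X)).FullSubcategory →
      (SheafOfModules.isQuasicoherent (OEtRing Z)).FullSubcategory := fun F =>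
    ⟨gMod hi hX (hkill F), haveI := hqc F; isQuasicoherent_gMod hi hX (hkill F)⟩
  let ε : ∀ F, (pushModEt hi.1).obj (G F).obj ⟶ F.obj := fun F => (pushGModIso hi hX (hkill F)).hom ≫ κ F
  have hε : ∀ H F, Function.Bijective (fun f : H ⟶ G F => (pushModEt hi.1).map f.hom ≫ ε F) := fun H F => by
    haveI := hκ F
    refine ⟨fun a b e => ObjectProperty.hom_ext _ ((pushModEt hi.1).map_injective ((cancel_mono (ε F)).1 e)), fun φ => ?_⟩
    obtain ⟨l, hl⟩ := hfac F _ (hq H.obj H.property) (killedBy_push hi.1 H.obj) φ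
    obtain ⟨f, hf⟩ := (pushModEt hi.1).map_surjective (l ≫ (pushGModIso hi hX (hkill F)).inv)
    refine ⟨ObjectProperty.homMk f, ?_⟩
    show (pushModEt hi.1).map f ≫ (pushGModIso hi hX (hkill F)).hom ≫ κ F = φ
    rw [hf, Category.assoc, Iso.inv_hom_id_assoc, hl]
  let e : ∀ H F, (L.obj H ⟶ F) ≃ (H ⟶ G F) := fun H F =>
    { toFun := fun φ => Function.surjInv (hε H F).2 φ.hom
      invFun := fun f => ObjectProperty.homMk ((pushModEt hi.1).map f.hom ≫ ε F)
      left_inv := fun φ => ObjectProperty.hom_ext _ (Function.surjInv_eq (hε H F).2 φ.hom)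
      right_inv := fun f => Function.leftInverse_surjInv (hε H F) f }
  refine (Adjunction.adjunctionOfEquivRight (F := L) e fun H' H F f g => (hε H' F).1 ?_).isLeftAdjoint
  show (pushModEt hi.1).map (Function.surjInv (hε H' F).2 (L.map f ≫ g).hom).hom ≫ ε F =
    (pushModEt hi.1).map (f ≫ Function.surjInv (hε H F).2 g.hom).hom ≫ ε F
  rw [Function.surjInv_eq (hε H' F).2, ObjectProperty.FullSubcategory.comp_hom, ObjectProperty.FullSubcategory.comp_hom,
    Functor.map_comp, Category.assoc, Function.surjInv_eq (hε H F).2]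
  rfl

end Groth.Agent.SpQC86
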