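import Groth.Agent.SpQC86.GoodP
import Mathlib.Algebra.Category.ModuleCat.Presheaf.Colimits
import Mathlib.Algebra.Category.ModuleCat.Sheaf.Colimits
import Mathlib.Algebra.Category.Grp.Colimits
import Mathlib.GroupTheory.QuotientGroup.Basic

/-!
Colimits of modules with the base change property.
-/

set_option autoImplicit false
set_option linter.style.haveILetI false
set_option backward.isDefEq.respectTransparency false

universe u w w'

open CategoryTheory CategoryTheory.Limits AlgebraicGeometry Opposite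
open AlgSp Groth.Agent.SpQC61

namespace Groth.Agent.SpQC86

theorem closure_range_ι_eq_top {J : Type w} [Category.{w'} J] {F : J ⥤ AddCommGrpCat.{u}} {c : Cocone F}
    (hc : IsColimit c) : AddSubgroup.closure (G := c.pt) (⋃ j, Set.range fun x : F.obj j => (c.ι.app j).hom x) = ⊤ := by
  set H := AddSubgroup.closure (G := c.pt) (⋃ j, Set.range fun x : F.obj j => (c.ι.app j).hom x)
  have h0 : AddCommGrpCat.ofHom (QuotientAddGroup.mk' H) = 0 := hc.hom_ext fun j => by
    ext x
    exact (QuotientAddGroup.eq_zero_iff _).2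
      (AddSubgroup.subset_closure (Set.mem_iUnion.2 ⟨j, x, rfl⟩))
  refine (AddSubgroup.eq_top_iff' H).2 fun x => ?_
  exact (QuotientAddGroup.eq_zero_iff _).1 (congrArg (fun (f : c.pt ⟶ AddCommGrpCat.of (c.pt ⧸ H)) => f.hom x) h0)

variable {S : Scheme.{u}} {X : Sp S}

/-- A map of presheaves of modules on sections. -/
noncomputable def appL {P Q : PModEt X} (ψ : P ⟶ Q) (E : EtOver X) : SectP P E →ₗ[Γt E] SectP Q E where
  toFun x := (ψ.app (op E)).hom x
  map_add' x y := map_add (ψ.app (op E)).hom x y
  map_smul' a x := (ψ.app (op E)).hom.map_smul (upΓ E a) x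

theorem appL_res {P Q : PModEt X} (ψ : P ⟶ Q) {E' E : EtOver X} (g : E' ⟶ E) (x : SectP P E) :
    appL ψ E' (resP P g x) = resP Q g (appL ψ E x) :=
  PresheafOfModules.naturality_apply ψ g.op x

/-- The map on base changed sections. -/
noncomputable def tenL {P Q : PModEt X} (ψ : P ⟶ Q) {E' E : EtOver X} (g : E' ⟶ E) :
    (letI := (cmap g).toAlgebra; TensorProduct (Γt E) (Γt E') (SectP P E)) →+
      (letI := (cmap g).toAlgebra; TensorProduct (Γt E) (Γt E') (SectP Q E)) :=
  letI := (cmap g).toAlgebra
  ((appL ψ E).lTensor (Γt E')).toAddMonoidHom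

theorem bcP_tenL {P Q : PModEt X} (ψ : P ⟶ Q) {E' E : EtOver X} (g : E' ⟶ E) :
    letI := (cmap g).toAlgebra
    ∀ z, bcP Q g (tenL ψ g z) = appL ψ E' (bcP P g z) := by
  letI := (cmap g).toAlgebra
  intro z
  induction z using TensorProduct.induction_on with
  | zero =>
    exact ((congrArg _ (map_zero (tenL ψ g))).trans (map_zero (bcP Q g))).trans
      ((congrArg _ (map_zero (bcP P g))).trans (map_zero _)).symm
  | tmul b n =>
    show b • resP Q g (appL ψ E n) = appL ψ E' (b • resP P g n)
    rw [LinearMap.map_smul, appL_res]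
  | add p q hp hq =>
    exact ((congrArg _ (map_add (tenL ψ g) p q)).trans
      ((map_add (bcP Q g) _ _).trans (congrArg₂ (· + ·) hp hq))).trans
      ((congrArg _ (map_add (bcP P g) p q)).trans (map_add (appL ψ E') _ _)).symm

theorem tenL_comp {P Q R : PModEt X} (ψ : P ⟶ Q) (χ : Q ⟶ R) {E' E : EtOver X} (g : E' ⟶ E) :
    letI := (cmap g).toAlgebra
    ∀ z, tenL χ g (tenL ψ g z) = tenL (ψ ≫ χ) g z := by
  letI := (cmap g).toAlgebra
  intro z
  induction z using TensorProduct.induction_on with
  | zero =>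
    exact ((congrArg _ (map_zero (tenL ψ g))).trans (map_zero (tenL χ g))).trans (map_zero (tenL (ψ ≫ χ) g)).symm
  | tmul b n => rfl
  | add p q hp hq =>
    exact ((congrArg _ (map_add (tenL ψ g) p q)).trans
      ((map_add (tenL χ g) _ _).trans (congrArg₂ (· + ·) hp hq))).trans (map_add (tenL (ψ ≫ χ) g) p q).symm

variable (X) in
/-- Sections over an object as abelian groups. -/
noncomputable abbrev evAb (E : EtOver X) : PModEt X ⥤ AddCommGrpCat.{u + 1} :=
  PresheafOfModules.toPresheaf _ ⋙ (CategoryTheory.evaluation _ _).obj (op E)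

variable {J : Type w} [Category.{w'} J] {F : J ⥤ PModEt X} (c : Cocone F)
  (hc : ∀ E, IsColimit ((evAb X E).mapCocone c))
include hc

theorem mem_closure_ι {E : EtOver X} (y : SectP c.pt E) :
    y ∈ AddSubgroup.closure (⋃ j, Set.range (appL (c.ι.app j) E)) := by
  have h := closure_range_ι_eq_top (hc E)
  exact (AddSubgroup.eq_top_iff' _).1 h y

/-- Colimits preserve the base change property. -/
theorem goodP_of_isColimit (hF : ∀ j (E : EtOver X), Aff E → GoodP (F.obj j) E) (E : EtOver X) (hE : Aff E) :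
    GoodP c.pt E := fun E' g ha => by
  letI := (cmap g).toAlgebra
  refine ⟨?_, fun y => ?_⟩
  · let e := fun j => AddEquiv.ofBijective (bcP (F.obj j) g) (hF j E hE E' g ha)
    let comp : ∀ j, SectP (F.obj j) E' →+ TensorProduct (Γt E) (Γt E') (SectP c.pt E) := fun j =>
      (tenL (c.ι.app j) g).comp (e j).symm.toAddMonoidHom
    have hnat : ∀ {i j : J} (f : i ⟶ j) (y : SectP (F.obj i) E'),
        comp j (appL (F.map f) E' y) = comp i y := fun {i j} f y => by
      obtain ⟨z, rfl⟩ := (e i).surjective y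
      show tenL (c.ι.app j) g ((e j).symm (appL (F.map f) E' (bcP (F.obj i) g z))) =
        tenL (c.ι.app i) g ((e i).symm (e i z))
      rw [← bcP_tenL, AddEquiv.symm_apply_apply]
      exact (congrArg _ ((e j).symm_apply_apply (tenL (F.map f) g z))).trans
        ((tenL_comp (F.map f) (c.ι.app j) g z).trans
          (congrArg (fun ψ : F.obj i ⟶ c.pt => tenL ψ g z) (c.w f)))
    let k : Cocone (F ⋙ evAb X E') :=
      { pt := AddCommGrpCat.of (TensorProduct (Γt E) (Γt E') (SectP c.pt E))
        ι :=
          { app := fun j => AddCommGrpCat.ofHom (comp j)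
            naturality := fun i j f => by
              refine AddCommGrpCat.hom_ext (AddMonoidHom.ext fun y => ?_)
              exact hnat f y } }
    let L : SectP c.pt E' →+ TensorProduct (Γt E) (Γt E') (SectP c.pt E) := ((hc E').desc k).hom
    have hLι : ∀ j y, L (appL (c.ι.app j) E' y) = comp j y := fun j y =>
      ConcreteCategory.congr_hom ((hc E').fac k j) y
    refine Function.LeftInverse.injective (g := L) fun z => ?_
    induction z using TensorProduct.induction_on with
    | zero => exact (congrArg L (map_zero (bcP c.pt g))).trans (map_zero L)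
    | tmul b n =>
      refine AddSubgroup.closure_induction (p := fun n _ => L (bcP c.pt g (b ⊗ₜ[Γt E] n)) = b ⊗ₜ[Γt E] n)
        ?_ ?_ ?_ ?_ (mem_closure_ι c hc n)
      · intro n hn
        obtain ⟨j, m, rfl⟩ := Set.mem_iUnion.1 hn
        refine (congrArg L (bcP_tenL (c.ι.app j) g (b ⊗ₜ[Γt E] m))).trans ((hLι j _).trans ?_)
        show tenL (c.ι.app j) g ((e j).symm (e j (b ⊗ₜ[Γt E] m))) = _
        rw [AddEquiv.symm_apply_apply]
        rfl
      · rw [TensorProduct.tmul_zero]
        exact (congrArg L (map_zero (bcP c.pt g))).trans (map_zero L)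
      · intro p q _ _ hp hq
        rw [TensorProduct.tmul_add]
        exact ((congrArg L (map_add (bcP c.pt g) _ _)).trans (map_add L _ _)).trans (congrArg₂ (· + ·) hp hq)
      · intro p _ hp
        rw [TensorProduct.tmul_neg]
        exact ((congrArg L (map_neg (bcP c.pt g) _)).trans (map_neg L _)).trans (congrArg Neg.neg hp)
    | add p q hp hq =>
      exact ((congrArg L (map_add (bcP c.pt g) p q)).trans (map_add L _ _)).trans (congrArg₂ (· + ·) hp hq)
  · refine AddSubgroup.closure_induction (p := fun y _ => ∃ z, bcP c.pt g z = y) ?_ ?_ ?_ ?_ (mem_closure_ι c hc y)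
    · intro y hy
      obtain ⟨j, m, rfl⟩ := Set.mem_iUnion.1 hy
      obtain ⟨z, rfl⟩ := (hF j E hE E' g ha).2 m
      exact ⟨_, bcP_tenL (c.ι.app j) g z⟩
    · exact ⟨0, map_zero _⟩
    · rintro p q _ _ ⟨z₁, rfl⟩ ⟨z₂, rfl⟩
      exact ⟨z₁ + z₂, map_add _ _ _⟩
    · rintro p _ ⟨z, rfl⟩
      exact ⟨-z, map_neg _ _⟩

end Groth.Agent.SpQC86
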