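import Groth.Agent.SpQC86.SubQC
import Groth.Agent.SpQC61.FiniteSect

/-!
Descent of submodules of sections along affine etale covers.
-/

set_option autoImplicit false
set_option linter.style.haveILetI false
set_option backward.isDefEq.respectTransparency false

universe u

open CategoryTheory CategoryTheory.Limits AlgebraicGeometry Opposite
open AlgSp Groth.Agent.SpQC61
open scoped TensorProduct

namespace Groth.Agent.SpQC86

variable {S : Scheme.{u}} {X : Sp S} {M : ModEt X}

variable (M) in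
/-- The span over an object of the restrictions of a set of sections. -/
noncomputable def spanRes {E' E : EtOver X} (g : E' ⟶ E) (T : Set (SectM M E)) : Submodule (Γt E') (SectM M E') :=
  Submodule.span (Γt E') (resM M g '' T)

theorem resM_mem_spanRes {E' E : EtOver X} (g : E' ⟶ E) {T : Set (SectM M E)} {x : SectM M E} (hx : x ∈ T) :
    resM M g x ∈ spanRes M g T :=
  Submodule.subset_span ⟨x, hx, rfl⟩

theorem resM_mem_spanRes_of_mem_span {E' E : EtOver X} (g : E' ⟶ E) {T : Set (SectM M E)} {x : SectM M E}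
    (hx : x ∈ Submodule.span (Γt E) T) : resM M g x ∈ spanRes M g T := by
  induction hx using Submodule.span_induction with
  | mem z hz => exact resM_mem_spanRes g hz
  | zero => rw [map_zero]; exact Submodule.zero_mem _
  | add a b _ _ ha hb => rw [map_add]; exact Submodule.add_mem _ ha hb
  | smul r a _ ha => rw [resM_smul]; exact Submodule.smul_mem _ _ ha

theorem spanRes_span {E' E : EtOver X} (g : E' ⟶ E) (T : Set (SectM M E)) :
    spanRes M g (Submodule.span (Γt E) T : Set (SectM M E)) = spanRes M g T :=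
  le_antisymm (Submodule.span_le.2 (by
    rintro _ ⟨x, hx, rfl⟩
    exact resM_mem_spanRes_of_mem_span g hx)) (Submodule.span_mono (Set.image_mono Submodule.subset_span))

theorem spanRes_mono {E' E : EtOver X} (g : E' ⟶ E) {T T' : Set (SectM M E)} (h : T ⊆ T') :
    spanRes M g T ≤ spanRes M g T' :=
  Submodule.span_mono (Set.image_mono h)

theorem spanRes_comp {E'' E' E : EtOver X} (h : E'' ⟶ E') (g : E' ⟶ E) (T : Set (SectM M E)) :
    spanRes M h (spanRes M g T : Set (SectM M E')) = spanRes M (h ≫ g) T := by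
  show spanRes M h (Submodule.span (Γt E') (resM M g '' T) : Set (SectM M E')) = _
  rw [spanRes_span]
  refine congrArg (Submodule.span (Γt E'')) ?_
  rw [Set.image_image]
  exact Set.image_congr fun x _ => (resM_comp M h g x).symm

theorem spanRes_id {E : EtOver X} (T : Set (SectM M E)) : spanRes M (𝟙 E) T = Submodule.span (Γt E) T := by
  rw [spanRes, Set.image_congr (fun x _ => resM_id x), Set.image_id']

theorem spanRes_fg {E' E : EtOver X} (g : E' ⟶ E) {P : Submodule (Γt E) (SectM M E)} (hP : P.FG) :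
    (spanRes M g (P : Set (SectM M E))).FG := by
  obtain ⟨s, hs, rfl⟩ := Submodule.fg_def.1 hP
  rw [spanRes_span]
  exact Submodule.fg_def.2 ⟨_, hs.image _, rfl⟩

variable [M.IsQuasicoherent]

/-- Membership is local on affine etale covers. -/
theorem mem_of_forall_resM_mem {E : EtOver X} [Aff E] {n : ℕ} {V : Fin n → EtOver X} (v : ∀ k, V k ⟶ E)
    (hV : ∀ k, Aff (V k)) (hsurj : ∀ x : ↥E.obj.left.left, ∃ k, x ∈ Set.range (v k).hom.left.left)
    (P : Submodule (Γt E) (SectM M E)) {x : SectM M E}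
    (h : ∀ k, resM M (v k) x ∈ spanRes M (v k) (P : Set (SectM M E))) : x ∈ P :=
  Submodule.span_eq P ▸ mem_span_of_cover v hV hsurj (P : Set (SectM M E)) x h

theorem exists_tmul_of_mem_spanRes_snd {E E₁ E₂ : EtOver X} (g₁ : E₁ ⟶ E) (g₂ : E₂ ⟶ E) [Aff E] [Aff E₁] [Aff E₂]
    (N : Submodule (Γt E₂) (SectM M E₂)) {y : SectM M (EtOver.pullbackObj g₁ g₂)}
    (hy : y ∈ spanRes M (EtOver.pullbackSnd g₁ g₂) (N : Set (SectM M E₂))) :
    letI := (cmap g₁).toAlgebra
    letI := Module.compHom (SectM M E₂) (cmap g₂)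
    ∀ (N' : Submodule (Γt E) (SectM M E₂)) (_ : ∀ x, x ∈ N' ↔ x ∈ N),
      ∃ w : Γt E₁ ⊗[Γt E] N', phiM M g₁ g₂ (N'.subtype.lTensor (Γt E₁) w) = y := by
  letI := (cmap g₁).toAlgebra
  letI := Module.compHom (SectM M E₂) (cmap g₂)
  intro N' hN'
  let P := EtOver.pullbackObj g₁ g₂
  haveI : Aff P := aff_pullback g₁ g₂
  letI : Algebra (Γt E) (Γt E₂) := (cmap g₂).toAlgebra
  letI : Algebra (Γt E) (Γt P) := (cmap (EtOver.pullbackFst g₁ g₂ ≫ g₁)).toAlgebra
  letI : Algebra (Γt E₁) (Γt P) := (cmap (EtOver.pullbackFst g₁ g₂)).toAlgebra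
  letI : Algebra (Γt E₂) (Γt P) := (cmap (EtOver.pullbackSnd g₁ g₂)).toAlgebra
  haveI : IsScalarTower (Γt E) (Γt E₁) (Γt P) :=
    IsScalarTower.of_algebraMap_eq' (cmap_comp (EtOver.pullbackFst g₁ g₂) g₁)
  haveI : IsScalarTower (Γt E) (Γt E₂) (Γt P) := IsScalarTower.of_algebraMap_eq' (by
    show cmap (EtOver.pullbackFst g₁ g₂ ≫ g₁) = (cmap (EtOver.pullbackSnd g₁ g₂)).comp (cmap g₂)
    rw [EtOver.pullback_condition, cmap_comp])
  haveI : Algebra.IsPushout (Γt E) (Γt E₁) (Γt E₂) (Γt P) :=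
    CommRingCat.isPushout_iff_isPushout.1 (isPushout_cmap g₁ g₂)
  let T : Γt E₁ ⊗[Γt E] N' →+ SectM M P := (phiM M g₁ g₂).comp (N'.subtype.lTensor (Γt E₁)).toAddMonoidHom
  have hmul : ∀ (r : Γt P) (n : SectM M E₂), n ∈ N → ∃ w, T w = r • resM M (EtOver.pullbackSnd g₁ g₂) n := by
    intro r
    obtain ⟨t, rfl⟩ := (Algebra.IsPushout.equiv (Γt E) (Γt E₁) (Γt E₂) (Γt P)).surjective r
    induction t using TensorProduct.induction_on with
    | zero => exact fun n _ => ⟨0, (map_zero T).trans (by rw [map_zero, zero_smul])⟩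
    | tmul b c =>
      intro n hn
      refine ⟨b ⊗ₜ[Γt E] (⟨c • n, (hN' _).2 (Submodule.smul_mem _ c hn)⟩ : N'), ?_⟩
      show cmap (EtOver.pullbackFst g₁ g₂) b • resM M (EtOver.pullbackSnd g₁ g₂) (c • n) = _
      rw [Algebra.IsPushout.equiv_tmul, resM_smul, ← mul_smul]
      rfl
    | add p q hp hq =>
      intro n hn
      obtain ⟨wp, hwp⟩ := hp n hn
      obtain ⟨wq, hwq⟩ := hq n hn
      exact ⟨wp + wq, (map_add T _ _).trans (by rw [hwp, hwq, map_add, add_smul])⟩
  suffices h : ∀ z ∈ spanRes M (EtOver.pullbackSnd g₁ g₂) (N : Set (SectM M E₂)), ∀ r : Γt P, ∃ w, T w = r • z by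
    obtain ⟨w, hw⟩ := h y hy 1
    exact ⟨w, hw.trans (one_smul _ _)⟩
  intro z hz
  induction hz using Submodule.span_induction with
  | mem z hz =>
    obtain ⟨n, hn, rfl⟩ := hz
    exact fun r => hmul r n hn
  | zero => exact fun r => ⟨0, (map_zero T).trans (smul_zero r).symm⟩
  | add a b _ _ ha hb =>
    intro r
    obtain ⟨wa, hwa⟩ := ha r
    obtain ⟨wb, hwb⟩ := hb r
    exact ⟨wa + wb, (map_add T _ _).trans (by rw [hwa, hwb, smul_add])⟩
  | smul c a _ ha =>
    intro r
    obtain ⟨w, hw⟩ := ha (r * c)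
    exact ⟨w, hw.trans (mul_smul _ _ _)⟩

/-- Compatible submodules on an affine etale cover descend. -/
theorem le_spanRes_descended {E : EtOver X} [Aff E] {n : ℕ} {V : Fin n → EtOver X} (v : ∀ k, V k ⟶ E)
    (hV : ∀ k, Aff (V k)) (N : ∀ k, Submodule (Γt (V k)) (SectM M (V k)))
    (hcomp : ∀ k l, ∀ x ∈ N k, resM M (EtOver.pullbackFst (v k) (v l)) x ∈
      spanRes M (EtOver.pullbackSnd (v k) (v l)) (N l : Set (SectM M (V l)))) (k : Fin n) :
    N k ≤ spanRes M (v k) {x : SectM M E | ∀ l, resM M (v l) x ∈ N l} := by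
  haveI := hV
  classical
  letI := (cmap (v k)).toAlgebra
  haveI : Module.Flat (Γt E) (Γt (V k)) := flat_cmap (v k)
  letI : ∀ l, Module (Γt E) (SectM M (V l)) := fun l => Module.compHom _ (cmap (v l))
  let N' : ∀ l, Submodule (Γt E) (SectM M (V l)) := fun l =>
    { carrier := (N l : Set (SectM M (V l)))
      add_mem' := fun ha hb => Submodule.add_mem _ ha hb
      zero_mem' := Submodule.zero_mem _
      smul_mem' := fun a _ hx => Submodule.smul_mem _ (cmap (v l) a) hx }
  let r : ∀ l, SectM M E →ₗ[Γt E] SectM M (V l) := fun l =>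
    { toFun := resM M (v l), map_add' := map_add _, map_smul' := resM_smul M (v l) }
  let d : SectM M E →ₗ[Γt E] ∀ l, SectM M (V l) ⧸ N' l := LinearMap.pi fun l => (N' l).mkQ.comp (r l)
  intro x hx
  obtain ⟨z, rfl⟩ := (bcM_bijective M (v k)).2 x
  have hphi : ∀ l, phiM M (v k) (v l) ((r l).lTensor (Γt (V k)) z) =
      resM M (EtOver.pullbackFst (v k) (v l)) (bcM M (v k) z) := fun l => by
    clear hx
    induction z using TensorProduct.induction_on with
    | zero => rw [map_zero, map_zero]; exact ((congrArg _ (map_zero (bcM M (v k)))).trans (map_zero _)).symm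
    | tmul b m =>
      show cmap (EtOver.pullbackFst (v k) (v l)) b • resM M (EtOver.pullbackSnd (v k) (v l)) (resM M (v l) m) =
        resM M (EtOver.pullbackFst (v k) (v l)) (b • resM M (v k) m)
      rw [resM_smul, ← resM_comp, ← resM_comp, EtOver.pullback_condition]
    | add a b ha hb =>
      rw [map_add, map_add, ha, hb, ← map_add]
      exact (congrArg _ (map_add (bcM M (v k)) a b)).symm
  have hd : d.lTensor (Γt (V k)) z = 0 := by
    refine (TensorProduct.piRight (Γt E) (Γt E) (Γt (V k)) fun l => SectM M (V l) ⧸ N' l).injective (funext fun l => ?_)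
    rw [piRight_lTensor, map_zero]
    obtain ⟨w, hw⟩ := exists_tmul_of_mem_spanRes_snd (v k) (v l) (N l) (hcomp k l _ hx) (N' l) fun _ => Iff.rfl
    have h := (phiM_bijective M (v k) (v l) (goodM_of_isQuasicoherent M (V l))).1 (hw.trans (hphi l).symm)
    show ((N' l).mkQ.comp (r l)).lTensor (Γt (V k)) z = 0
    rw [LinearMap.lTensor_comp, LinearMap.comp_apply, ← h, ← LinearMap.comp_apply, ← LinearMap.lTensor_comp,
      show (N' l).mkQ ∘ₗ (N' l).subtype = 0 from LinearMap.ext fun a => (Submodule.Quotient.mk_eq_zero _).2 a.2,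
      LinearMap.lTensor_zero, LinearMap.zero_apply]
  have hex : Function.Exact (LinearMap.ker d).subtype d := LinearMap.exact_subtype_ker_map d
  obtain ⟨w, rfl⟩ := (Module.Flat.lTensor_exact (Γt (V k)) hex z).1 hd
  clear hphi hx hd
  induction w using TensorProduct.induction_on with
  | zero =>
    rw [map_zero, show bcM M (v k) 0 = 0 from map_zero (bcM M (v k))]
    exact Submodule.zero_mem _
  | tmul b m =>
    exact Submodule.smul_mem _ b (resM_mem_spanRes (v k) fun l =>
      (Submodule.Quotient.mk_eq_zero (N' l)).1 (congrFun (LinearMap.mem_ker.1 m.2) l))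
  | add p q hp hq =>
    rw [map_add, show bcM M (v k) (_ + _) = _ from map_add (bcM M (v k)) _ _]
    exact Submodule.add_mem _ hp hq

/-- A submodule generated finitely on an affine etale cover is finitely generated. -/
theorem fg_of_cover {E : EtOver X} [Aff E] {n : ℕ} {V : Fin n → EtOver X} (v : ∀ k, V k ⟶ E)
    (hV : ∀ k, Aff (V k)) (hsurj : ∀ x : ↥E.obj.left.left, ∃ k, x ∈ Set.range (v k).hom.left.left)
    (P : Submodule (Γt E) (SectM M E)) (h : ∀ k, (spanRes M (v k) (P : Set (SectM M E))).FG) : P.FG := by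
  classical
  choose s hs hsp using fun k => Submodule.fg_def.1 (h k)
  have key : ∀ k (y : SectM M (V k)), y ∈ spanRes M (v k) (P : Set (SectM M E)) →
      ∃ T : Set (SectM M E), T.Finite ∧ T ⊆ P ∧ y ∈ spanRes M (v k) T := fun k y hy => by
    induction hy using Submodule.span_induction with
    | mem z hz =>
      obtain ⟨x, hx, rfl⟩ := hz
      exact ⟨{x}, Set.finite_singleton x, Set.singleton_subset_iff.2 hx, resM_mem_spanRes (v k) rfl⟩
    | zero => exact ⟨∅, Set.finite_empty, Set.empty_subset _, Submodule.zero_mem _⟩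
    | add a b _ _ ha hb =>
      obtain ⟨Ta, hTa, hTa', ha⟩ := ha
      obtain ⟨Tb, hTb, hTb', hb⟩ := hb
      exact ⟨Ta ∪ Tb, hTa.union hTb, Set.union_subset hTa' hTb',
        Submodule.add_mem _ (spanRes_mono (v k) Set.subset_union_left ha) (spanRes_mono (v k) Set.subset_union_right hb)⟩
    | smul r a _ ha =>
      obtain ⟨T, hT, hT', ha⟩ := ha
      exact ⟨T, hT, hT', Submodule.smul_mem _ r ha⟩
  choose T hTf hTP hT using fun (p : Σ k, ↥(s k)) => key p.1 p.2.1 ((hsp p.1).le (Submodule.subset_span p.2.2))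
  haveI : ∀ k, Finite ↥(s k) := fun k => (hs k).to_subtype
  refine Submodule.fg_def.2 ⟨⋃ p, T p, Set.finite_iUnion hTf, le_antisymm
    (Submodule.span_le.2 (Set.iUnion_subset hTP)) fun x hx => ?_⟩
  refine mem_span_of_cover v hV hsurj _ x fun k => ?_
  refine (Submodule.span_le.2 fun y hy => ?_) ((hsp k).ge (resM_mem_spanRes (v k) hx))
  exact spanRes_mono (v k) (Set.subset_iUnion T ⟨k, y, hy⟩) (hT ⟨k, y, hy⟩)

end Groth.Agent.SpQC86
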