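import Groth.Agent.SpQC86.Criterion

/-!
Presheaves of modules whose sections over affine objects are base change, and locally bijective maps out of them.
-/

set_option autoImplicit false
set_option linter.style.haveILetI false
set_option backward.isDefEq.respectTransparency false

universe u

open CategoryTheory CategoryTheory.Limits AlgebraicGeometry Opposite
open AlgSp Groth.Agent.SpQC61

namespace Groth.Agent.SpQC86

variable {S : Scheme.{u}} {X : Sp S}

/-- Presheaves of modules over the structure sheaf. -/
abbrev PModEt (X : Sp S) : Type (u + 2) := PresheafOfModules.{u + 1} (OEtRing X).obj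

/-- Sections over an object, as a module over its ring of functions. -/
def SectP (P : PModEt X) (E : EtOver X) : Type (u + 1) := P.obj (op E)

noncomputable instance (P : PModEt X) (E : EtOver X) : AddCommGroup (SectP P E) :=
  inferInstanceAs (AddCommGroup (P.obj (op E)))

noncomputable instance sectPModule (P : PModEt X) (E : EtOver X) : Module (Γt E) (SectP P E) :=
  Module.compHom (P.obj (op E)) (upΓ E : Γt E →+* (OEtRing X).obj.obj (op E))

/-- Restriction. -/
noncomputable def resP (P : PModEt X) {E' E : EtOver X} (g : E' ⟶ E) : SectP P E →+ SectP P E' :=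
  AddMonoidHom.mk' (fun x => (P.map g.op x : P.obj (op E'))) (fun x y => map_add (P.map g.op).hom x y)

theorem resP_smul (P : PModEt X) {E' E : EtOver X} (g : E' ⟶ E) (a : Γt E) (x : SectP P E) :
    resP P g (a • x) = cmap g a • resP P g x :=
  P.map_smul g.op (upΓ E a) x

theorem resP_comp (P : PModEt X) {E'' E' E : EtOver X} (g' : E'' ⟶ E') (g : E' ⟶ E) (x : SectP P E) :
    resP P (g' ≫ g) x = resP P g' (resP P g x) :=
  P.map_comp_apply g.op g'.op x

/-- The base change map on sections. -/
noncomputable def bcP (P : PModEt X) {E' E : EtOver X} (g : E' ⟶ E) :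
    (letI := (cmap g).toAlgebra; TensorProduct (Γt E) (Γt E') (SectP P E)) →+ SectP P E' :=
  letI := (cmap g).toAlgebra
  bcMap (resP P g) (resP_smul P g)

/-- Sections over affine objects over `E` are base change from `E`. -/
def GoodP (P : PModEt X) (E : EtOver X) : Prop :=
  ∀ (E' : EtOver X) (g : E' ⟶ E), Aff E' → Function.Bijective (bcP P g)

variable {P : PModEt X} {M : ModEt X} (φ : P.presheaf ⟶ M.val.presheaf)

/-- A map of presheaves on sections. -/
noncomputable def appP (E : EtOver X) : SectP P E →+ SectM M E := (φ.app (op E)).hom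

theorem appP_res {E' E : EtOver X} (g : E' ⟶ E) (x : SectP P E) :
    appP φ E' (resP P g x) = resM M g (appP φ E x) :=
  ConcreteCategory.congr_hom (φ.naturality g.op) x

variable (hsmul : ∀ (E : EtOver X) (a : Γt E) (x : SectP P E), appP φ E (a • x) = a • appP φ E x)
include hsmul

/-- Locally bijective maps preserve the base change property. -/
theorem goodM_of_locally_bijective [Presheaf.IsLocallyInjective (etTop X) φ]
    [Presheaf.IsLocallySurjective (etTop X) φ] (hP : ∀ E : EtOver X, Aff E → GoodP P E) (E : EtOver X)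
    [Aff E] : GoodM M E := fun E₁ g₁ ha₁ => by
  let o : Over E := Over.mk (𝟙 E)
  letI : Module (Γt o.left) (SectP P E) := sectPModule P E
  let h : SectP P E →+ Sect (M.over E) o := appP φ E
  have hh : ∀ (a : Γt o.left) (n : SectP P E), h (a • n) = a • h n := hsmul E
  have hbc : ∀ (o' : Over E) (a : o' ⟶ o) (x : Ten (SectP P E) a),
      bc (o := o) (M.over E) h hh a x = appP φ o'.left (bcP P a.left x) := fun o' a x => by
    induction x using ten_induction with
    | h0 => exact (map_zero _).trans (((congrArg _ (map_zero (bcP P a.left))).trans (map_zero (appP φ o'.left))).symm)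
    | ht b n =>
      show b • res (M.over E) a (h n) = appP φ o'.left (b • resP P a.left n)
      rw [hsmul, appP_res]
      rfl
    | ha p q hp hq =>
      exact ((map_add _ p q).trans (congrArg₂ (· + ·) hp hq)).trans
        ((congrArg _ (map_add (bcP P a.left) p q)).trans (map_add (appP φ o'.left) _ _)).symm
  suffices hLS : LocS (M.over E) h ∧ LocI (M.over E) h hh by
    have hb := bc_bijective (M.over E) h hh hLS.1 hLS.2
      (Over.homMk g₁ (Category.comp_id _) : Over.mk g₁ ⟶ o) ha₁
    haveI : Aff o.left := ‹Aff E›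
    have hid := bc_bijective (M.over E) h hh hLS.1 hLS.2 (𝟙 o) ‹_›
    rw [funext (hbc o (𝟙 o))] at hid
    have hφ : Function.Bijective (appP φ E) :=
      ((hP E ‹_› E (𝟙 E) ‹_›).of_comp_iff (appP φ E)).1 hid
    letI := (cmap g₁).toAlgebra
    let φL : SectP P E ≃ₗ[Γt E] SectM M E :=
      LinearEquiv.ofBijective { toFun := appP φ E, map_add' := map_add _, map_smul' := hsmul E } hφ
    have e : ∀ x, bcM M g₁ (φL.lTensor (Γt E₁) x) = bc (o := o) (M.over E) h hh
        (Over.homMk g₁ (Category.comp_id _) : Over.mk g₁ ⟶ o) x := fun x => by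
      induction x using TensorProduct.induction_on with
      | zero => exact (congrArg _ (map_zero (φL.lTensor (Γt E₁)))).trans ((map_zero (bcM M g₁)).trans (map_zero _).symm)
      | tmul b n => rfl
      | add p q hp hq =>
        exact ((congrArg _ (map_add (φL.lTensor (Γt E₁)) p q)).trans
          ((map_add (bcM M g₁) _ _).trans (congrArg₂ (· + ·) hp hq))).trans (map_add _ p q).symm
    refine (Function.Bijective.of_comp_iff (bcM M g₁) (φL.lTensor (Γt E₁)).bijective).1 ?_
    have e' : (bcM M g₁) ∘ (φL.lTensor (Γt E₁)) = bc (o := o) (M.over E) h hh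
        (Over.homMk g₁ (Category.comp_id _) : Over.mk g₁ ⟶ o) := funext e
    rw [e']
    exact hb
  refine ⟨fun o' a ha' s => ?_, fun o' a ha' x hx => ?_⟩
  · haveI := ha'
    obtain ⟨m, V, v, hV, hv, hsurj⟩ :=
      exists_finite_affine_cover (Presheaf.imageSieve_mem (etTop X) φ (U := op o'.left) s)
    refine ⟨m, fun k => Over.mk (v k ≫ o'.hom), fun k => Over.homMk (v k) rfl, ⟨hV, hsurj⟩, fun k => ?_⟩
    obtain ⟨t, ht⟩ := hv k
    obtain ⟨z, hz⟩ : ∃ z : Ten (SectP P E) ((Over.homMk (v k) rfl : Over.mk (v k ≫ o'.hom) ⟶ o') ≫ a),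
        bcP P (v k ≫ a.left) z = (t : SectP P (V k)) := (hP E ‹Aff E› (V k) (v k ≫ a.left) (hV k)).2 _
    have hs : res (M.over E) (Over.homMk (v k) rfl : Over.mk (v k ≫ o'.hom) ⟶ o') s =
        appP φ (V k) (t : SectP P (V k)) := ht.symm
    rw [hs, ← hz]
    have hb := hbc (Over.mk (v k ≫ o'.hom)) ((Over.homMk (v k) rfl : Over.mk (v k ≫ o'.hom) ⟶ o') ≫ a) z
    refine hb ▸ ?_
    clear hb hz
    induction z using ten_induction with
    | h0 => rw [map_zero]; exact Submodule.zero_mem _
    | ht b n => rw [bc_tmk]; exact Submodule.smul_mem _ b (Submodule.subset_span ⟨n, rfl⟩)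
    | ha p q hp hq => rw [map_add]; exact Submodule.add_mem _ hp hq
  · haveI := ha'
    have h0 : appP φ o'.left (bcP P a.left x) = appP φ o'.left 0 := by
      rw [← hbc, map_zero]; exact hx
    obtain ⟨m, V, v, hV, hv, hsurj⟩ := exists_finite_affine_cover
      (Presheaf.equalizerSieve_mem (etTop X) φ (X := op o'.left) (bcP P a.left x) 0 h0)
    refine ⟨m, fun k => Over.mk (v k ≫ o'.hom), fun k => Over.homMk (v k) rfl, ⟨hV, hsurj⟩, fun k => ?_⟩
    refine (hP E ‹Aff E› (V k) (v k ≫ a.left) (hV k)).1 ?_
    have key : ∀ y : Ten (SectP P E) a, bcP P (v k ≫ a.left) (tenMap (Over.homMk (v k) rfl : Over.mk (v k ≫ o'.hom) ⟶ o')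
        (rfl : _ ≫ a = _ ≫ a) y) = resP P (v k) (bcP P a.left y) := fun y => by
      induction y using ten_induction with
      | h0 => exact (congrArg _ (map_zero _)).trans ((map_zero (bcP P (v k ≫ a.left))).trans
          ((congrArg (resP P (v k)) (map_zero (bcP P a.left))).trans (map_zero _)).symm)
      | ht b n =>
        show cmap (v k) b • resP P (v k ≫ a.left) n = resP P (v k) (b • resP P a.left n)
        rw [resP_smul, resP_comp]
      | ha p q hp hq =>
        exact ((congrArg _ (map_add _ p q)).trans
          ((map_add (bcP P (v k ≫ a.left)) _ _).trans (congrArg₂ (· + ·) hp hq))).trans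
          ((congrArg (resP P (v k)) (map_add (bcP P a.left) p q)).trans (map_add _ _ _)).symm
    exact (key x).trans (((hv k).trans (map_zero _)).trans (map_zero (bcP P (v k ≫ a.left))).symm)

end Groth.Agent.SpQC86
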