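import Groth.Agent.SpQC86.SubQC
import Groth.Agent.FlatMor67.LocProjective
import Groth.Agent.FlatMor67.LCIDescent
import Mathlib.Algebra.Module.Shrink

/-!
Local projectivity of quasi-coherent modules on the small etale site.
-/

set_option autoImplicit false
set_option linter.style.haveILetI false
set_option backward.isDefEq.respectTransparency false

universe u

open CategoryTheory CategoryTheory.Limits AlgebraicGeometry Opposite
open AlgSp Groth.Agent.SpQC61
open scoped TensorProduct

namespace Groth.Agent.SpQC86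

variable {S : Scheme.{u}} {X : Sp S} (M : ModEt X) [M.IsQuasicoherent]

/-- The base change map as a linear equivalence. -/
noncomputable def bcE {E' E : EtOver X} (g : E' ⟶ E) [Aff E] [Aff E'] :
    letI := (cmap g).toAlgebra
    TensorProduct (Γt E) (Γt E') (SectM M E) ≃ₗ[Γt E'] SectM M E' :=
  letI := (cmap g).toAlgebra
  LinearEquiv.ofBijective
    { toFun := bcM M g, map_add' := map_add _, map_smul' := bcMap_smul (resM M g) (resM_smul M g) }
    (bcM_bijective M g)

theorem projective_of_hom {E' E : EtOver X} (g : E' ⟶ E) [Aff E] [Aff E']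
    (h : Module.Projective (Γt E) (SectM M E)) : Module.Projective (Γt E') (SectM M E') := by
  letI := (cmap g).toAlgebra
  haveI := h
  exact Module.Projective.of_equiv' (bcE M g)

theorem projective_of_cover {E : EtOver X} [Aff E] [Small.{u} (SectM M E)] {m : ℕ} {V : Fin m → EtOver X}
    (v : ∀ k, V k ⟶ E) (hV : ∀ k, Aff (V k))
    (hsurj : ∀ x : ↥E.obj.left.left, ∃ k, x ∈ Set.range (v k).hom.left.left)
    (h : ∀ k, Module.Projective (Γt (V k)) (SectM M (V k))) : Module.Projective (Γt E) (SectM M E) := by
  haveI := hV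
  let A : ULift.{u} (Fin m) → Type u := fun k => Γt (V k.down)
  letI : ∀ k, Algebra (Γt E) (A k) := fun k => (cmap (v k.down)).toAlgebra
  let N : Type u := Shrink.{u} (SectM M E)
  let e : N ≃ₗ[Γt E] SectM M E := Shrink.linearEquiv (Γt E) (SectM M E)
  have hp : Module.Projective (∀ k, A k) ((∀ k, A k) ⊗[Γt E] N) :=
    FlatMor67.projective_baseChange_pi A N fun k => by
      haveI := h k.down
      exact Module.Projective.of_equiv' ((LinearEquiv.baseChange (R := Γt E) (A := A k) (M := N) (N := SectM M E) e) ≪≫ₗ bcE M (v k.down)).symm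
  haveI : ∀ k, Module.Flat (Γt E) (A k) := fun k => flat_cmap (v k.down)
  haveI : Module.FaithfullyFlat (Γt E) (∀ k, A k) := by
    have : Module.Flat (Γt E) (∀ k, A k) := by
      classical
      exact Module.Flat.of_linearEquiv (DirectSum.linearEquivFunOnFintype (Γt E) (ULift.{u} (Fin m)) A).symm
    refine Module.FaithfullyFlat.of_comap_surjective fun p => ?_
    obtain ⟨k, q, rfl⟩ := exists_prime_preimage v hsurj p
    exact ⟨PrimeSpectrum.comap (Pi.evalRingHom A ⟨k⟩) q, rfl⟩
  haveI := hp
  haveI := FlatMor67.projective_descent (Γt E) (∀ k, A k) N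
  exact Module.Projective.of_equiv' e

/-- A module is projective over an affine object if, locally, it is base changed from projective ones. -/
theorem projective_of_locally {E : EtOver X} [Aff E] [Small.{u} (SectM M E)]
    (h : ∀ x : ↥E.obj.left.left, ∃ (V : EtOver X) (v : V ⟶ E) (E₀ : EtOver X) (_ : V ⟶ E₀),
      x ∈ Set.range v.hom.left.left ∧ Aff E₀ ∧ Module.Projective (Γt E₀) (SectM M E₀)) :
    Module.Projective (Γt E) (SectM M E) := by
  let R : Sieve E :=
    { arrows := fun V _ => ∃ (E₀ : EtOver X) (_ : V ⟶ E₀), Aff E₀ ∧ Module.Projective (Γt E₀) (SectM M E₀)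
      downward_closed := fun {Y Z f} hf g => by
        obtain ⟨E₀, f₀, h0⟩ := hf
        exact ⟨E₀, g ≫ f₀, h0⟩ }
  have hR : R ∈ etTop X E := SpPts86.mem_etTop_of_forall _ fun x => by
    obtain ⟨V, v, E₀, f₀, hx, h0⟩ := h x
    exact ⟨V, v, ⟨E₀, f₀, h0⟩, hx⟩
  obtain ⟨m, V, v, hV, hv, hsurj⟩ := exists_finite_affine_cover hR
  refine projective_of_cover M v hV hsurj fun k => ?_
  obtain ⟨E₀, f₀, hA, hP⟩ := hv k
  haveI := hA
  haveI := hV k
  exact projective_of_hom M f₀ hP

omit [M.IsQuasicoherent] in
/-- Projectivity is preserved by isomorphisms of modules. -/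
theorem projective_of_iso {N : ModEt X} (i : M ≅ N) {E : EtOver X} (h : Module.Projective (Γt E) (SectM M E)) :
    Module.Projective (Γt E) (SectM N E) :=
  haveI := h
  Module.Projective.of_equiv' (LinearEquiv.ofLinear (appM i.hom E) (appM i.inv E)
    (LinearMap.ext fun x => congrArg (fun f : N ⟶ N => appM f E x) i.inv_hom_id)
    (LinearMap.ext fun x => congrArg (fun f : M ⟶ M => appM f E x) i.hom_inv_id))

end Groth.Agent.SpQC86
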