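import Groth.Agent.SpQC86.Cech
import Mathlib.Algebra.Category.ModuleCat.Presheaf.Submodule

/-!
Quasi-coherent submodules given by their sections over affine objects.
-/

set_option autoImplicit false
set_option linter.style.haveILetI false
set_option backward.isDefEq.respectTransparency false

universe u

open CategoryTheory CategoryTheory.Limits AlgebraicGeometry Opposite
open AlgSp Groth.Agent.SpQC61

namespace Groth.Agent.SpQC86

variable {S : Scheme.{u}} {X : Sp S}

theorem resM_id {M : ModEt X} {E : EtOver X} (x : SectM M E) : resM M (𝟙 E) x = x :=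
  res_id (M.over E) (Over.mk (𝟙 E)) x

/-- Sections are determined by their restrictions to affine objects. -/
theorem sect_ext_aff (M : ModEt X) {W : EtOver X} {x y : SectM M W}
    (h : ∀ (E : EtOver X), Aff E → ∀ f : E ⟶ W, resM M f x = resM M f y) : x = y := by
  let ι := {U : W.obj.left.left.Opens // IsAffineOpen U}
  refine eq_of_cover (M.over W) (o := Over.mk (𝟙 W)) (V := fun U : ι => Over.mk (openObjι W U.1))
    (fun U => Over.homMk (openObjι W U.1) (Category.comp_id _)) (fun v => ?_) fun U => h (openObj W U.1) (show Aff (openObj W U.1) from U.2) _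
  obtain ⟨U, hU, hvU, -⟩ := exists_isAffineOpen_mem_and_subset (x := v) (U := (⊤ : W.obj.left.left.Opens)) trivial
  exact ⟨⟨U, hU⟩, ⟨v, hvU⟩, rfl⟩

/-- Maps of modules are determined on affine objects. -/
theorem hom_ext_aff {M N : ModEt X} {f g : M ⟶ N}
    (h : ∀ (E : EtOver X), Aff E → ∀ x, appM f E x = appM g E x) : f = g := by
  refine SheafOfModules.Hom.ext (PresheafOfModules.hom_ext fun W => ?_)
  obtain ⟨W⟩ := W
  ext x
  refine sect_ext_aff N fun E hE v => ?_
  show resM N v (appM f W x) = resM N v (appM g W x)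
  rw [← appM_res, ← appM_res]
  exact h E hE _

/-- A map factors through a monomorphism if it does so on sections over affine objects. -/
theorem exists_fac {A B C : ModEt X} (ι : A ⟶ B) [Mono ι] (θ : C ⟶ B)
    (h : ∀ (E : EtOver X), Aff E → ∀ x, appM θ E x ∈ LinearMap.range (appM ι E)) :
    ∃ κ : C ⟶ A, κ ≫ ι = θ := by
  refine ⟨Abelian.monoLift ι θ (hom_ext_aff fun E hE x => ?_), Abelian.monoLift_comp ι θ _⟩
  obtain ⟨y, hy⟩ := h E hE x
  show appM (cokernel.π ι) E (appM θ E x) = 0
  rw [← hy]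
  exact congrArg (fun f : A ⟶ cokernel ι => appM f E y) (cokernel.condition ι)

variable (M : ModEt X) (Q : ∀ E : EtOver X, Aff E → Submodule (Γt E) (SectM M E))
  (hres : ∀ {E' E : EtOver X} (g : E' ⟶ E) (hE : Aff E) (hE' : Aff E'), ∀ x ∈ Q E hE, resM M g x ∈ Q E' hE')
  (hspan : ∀ {E' E : EtOver X} (g : E' ⟶ E) (hE : Aff E) (hE' : Aff E'),
    Q E' hE' ≤ Submodule.span (Γt E') (resM M g '' Q E hE))

include hspan in
omit hres in
theorem mem_of_cover [M.IsQuasicoherent] {E : EtOver X} [Aff E] {ι : Type} {V : ι → EtOver X} (v : ∀ k, V k ⟶ E)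
    (hV : ∀ k, Aff (V k)) (hsurj : ∀ x : ↥E.obj.left.left, ∃ k, x ∈ Set.range (v k).hom.left.left)
    {x : SectM M E} (hx : ∀ k, resM M (v k) x ∈ Q (V k) (hV k)) : x ∈ Q E ‹_› := by
  haveI := hV
  letI : ∀ k, Algebra (Γt E) (Γt (V k)) := fun k => (cmap (v k)).toAlgebra
  haveI : ∀ k, Module.Flat (Γt E) (Γt (V k)) := fun k => flat_cmap (v k)
  refine (Submodule.Quotient.mk_eq_zero _).1
    (eq_zero_of_forall_one_tmul (fun k => Γt (V k)) (exists_prime_preimage v hsurj) _ fun k => ?_)
  have hr : ∀ z ∈ Submodule.span (Γt (V k)) (resM M (v k) '' Q E ‹_›),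
      ∃ w : TensorProduct (Γt E) (Γt (V k)) (Q E ‹_›),
        bcM M (v k) ((Q E ‹_›).subtype.lTensor (Γt (V k)) w) = z := fun z hz => by
    induction hz using Submodule.span_induction with
    | mem z hz =>
      obtain ⟨n, hn, rfl⟩ := hz
      exact ⟨1 ⊗ₜ[Γt E] (⟨n, hn⟩ : Q E ‹_›), one_smul (Γt (V k)) (resM M (v k) n)⟩
    | zero => exact ⟨0, (congrArg _ (map_zero _)).trans (map_zero (bcM M (v k)))⟩
    | add a b _ _ ha hb =>
      obtain ⟨wa, rfl⟩ := ha
      obtain ⟨wb, rfl⟩ := hb
      exact ⟨wa + wb, (congrArg _ (map_add _ _ _)).trans (map_add (bcM M (v k)) _ _)⟩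
    | smul r a _ ha =>
      obtain ⟨wa, rfl⟩ := ha
      refine ⟨r • wa, ?_⟩
      have h1 : (Q E ‹_›).subtype.lTensor (Γt (V k)) (r • wa) = r • (Q E ‹_›).subtype.lTensor (Γt (V k)) wa :=
        ((Q E ‹_›).subtype.baseChange (Γt (V k))).map_smul r wa
      rw [h1]
      exact bcMap_smul (resM M (v k)) (resM_smul M (v k)) r _
  obtain ⟨w, hw⟩ := hr _ (hspan (v k) ‹_› (hV k) (hx k))
  have h1 : (1 : Γt (V k)) ⊗ₜ[Γt E] x = (Q E ‹_›).subtype.lTensor (Γt (V k)) w :=
    (bcM_bijective M (v k)).1 ((one_smul (Γt (V k)) (resM M (v k) x)).trans hw.symm)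
  show (Q E ‹_›).mkQ.lTensor (Γt (V k)) ((1 : Γt (V k)) ⊗ₜ[Γt E] x) = 0
  rw [h1, ← LinearMap.comp_apply, ← LinearMap.lTensor_comp,
    show (Q E ‹_›).mkQ ∘ₗ (Q E ‹_›).subtype = 0 from LinearMap.ext fun n => (Submodule.Quotient.mk_eq_zero _).2 n.2,
    LinearMap.lTensor_zero, LinearMap.zero_apply]

/-- The sections lying in the given submodules over affine objects. -/
noncomputable def subP : PresheafOfModules.Submodule M.val where
  obj W :=
    { carrier := {x : SectM M W.unop | ∀ (E : EtOver X) (hE : Aff E) (f : E ⟶ W.unop), resM M f x ∈ Q E hE}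
      zero_mem' := fun E hE f => by
        show resM M f (0 : SectM M W.unop) ∈ _
        rw [map_zero]; exact Submodule.zero_mem _
      add_mem' := fun {a b} ha hb E hE f => by
        show resM M f ((a : SectM M W.unop) + b) ∈ _
        rw [map_add]; exact Submodule.add_mem _ (ha E hE f) (hb E hE f)
      smul_mem' := fun r a ha E hE f => by
        have h1 := Submodule.smul_mem (Q E hE) (cmap f r.down) (ha E hE f)
        rw [← resM_smul] at h1
        exact h1 }
  map {W W'} f x hx := fun E hE v => by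
    show resM M v (resM M f.unop x) ∈ _
    rw [← resM_comp]; exact hx E hE _

variable [M.IsQuasicoherent]

include hspan in
omit hres in
theorem isSheaf_subP : Presheaf.IsSheaf (etTop X) (subP M Q).toPresheafOfModules.presheaf := by
  rw [Presheaf.isSheaf_iff_isSheaf_forget _ _ (CategoryTheory.forget AddCommGrpCat.{u + 1}), isSheaf_iff_isSheaf_of_type]
  intro W R hR x hx
  have hM : Presieve.IsSheafFor (M.val.presheaf ⋙ CategoryTheory.forget AddCommGrpCat.{u + 1}) R.arrows :=
    (isSheaf_iff_isSheaf_of_type _ _).1 ((Presheaf.isSheaf_iff_isSheaf_forget _ _ _).1 M.isSheaf) R hR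
  let θ := Functor.whiskerRight ((PresheafOfModules.toPresheaf _).map (subP M Q).ι)
    (CategoryTheory.forget AddCommGrpCat.{u + 1})
  have hθ : ∀ V, Function.Injective (θ.app (op V)) := fun V a b h => Subtype.ext h
  have hmemθ : ∀ V (t : ((subP M Q).toPresheafOfModules.presheaf ⋙ CategoryTheory.forget AddCommGrpCat.{u + 1}).obj (op V)),
      (θ.app (op V) t : SectM M V) ∈ (subP M Q).obj (op V) := fun V t => Subtype.property _
  obtain ⟨s, hs, huniq⟩ := hM (Presieve.FamilyOfElements.map x θ) (Presieve.FamilyOfElements.Compatible.map θ hx)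
  have hmem : (s : SectM M W) ∈ (subP M Q).obj (op W) := fun E hE f => by
    haveI := hE
    obtain ⟨m, V, v, hV, hv, hsurj⟩ := exists_finite_affine_cover ((etTop X).pullback_stable f hR)
    refine mem_of_cover M Q hspan v hV hsurj fun k => ?_
    have h1 : resM M (v k ≫ f) (s : SectM M W) = (θ.app (op (V k)) (x (v k ≫ f) (hv k)) : SectM M (V k)) :=
      hs (v k ≫ f) (hv k)
    have h2 := hmemθ (V k) (x (v k ≫ f) (hv k)) (V k) (hV k) (𝟙 _)
    rw [← h1, resM_id] at h2
    rw [← resM_comp]
    exact h2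
  refine ⟨(⟨s, hmem⟩ : (subP M Q).obj (op W)), fun V v hv => hθ V (hs v hv), fun t ht => hθ W ?_⟩
  exact huniq _ fun V v hv => (congrArg (θ.app (op V)) (ht v hv) : _)

/-- The submodule sheaf. -/
noncomputable def subM : ModEt X := ⟨(subP M Q).toPresheafOfModules, isSheaf_subP M Q hspan⟩

/-- The inclusion of the submodule sheaf. -/
noncomputable def subι : subM M Q hspan ⟶ M := ⟨(subP M Q).ι⟩

instance : Mono (subι M Q hspan) :=
  (SheafOfModules.forget (OEtRing X)).mono_of_mono_map (inferInstanceAs (Mono (subP M Q).ι))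

include hres in
theorem range_subι (E : EtOver X) (hE : Aff E) :
    LinearMap.range (appM (subι M Q hspan) E) = Q E hE := by
  refine Submodule.ext fun x => ⟨?_, fun hx => ⟨(⟨x, fun E' hE' f => hres f hE hE' x hx⟩ : (subP M Q).obj (op E)), rfl⟩⟩
  rintro ⟨t, rfl⟩
  have h := (t : (subP M Q).obj (op E)).2 E hE (𝟙 E)
  rw [resM_id] at h
  exact h

include hres in
theorem isQuasicoherent_subM : (subM M Q hspan).IsQuasicoherent := by
  refine isQuasicoherent_of_good _ fun E hE => fun E' g hE' => ?_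
  haveI := hE
  haveI := hE'
  letI := (cmap g).toAlgebra
  haveI : Module.Flat (Γt E) (Γt E') := flat_cmap g
  refine ⟨(injective_iff_map_eq_zero _).2 fun z hz => ?_, fun x => ?_⟩
  · refine Module.Flat.lTensor_preserves_injective_linearMap (M := Γt E') (appM (subι M Q hspan) E)
      (appM_injective _ E) ((bcM_bijective M g).1 ?_)
    rw [map_zero, bcM_lTensor, hz, map_zero]
    exact (map_zero (bcM M g)).symm
  · have hx : appM (subι M Q hspan) E' x ∈ Submodule.span (Γt E') (resM M g '' Q E hE) :=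
      hspan g hE hE' (range_subι M Q hres hspan E' hE' ▸ LinearMap.mem_range_self _ x)
    suffices h : ∀ y ∈ Submodule.span (Γt E') (resM M g '' Q E hE),
        ∃ w, appM (subι M Q hspan) E' (bcM (subM M Q hspan) g w) = y by
      obtain ⟨w, hw⟩ := h _ hx
      exact ⟨w, appM_injective _ E' hw⟩
    intro y hy
    induction hy using Submodule.span_induction with
    | mem y hy =>
      obtain ⟨n, hn, rfl⟩ := hy
      obtain ⟨t, rfl⟩ := (range_subι M Q hres hspan E hE).symm ▸ hn
      refine ⟨1 ⊗ₜ[Γt E] t, ?_⟩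
      show appM _ E' ((1 : Γt E') • resM (subM M Q hspan) g t) = _
      rw [one_smul, appM_res]
    | zero => exact ⟨0, (congrArg _ (map_zero (bcM (subM M Q hspan) g))).trans (map_zero _)⟩
    | add a b _ _ ha hb =>
      obtain ⟨wa, rfl⟩ := ha
      obtain ⟨wb, rfl⟩ := hb
      exact ⟨wa + wb, (congrArg _ (map_add (bcM (subM M Q hspan) g) _ _)).trans (map_add _ _ _)⟩
    | smul r a _ ha =>
      obtain ⟨wa, rfl⟩ := ha
      exact ⟨r • wa, (congrArg _ (bcMap_smul (resM _ g) (resM_smul _ g) r wa)).trans (LinearMap.map_smul _ r _)⟩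

end Groth.Agent.SpQC86
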