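import Groth.Agent.SpQC86.Criterion
import Groth.Agent.SpQC86.SubQC
import Groth.Agent.SpPts86.EtPullQC
import Mathlib.Algebra.Module.Projective

/-!
A quasi-coherent module with projective sections over an affine object is a direct summand of a free module there.
-/

set_option autoImplicit false
set_option linter.style.haveILetI false
set_option backward.isDefEq.respectTransparency false

universe u

open CategoryTheory CategoryTheory.Limits AlgebraicGeometry Opposite
open AlgSp Groth.Agent.SpQC61

namespace Groth.Agent.SpQC86

variable {S : Scheme.{u}} {X : Sp S} {E : EtOver X}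

/-- Maps of modules on a slice are determined on affine objects. -/
theorem modOver_hom_ext_aff {A B : ModOver E} {f g : A ⟶ B}
    (h : ∀ (o : Over E), Aff o.left → ∀ x, appS f o x = appS g o x) : f = g := by
  refine SheafOfModules.Hom.ext (PresheafOfModules.hom_ext fun W => ?_)
  obtain ⟨W⟩ := W
  ext x
  let ι := {U : W.left.obj.left.left.Opens // IsAffineOpen U}
  refine eq_of_cover B (o := W) (V := fun U : ι => Over.mk (openObjι W.left U.1 ≫ W.hom))
    (fun U => Over.homMk (openObjι W.left U.1) rfl) (fun v => ?_) fun U => ?_
  · obtain ⟨U, hU, hvU, -⟩ := exists_isAffineOpen_mem_and_subset (x := v) (U := (⊤ : W.left.obj.left.left.Opens)) trivial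
    exact ⟨⟨U, hU⟩, ⟨v, hvU⟩, rfl⟩
  · show res B _ (appS f W x) = res B _ (appS g W x)
    rw [appS_res, appS_res]
    exact h (Over.mk (openObjι W.left U.1 ≫ W.hom)) (show Aff (openObj W.left U.1) from U.2) _

variable (M : ModEt X)

theorem comb_genS_top (d : SectM M E →₀ Γt E) :
    comb (o := Over.mk (𝟙 E)) (genS E M) d = (Finsupp.linearCombination (Γt E) _root_.id d : SectM M E) := by
  let L : (SectM M E →₀ Γt E) →ₗ[Γt E] SectM M E := Finsupp.linearCombination (Γt E) _root_.id
  have hL : ∀ n a, L (Finsupp.single n a) = a • n := fun n a => Finsupp.linearCombination_single (Γt E) a n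
  show comb (o := Over.mk (𝟙 E)) (genS E M) d = L d
  induction d using Finsupp.induction_linear with
  | zero => exact (map_zero _).trans (map_zero L).symm
  | add a b ha hb => exact (map_add _ a b).trans ((congrArg₂ (· + ·) ha hb).trans (map_add L a b).symm)
  | single n a =>
    refine (Finsupp.linearCombination_single _ _ _).trans
      (Eq.trans ?_ (hL n a).symm)
    show a • resM M (𝟙 E) n = a • n
    rw [resM_id]

variable [Aff E] (σ₀ : SectM M E →ₗ[Γt E] (SectM M E →₀ Γt E))

/-- The sections splitting the generators. -/
noncomputable def splitT (n : SectM M E) : (freeOver E (SectM M E)).sections :=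
  PresheafOfModules.sectionsMk
    (fun o => (res (freeOver E (SectM M E)) (toTop E o.unop) (comb (tauS E (SectM M E)) (Over.mk (𝟙 E)) (σ₀ n)) :
      (freeOver E (SectM M E)).val.obj (op o.unop)))
    fun o o' f => by
      show res _ f.unop _ = _
      rw [← res_comp]
      exact res_congr _ (Over.w f.unop) _

/-- Direct summand of a free module. -/
theorem exists_retract (hgood : GoodM M E)
    (hσ : ∀ n, Finsupp.linearCombination (Γt E) _root_.id (σ₀ n) = n) :
    ∃ (s : M.over E ⟶ freeOver E (SectM M E)) (r : freeOver E (SectM M E) ⟶ M.over E), s ≫ r = 𝟙 (M.over E) := by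
  haveI : Epi (genπ E M) := epi_of_span_affine (genS E M) fun o ho x => by
    letI := (cmap o.hom).toAlgebra
    obtain ⟨z, rfl⟩ := (hgood o.left o.hom ho).2 x
    induction z using TensorProduct.induction_on with
    | zero => rw [map_zero]; exact Submodule.zero_mem _
    | tmul b n => exact Submodule.smul_mem _ b (Submodule.subset_span ⟨n, rfl⟩)
    | add a b ha hb => rw [map_add]; exact Submodule.add_mem _ ha hb
  let T : freeOver E (SectM M E) ⟶ freeOver E (SectM M E) := (freeOver E (SectM M E)).freeHomEquiv.symm (splitT M σ₀)
  have hT : ∀ (o : Over E) (c : SectM M E →₀ Γt o.left),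
      appS T o (comb (tauS E (SectM M E)) o c) = comb (splitT M σ₀) o c := fun o c => by
    rw [appS_comb]
    refine congrArg (fun t => comb t o c) (funext fun i => ?_)
    exact SheafOfModules.sectionsMap_freeHomEquiv_symm_freeSection (splitT M σ₀) i
  have hker : kernel.ι (genπ E M) ≫ T = 0 := modOver_hom_ext_aff fun o ho y => by
    haveI := ho
    obtain ⟨c, hc⟩ := comb_tau_surjective (I := SectM M E) o (appS (kernel.ι (genπ E M)) o y)
    show appS T o (appS (kernel.ι (genπ E M)) o y) = 0
    rw [← hc, hT]
    have hc0 : comb (genS E M) o c = 0 := by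
      rw [← genπ_comb, hc]
      exact congrArg (fun φ : kernel (genπ E M) ⟶ M.over E => appS φ o y) (kernel.condition (genπ E M))
    letI := (cmap o.hom).toAlgebra
    let F := freeOver E (SectM M E)
    let f : SectM M E →+ Sect F o := (res F (toTop E o)).comp
      ((comb (tauS E (SectM M E)) (Over.mk (𝟙 E))).toAddMonoidHom.comp σ₀.toAddMonoidHom)
    have hf : ∀ (a : Γt E) n, f (a • n) = algebraMap (Γt E) (Γt o.left) a • f n := fun a n => by
      show res F (toTop E o) (comb (tauS E (SectM M E)) (Over.mk (𝟙 E)) (σ₀ (a • n))) = _
      rw [map_smul, LinearMap.map_smul, res_smul]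
      rfl
    let e : (SectM M E →₀ Γt o.left) →+ TensorProduct (Γt E) (Γt o.left) (SectM M E) :=
      Finsupp.liftAddHom fun n => AddMonoidHom.mk' (fun b => b ⊗ₜ[Γt E] n) fun a b => TensorProduct.add_tmul a b n
    have he1 : ∀ d, bcM M o.hom (e d) = comb (genS E M) o d := fun d => by
      induction d using Finsupp.induction_linear with
      | zero => exact ((congrArg _ (map_zero e)).trans (map_zero (bcM M o.hom))).trans (map_zero (comb (genS E M) o)).symm
      | add a b ha hb =>
        exact ((congrArg _ (map_add e a b)).trans ((map_add (bcM M o.hom) _ _).trans (congrArg₂ (· + ·) ha hb))).trans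
          (map_add (comb (genS E M) o) a b).symm
      | single n b =>
        refine (congrArg _ (Finsupp.liftAddHom_apply_single _ n b)).trans ?_
        refine Eq.trans ?_ (Finsupp.linearCombination_single _ _ _).symm
        rfl
    have he2 : ∀ d, bcMap f hf (e d) = comb (splitT M σ₀) o d := fun d => by
      induction d using Finsupp.induction_linear with
      | zero => rw [map_zero, map_zero, map_zero]
      | add a b ha hb => rw [map_add, map_add, map_add, ha, hb]
      | single n b =>
        refine (congrArg _ (Finsupp.liftAddHom_apply_single _ n b)).trans ?_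
        refine Eq.trans ?_ (Finsupp.linearCombination_single _ _ _).symm
        rfl
    have hz : e c = 0 := (hgood o.left o.hom ho).1 ((he1 c).trans (hc0.trans (map_zero (bcM M o.hom)).symm))
    rw [← he2, hz, map_zero]
  refine ⟨Abelian.epiDesc (genπ E M) T hker, genπ E M, ?_⟩
  rw [← cancel_epi (genπ E M), Category.comp_id, ← Category.assoc, Abelian.comp_epiDesc]
  apply (M.over E).freeHomEquiv.injective
  funext n
  rw [SheafOfModules.freeHomEquiv_comp_apply]
  dsimp only [T]
  rw [Equiv.apply_symm_apply, Equiv.apply_symm_apply]
  refine PresheafOfModules.sections_ext _ _ fun o => ?_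
  show appS (genπ E M) o.unop (res _ (toTop E o.unop) (comb (tauS E (SectM M E)) (Over.mk (𝟙 E)) (σ₀ n))) = resM M o.unop.hom n
  rw [← appS_res, genπ_comb, comb_genS_top, hσ]
  rfl

end Groth.Agent.SpQC86
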