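import Groth.Agent.SpQC86.SubFamGeom

/-!
Quasi-coherent submodules of finite type over an open set of points, given over affine objects, and their
extension across an elementary step.
-/

set_option autoImplicit false
set_option linter.style.haveILetI false
set_option backward.isDefEq.respectTransparency false

universe u

open CategoryTheory CategoryTheory.Limits AlgebraicGeometry Opposite
open AlgSp Groth.Agent.SpQC61

namespace Groth.Agent.SpQC86

variable {S : Scheme.{u}} {X : Sp S}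

/-- A submodule of finite type over an open set, on affine objects. -/
structure SubFam (M : ModEt X) (O : Set (Points X)) where
  /-- the submodules -/
  Q : ∀ E : EtOver X, Aff E → InOp O E → Submodule (Γt E) (SectM M E)
  res : ∀ {E' E : EtOver X} (g : E' ⟶ E) (hE : Aff E) (h : InOp O E) (hE' : Aff E'),
    ∀ x ∈ Q E hE h, resM M g x ∈ Q E' hE' (h.of_hom g)
  span : ∀ {E' E : EtOver X} (g : E' ⟶ E) (hE : Aff E) (h : InOp O E) (hE' : Aff E'),
    Q E' hE' (h.of_hom g) ≤ spanRes M g (Q E hE h : Set (SectM M E))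
  fg : ∀ (E : EtOver X) (hE : Aff E) (h : InOp O E), (Q E hE h).FG

variable {M : ModEt X} {O O' : Set (Points X)}

theorem SubFam.eq_spanRes (N : SubFam M O) {E' E : EtOver X} (g : E' ⟶ E) (hE : Aff E) (h : InOp O E)
    (hE' : Aff E') : N.Q E' hE' (h.of_hom g) = spanRes M g (N.Q E hE h : Set (SectM M E)) :=
  le_antisymm (N.span g hE h hE') (Submodule.span_le.2 (by rintro _ ⟨x, hx, rfl⟩; exact N.res g hE h hE' x hx))

variable [M.IsQuasicoherent]

theorem exists_cover_of_nhds {E : EtOver X} [Aff E] (P : ∀ W : EtOver X, (W ⟶ E) → Prop)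
    (hP : ∀ {W W' : EtOver X} (j : W ⟶ E) (k : W' ⟶ W), P W j → P W' (k ≫ j))
    (h : ∀ v : ↥E.obj.left.left, ∃ (W : EtOver X) (j : W ⟶ E), P W j ∧ v ∈ Set.range j.hom.left.left) :
    ∃ (n : ℕ) (V : Fin n → EtOver X) (v : ∀ k, V k ⟶ E), (∀ k, Aff (V k)) ∧ (∀ k, P (V k) (v k)) ∧
      ∀ x : ↥E.obj.left.left, ∃ k, x ∈ Set.range (v k).hom.left.left :=
  exists_finite_affine_cover (R := { arrows := fun W j => P W j
                                     downward_closed := fun {W W' j} hj k => hP j k hj })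
    (SpPts86.mem_etTop_of_forall _ h)

section Step

variable {EV : EtOver X} (st : EtStep O O' EV) (N : SubFam M O) (NV : Submodule (Γt EV) (SectM M EV))

/-- Restrictions of the new module to the old open set lie in the old family. -/
def Below : Prop :=
  ∀ x ∈ NV, ∀ (E : EtOver X) (hE : Aff E) (h : InOp O E) (g : E ⟶ EV), resM M g x ∈ N.Q E hE h

/-- The old family is generated by the new module. -/
def Above : Prop :=
  ∀ (E : EtOver X) (hE : Aff E) (h : InOp O E) (g : E ⟶ EV), N.Q E hE h ≤ spanRes M g (NV : Set (SectM M EV))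

/-- The glued family. -/
noncomputable def glueQ (E : EtOver X) : Submodule (Γt E) (SectM M E) where
  carrier := {x | (∀ (W : EtOver X) (hW : Aff W) (hWO : InOp O W) (h : W ⟶ E), resM M h x ∈ N.Q W hW hWO) ∧
    ∀ (W : EtOver X) (_ : Aff W) (h : W ⟶ E) (g : W ⟶ EV), resM M h x ∈ spanRes M g (NV : Set (SectM M EV))}
  zero_mem' := ⟨fun W hW hWO h => by rw [map_zero]; exact Submodule.zero_mem _,
    fun W hW h g => by rw [map_zero]; exact Submodule.zero_mem _⟩
  add_mem' {a b} ha hb := ⟨fun W hW hWO h => by rw [map_add]; exact Submodule.add_mem _ (ha.1 W hW hWO h) (hb.1 W hW hWO h),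
    fun W hW h g => by rw [map_add]; exact Submodule.add_mem _ (ha.2 W hW h g) (hb.2 W hW h g)⟩
  smul_mem' r a ha := ⟨fun W hW hWO h => by rw [resM_smul]; exact Submodule.smul_mem _ _ (ha.1 W hW hWO h),
    fun W hW h g => by rw [resM_smul]; exact Submodule.smul_mem _ _ (ha.2 W hW h g)⟩

variable {N NV}

theorem glueQ_res {E' E : EtOver X} (g : E' ⟶ E) {x : SectM M E} (hx : x ∈ glueQ N NV E) :
    resM M g x ∈ glueQ N NV E' :=
  ⟨fun W hW hWO h => by rw [← resM_comp]; exact hx.1 W hW hWO _,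
    fun W hW h g' => by rw [← resM_comp]; exact hx.2 W hW _ g'⟩

theorem spanRes_eq_of_below_above (hb : Below N NV) (ha : Above N NV) {E : EtOver X} (hE : Aff E) (h : InOp O E)
    (g : E ⟶ EV) : spanRes M g (NV : Set (SectM M EV)) = N.Q E hE h :=
  le_antisymm (Submodule.span_le.2 (by rintro _ ⟨x, hx, rfl⟩; exact hb x hx E hE h g)) (ha E hE h g)

theorem glueQ_eq_old (hb : Below N NV) (ha : Above N NV) {E : EtOver X} (hE : Aff E) (h : InOp O E) :
    glueQ N NV E = N.Q E hE h := by
  refine le_antisymm (fun x hx => resM_id x ▸ hx.1 E hE h (𝟙 E)) fun x hx => ⟨fun W hW _ g => N.res g hE h hW x hx,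
    fun W hW g g' => ?_⟩
  exact ha W hW (h.of_hom g) g' (N.res g hE h hW x hx)

include st in
theorem glueQ_eq_new (hb : Below N NV) (ha : Above N NV) {E : EtOver X} (hE : Aff E) (g : E ⟶ EV) :
    glueQ N NV E = spanRes M g (NV : Set (SectM M EV)) := by
  refine le_antisymm (fun x hx => resM_id x ▸ hx.2 E hE (𝟙 E) g) fun x hx => ⟨fun W hW hWO h => ?_, fun W hW h g' => ?_⟩
  · rw [← spanRes_eq_of_below_above hb ha hW hWO (h ≫ g), ← spanRes_comp]
    exact resM_mem_spanRes h hx
  · haveI := hW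
    obtain ⟨n, V, v, hV, hP, hs⟩ := exists_cover_of_nhds (E := W)
      (fun W₁ j => InOp O W₁ ∨ j ≫ h ≫ g = j ≫ g') (fun {W₁ W₂} j k hj => hj.imp (fun h => h.of_hom k)
        (fun e => by rw [Category.assoc, e, Category.assoc]))
      (fun p => by
        by_cases hp : Points.ofPt W.obj.hom p ∈ O
        · obtain ⟨W₁, j, h1, h2⟩ := exists_inOp_nhd st.isOpen W p hp
          exact ⟨W₁, j, Or.inl h1, h2⟩
        · obtain ⟨W₁, j, h1, h2⟩ := st.exists_equalize (h ≫ g) g' p hp
          exact ⟨W₁, j, Or.inr h1, h2⟩)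
    refine mem_of_forall_resM_mem v hV hs _ fun k => ?_
    rw [← resM_comp, spanRes_comp]
    have h1 : resM M (v k ≫ h) x ∈ spanRes M (v k ≫ h ≫ g) (NV : Set (SectM M EV)) := by
      rw [← Category.assoc, ← spanRes_comp]
      exact resM_mem_spanRes _ hx
    rcases hP k with hk | hk
    · rw [spanRes_eq_of_below_above hb ha (hV k) hk (v k ≫ g')]
      rwa [spanRes_eq_of_below_above hb ha (hV k) hk (v k ≫ h ≫ g)] at h1
    · rwa [hk] at h1

include st in
theorem glueQ_class (hb : Below N NV) (ha : Above N NV) {W' W : EtOver X} (j : W' ⟶ W) (hW : Aff W) (hW' : Aff W')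
    (h : InOp O W ∨ Nonempty (W ⟶ EV)) :
    glueQ N NV W' = spanRes M j (glueQ N NV W : Set (SectM M W)) := by
  rcases h with h | ⟨⟨g⟩⟩
  · rw [glueQ_eq_old hb ha hW' (h.of_hom j), glueQ_eq_old hb ha hW h, N.eq_spanRes j hW h hW']
  · rw [glueQ_eq_new st hb ha hW' (j ≫ g), glueQ_eq_new st hb ha hW g, spanRes_comp]

theorem glueQ_fg_class (st : EtStep O O' EV) (hb : Below N NV) (ha : Above N NV) (hfg : NV.FG) {W : EtOver X}
    (hW : Aff W) (h : InOp O W ∨ Nonempty (W ⟶ EV)) : (glueQ N NV W).FG := by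
  rcases h with h | ⟨⟨g⟩⟩
  · rw [glueQ_eq_old hb ha hW h]; exact N.fg W hW h
  · rw [glueQ_eq_new st hb ha hW g]; exact spanRes_fg g hfg

include st in
theorem exists_class_cover {E : EtOver X} [Aff E] (h : InOp O' E) :
    ∃ (n : ℕ) (V : Fin n → EtOver X) (v : ∀ k, V k ⟶ E), (∀ k, Aff (V k)) ∧
      (∀ k, InOp O (V k) ∨ Nonempty (V k ⟶ EV)) ∧ ∀ x : ↥E.obj.left.left, ∃ k, x ∈ Set.range (v k).hom.left.left :=
  exists_cover_of_nhds (fun W _ => InOp O W ∨ Nonempty (W ⟶ EV))
    (fun _ k hj => hj.imp (fun h => h.of_hom k) (fun ⟨g⟩ => ⟨k ≫ g⟩)) fun p => by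
      rcases st.union.ge (h p) with hp | hp
      · obtain ⟨W, j, h1, h2⟩ := exists_inOp_nhd st.isOpen E p hp
        exact ⟨W, j, Or.inl h1, h2⟩
      · obtain ⟨W, j, g, h2⟩ := exists_over_nhd E EV p hp
        exact ⟨W, j, Or.inr ⟨g⟩, h2⟩

theorem mem_glueQ_of_cover (st : EtStep O O' EV) (hb : Below N NV) (ha : Above N NV) {E : EtOver X} [Aff E]
    {n : ℕ} {V : Fin n → EtOver X} (v : ∀ k, V k ⟶ E) (hV : ∀ k, Aff (V k))
    (hc : ∀ k, InOp O (V k) ∨ Nonempty (V k ⟶ EV))
    (hs : ∀ x : ↥E.obj.left.left, ∃ k, x ∈ Set.range (v k).hom.left.left)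
    {x : SectM M E} (hx : ∀ k, resM M (v k) x ∈ glueQ N NV (V k)) : x ∈ glueQ N NV E := by
  haveI := hV
  refine ⟨fun W hW hWO h => ?_, fun W hW h g => ?_⟩ <;> haveI := hW
  · refine mem_of_forall_resM_mem (fun k => EtOver.pullbackFst h (v k)) (fun k => aff_pullback h (v k))
      (fun p => ?_) _ fun k => ?_
    · obtain ⟨k, y, hy⟩ := hs (h.hom.left.left p)
      obtain ⟨z, hz, -⟩ := exists_pullback_pt h (v k) p y hy.symm
      exact ⟨k, z, hz⟩
    · haveI : Aff (EtOver.pullbackObj h (v k)) := aff_pullback h (v k)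
      rw [← resM_comp, EtOver.pullback_condition, resM_comp, ← N.eq_spanRes _ hW hWO inferInstance,
        ← glueQ_eq_old hb ha inferInstance (hWO.of_hom (EtOver.pullbackFst h (v k)))]
      exact glueQ_res _ (hx k)
  · refine mem_of_forall_resM_mem (fun k => EtOver.pullbackFst h (v k)) (fun k => aff_pullback h (v k))
      (fun p => ?_) _ fun k => ?_
    · obtain ⟨k, y, hy⟩ := hs (h.hom.left.left p)
      obtain ⟨z, hz, -⟩ := exists_pullback_pt h (v k) p y hy.symm
      exact ⟨k, z, hz⟩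
    · haveI : Aff (EtOver.pullbackObj h (v k)) := aff_pullback h (v k)
      rw [← resM_comp, EtOver.pullback_condition, resM_comp, spanRes_comp,
        ← glueQ_eq_new st hb ha inferInstance (EtOver.pullbackFst h (v k) ≫ g)]
      exact glueQ_res _ (hx k)

include st in
/-- The glued family. -/
theorem exists_glue (hb : Below N NV) (ha : Above N NV) (hfg : NV.FG) :
    ∃ N' : SubFam M O', (∀ (E : EtOver X) (hE : Aff E) (h : InOp O E), N'.Q E hE (h.mono st.subset) = N.Q E hE h) ∧
      N'.Q EV st.aff (st.inOp (𝟙 EV)) = NV := by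
  have hcov : ∀ {E : EtOver X} (hE : Aff E) (h : InOp O' E), ∃ (n : ℕ) (V : Fin n → EtOver X) (v : ∀ k, V k ⟶ E),
      (∀ k, Aff (V k)) ∧ (∀ k, InOp O (V k) ∨ Nonempty (V k ⟶ EV)) ∧
        (∀ x : ↥E.obj.left.left, ∃ k, x ∈ Set.range (v k).hom.left.left) ∧
        ∀ k, glueQ N NV (V k) = spanRes M (v k) (glueQ N NV E : Set (SectM M E)) := fun {E} hE h => by
    haveI := hE
    obtain ⟨n, V, v, hV, hc, hs⟩ := exists_class_cover st h
    refine ⟨n, V, v, hV, hc, hs, fun k => le_antisymm ?_ (Submodule.span_le.2 (by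
      rintro _ ⟨x, hx, rfl⟩; exact glueQ_res (v k) hx))⟩
    haveI := hV
    refine (le_spanRes_descended v hV (fun l => glueQ N NV (V l)) (fun k l x hx => ?_) k).trans
      (spanRes_mono (v k) fun x hx => mem_glueQ_of_cover st hb ha v hV hc hs hx)
    haveI : Aff (EtOver.pullbackObj (v k) (v l)) := aff_pullback (v k) (v l)
    rw [← glueQ_class st hb ha (EtOver.pullbackSnd (v k) (v l)) (hV l) inferInstance (hc l)]
    exact glueQ_res _ hx
  refine ⟨{ Q := fun E _ _ => glueQ N NV E
            res := fun g _ _ _ x hx => glueQ_res g hx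
            span := fun {E' E} g hE h hE' => ?_
            fg := fun E hE h => ?_ }, fun E hE h => glueQ_eq_old hb ha hE h, ?_⟩
  · haveI := hE
    haveI := hE'
    intro x hx
    obtain ⟨n, V, v, hV, hc, hs, heq⟩ := hcov hE h
    haveI := hV
    refine mem_of_forall_resM_mem (fun k => EtOver.pullbackFst g (v k)) (fun k => aff_pullback g (v k))
      (fun p => ?_) _ fun k => ?_
    · obtain ⟨k, y, hy⟩ := hs (g.hom.left.left p)
      obtain ⟨z, hz, -⟩ := exists_pullback_pt g (v k) p y hy.symm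
      exact ⟨k, z, hz⟩
    · haveI : Aff (EtOver.pullbackObj g (v k)) := aff_pullback g (v k)
      rw [spanRes_comp, EtOver.pullback_condition, ← spanRes_comp, ← heq k,
        ← glueQ_class st hb ha (EtOver.pullbackSnd g (v k)) (hV k) inferInstance (hc k)]
      exact glueQ_res _ hx
  · haveI := hE
    obtain ⟨n, V, v, hV, hc, hs, heq⟩ := hcov hE h
    exact fg_of_cover v hV hs _ fun k => heq k ▸ glueQ_fg_class st hb ha hfg (hV k) (hc k)
  · show glueQ N NV EV = NV
    rw [glueQ_eq_new st hb ha st.aff (𝟙 EV), spanRes_id, Submodule.span_eq]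

end Step

end Groth.Agent.SpQC86
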