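import Groth.Agent.SpQC86.SubFamExtend
import Groth.Agent.SpQC86.Criterion

/-!
Submodules of finite type on quasi-compact quasi-separated spaces.
-/

set_option autoImplicit false
set_option linter.style.haveILetI false
set_option backward.isDefEq.respectTransparency false

universe u

open CategoryTheory CategoryTheory.Limits AlgebraicGeometry Opposite
open AlgSp Groth.Agent.SpQC61 Groth.Agent.SpProper61

namespace Groth.Agent.SpQC86

variable {S : Scheme.{u}}

theorem subsingleton_sect_of_inOp_empty {X : Sp S} (M : ModEt X) {E : EtOver X} (h : InOp (∅ : Set (Points X)) E) :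
    Subsingleton (SectM M E) :=
  ⟨fun x y => resM_eq_of_cover M (ι := Empty) (V := fun k => k.elim) (fun k => k.elim) (fun v => (h v).elim)
    (fun k => k.elim)⟩

/-- Finitely many affine pieces cover the part of an object over a quasi-compact open set. -/
theorem exists_O_pieces {X : Sp S} {O O' : Set (Points X)} {EV : EtOver X} (st : EtStep O O' EV) :
    ∃ (n : ℕ) (D : Fin n → EtOver X) (d : ∀ k, D k ⟶ EV), (∀ k, Aff (D k)) ∧ (∀ k, InOp O (D k)) ∧
      ∀ p : ↥EV.obj.left.left, Points.ofPt EV.obj.hom p ∈ O → ∃ k, p ∈ Set.range (d k).hom.left.left := by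
  haveI := st.aff
  obtain ⟨s, hsf, hs⟩ := isCompact_and_isOpen_iff_finite_and_eq_biUnion_basicOpen.1
    ⟨st.compact, st.isOpen.preimage (Points.continuous_ofPt EV.obj.hom)⟩
  haveI : Finite ↥s := hsf.to_subtype
  obtain ⟨m, ⟨e⟩⟩ := Finite.exists_equiv_fin ↥s
  refine ⟨m, fun k => dObj (e.symm k).1, fun k => dι (e.symm k).1, fun k => aff_dObj _, fun k v => ?_, fun p hp => ?_⟩
  · rw [← ofPt_hom (dι (e.symm k).1) v]
    exact hs.ge (Set.mem_biUnion (e.symm k).2 v.2)
  · obtain ⟨a, ha, hp'⟩ := Set.mem_iUnion₂.1 (hs.le hp)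
    refine ⟨e ⟨a, ha⟩, ?_⟩
    have h : ∀ b : ↥s, b = ⟨a, ha⟩ → p ∈ Set.range (dι b.1).hom.left.left := by
      rintro _ rfl
      exact ⟨⟨p, hp'⟩, rfl⟩
    exact h _ (e.symm_apply_apply _)

variable {X : Space S} [QuasiSeparatedSpace ↥S] (hqc : IsQuasiCompactSp X.obj) (hqs : IsQuasiSeparatedSp X.obj)
  (M : ModEt X.obj) [M.IsQuasicoherent]

include hqc hqs in
/-- Extension of a submodule of finite type from a quasi-compact open set. -/
theorem exists_subFam_extend {O : Set (Points X.obj)} (hO : IsOpen O) (hOc : IsCompact O) (N : SubFam M O) :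
    ∃ N' : SubFam M Set.univ, ∀ (E : EtOver X.obj) (hE : Aff E) (h : InOp O E),
      N'.Q E hE (inOp_univ E) = N.Q E hE h := by
  obtain ⟨-, N', h⟩ := climb X hqc hqs (fun O₁ => O ⊆ O₁ ∧ ∃ N' : SubFam M O₁,
      ∀ (E : EtOver X.obj) (hE : Aff E) (h : InOp O E) (h' : InOp O₁ E), N'.Q E hE h' = N.Q E hE h)
    hO hOc ⟨subset_rfl, N, fun _ _ _ _ => rfl⟩ (fun O₁ O₂ T g hsub st hΦ => by
      obtain ⟨-, N₁, h₁⟩ := hΦ
      obtain ⟨N₂, h₂, -⟩ := exists_step (etStep_of_affStep hqs st) N₁ ∅ Set.finite_empty (fun x hx => hx.elim)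
      exact ⟨hsub.trans (etStep_of_affStep hqs st).subset, N₂,
        fun E hE h h' => (h₂ E hE (h.mono hsub)).trans (h₁ E hE h (h.mono hsub))⟩)
  exact ⟨N', fun E hE hO' => h E hE hO' (inOp_univ E)⟩

/-- Any finitely many sections over objects in the open set lie in a submodule of finite type. -/
def Contains (O : Set (Points X.obj)) : Prop :=
  ∀ (ι : Type) (_ : Finite ι) (E : ι → EtOver X.obj) (hE : ∀ i, Aff (E i)) (hI : ∀ i, InOp O (E i))
    (x : ∀ i, SectM M (E i)), ∃ N : SubFam M O, ∀ i, x i ∈ N.Q (E i) (hE i) (hI i)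

omit [QuasiSeparatedSpace ↥S] in
theorem contains_step {O O' : Set (Points X.obj)} {EV : EtOver X.obj} (st : EtStep O O' EV) (hΦ : Contains M O) :
    Contains M O' := by
  intro ι hι E hE hI x
  haveI := st.aff
  have hcov : ∀ i, ∃ (n : ℕ) (V : Fin n → EtOver X.obj) (v : ∀ k, V k ⟶ E i), (∀ k, Aff (V k)) ∧
      (∀ k, InOp O (V k) ∨ Nonempty (V k ⟶ EV)) ∧
      ∀ p : ↥(E i).obj.left.left, ∃ k, p ∈ Set.range (v k).hom.left.left := fun i =>
    haveI := hE i; exists_class_cover st (hI i)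
  choose n V v hV hc hs using hcov
  have hT : ∀ (p : Σ i, Fin (n i)), ∃ T : Set (SectM M EV), T.Finite ∧
      ∀ g : V p.1 p.2 ⟶ EV, ¬InOp O (V p.1 p.2) → ∃ g' : V p.1 p.2 ⟶ EV,
        resM M (v p.1 p.2) (x p.1) ∈ spanRes M g' T := fun p => by
    haveI := hV p.1 p.2
    by_cases hp : InOp O (V p.1 p.2)
    · exact ⟨∅, Set.finite_empty, fun _ h => absurd hp h⟩
    · obtain ⟨g⟩ := (hc p.1 p.2).resolve_left hp
      obtain ⟨T, hTf, hT⟩ := exists_finset_span g (resM M (v p.1 p.2) (x p.1))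
      exact ⟨T, hTf, fun _ _ => ⟨g, hT⟩⟩
  choose T hTf hTs using hT
  let T₀ : Set (SectM M EV) := ⋃ p, T p
  have hT₀ : T₀.Finite := Set.finite_iUnion hTf
  haveI : Finite ↥T₀ := hT₀.to_subtype
  haveI : ∀ i, Finite (Fin (n i)) := fun i => inferInstance
  obtain ⟨m, D, d, hD, hDO, hDs⟩ := exists_O_pieces st
  obtain ⟨ιT, ⟨eT⟩⟩ := Finite.exists_equiv_fin ↥T₀
  let J : Type := {p : Σ i, Fin (n i) // InOp O (V p.1 p.2)} ⊕ (Fin ιT × Fin m)
  obtain ⟨N, hN⟩ := hΦ J inferInstance
    (Sum.elim (fun p => V p.1.1 p.1.2) fun q => D q.2)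
    (by rintro (p | q); exacts [hV _ _, hD _])
    (by rintro (p | q); exacts [p.2, hDO _])
    (fun j => match j with
      | .inl p => resM M (v p.1.1 p.1.2) (x p.1.1)
      | .inr q => resM M (d q.2) (eT.symm q.1).1)
  obtain ⟨N', hold, hnew⟩ := exists_step st N T₀ hT₀ fun y hy E₁ hE₁ h₁ g => by
    haveI := hE₁
    haveI := hD
    refine mem_of_forall_resM_mem (fun k => EtOver.pullbackFst g (d k)) (fun k => aff_pullback g (d k))
      (fun p => ?_) _ fun k => ?_
    · obtain ⟨k, z, hz⟩ := hDs (g.hom.left.left p) (ofPt_hom g p ▸ h₁ p)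
      obtain ⟨w, hw, -⟩ := exists_pullback_pt g (d k) p z hz.symm
      exact ⟨k, w, hw⟩
    · haveI : Aff (EtOver.pullbackObj g (d k)) := aff_pullback g (d k)
      rw [← resM_comp, EtOver.pullback_condition, resM_comp, ← N.eq_spanRes _ hE₁ h₁ inferInstance]
      refine N.res _ (hD k) (hDO k) inferInstance _ ?_
      have := hN (.inr (eT ⟨y, hy⟩, k))
      simpa using this
  refine ⟨N', fun i => ?_⟩
  haveI := hE i
  refine mem_of_forall_resM_mem (v i) (hV i) (hs i) _ fun k => ?_
  rw [← N'.eq_spanRes (v i k) (hE i) (hI i) (hV i k)]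
  by_cases hk : InOp O (V i k)
  · exact (hold _ (hV i k) hk).symm ▸ hN (.inl ⟨⟨i, k⟩, hk⟩)
  · obtain ⟨g₀⟩ := (hc i k).resolve_left hk
    obtain ⟨g, hg⟩ := hTs ⟨i, k⟩ g₀ hk
    exact Submodule.span_le.2 (by
      rintro _ ⟨y, hy, rfl⟩
      exact N'.res g st.aff (st.inOp (𝟙 EV)) (hV i k) y (hnew (Set.mem_iUnion.2 ⟨_, hy⟩))) hg

include hqc hqs in
/-- Any finitely many sections lie in a submodule of finite type. -/
theorem exists_subFam_containing {ι : Type} [Finite ι] (E : ι → EtOver X.obj) (hE : ∀ i, Aff (E i))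
    (x : ∀ i, SectM M (E i)) : ∃ N : SubFam M Set.univ, ∀ i, x i ∈ N.Q (E i) (hE i) (inOp_univ _) := by
  refine climb X hqc hqs (fun O => Contains M O) isOpen_empty isCompact_empty ?_
    (fun O₁ O₂ T g _ st hΦ => contains_step M (etStep_of_affStep hqs st) hΦ) ι ‹_› E hE (fun i => inOp_univ _) x
  intro ι _ E hE hI x
  exact ⟨{ Q := fun _ _ _ => ⊤
           res := fun _ _ _ _ _ _ => trivial
           span := fun {E' E} g hE h hE' y _ => by
             haveI := subsingleton_sect_of_inOp_empty M (h.of_hom g)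
             rw [Subsingleton.elim y 0]; exact Submodule.zero_mem _
           fg := fun E hE h => by
             haveI := subsingleton_sect_of_inOp_empty M h
             exact Submodule.fg_def.2 ⟨∅, Set.finite_empty, Subsingleton.elim _ _⟩ }, fun _ => trivial⟩

omit [QuasiSeparatedSpace ↥S] [M.IsQuasicoherent] in
/-- A module whose sections over affine objects are finite is of finite type. -/
theorem isFiniteType_of_finite [M.IsQuasicoherent]
    (h : ∀ E : EtOver X.obj, Aff E → (⊤ : Submodule (Γt E) (SectM M E)).FG) : M.IsFiniteType := by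
  let I := {W : EtOver X.obj // Aff W}
  have hcov : (etTop X.obj).CoversTop (fun W : I => W.1) := fun W => by
    refine SpPts86.mem_etTop_of_forall _ fun v => ?_
    obtain ⟨U, hU, hvU, -⟩ := exists_isAffineOpen_mem_and_subset (x := v) (U := (⊤ : W.obj.left.left.Opens)) trivial
    exact ⟨openObj W U, openObjι W U, ⟨⟨openObj W U, hU⟩, ⟨𝟙 _⟩⟩, ⟨⟨v, hvU⟩, rfl⟩⟩
  choose G hGf hGs using fun W : I => Submodule.fg_def.1 (h W.1 W.2)
  let s : ∀ W : I, ↥(G W) → (M.over W.1).sections := fun W y => genS W.1 M y.1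
  have hgen : ∀ W : I, Epi ((M.over W.1).freeHomEquiv.symm (s W)) := fun W => by
    haveI := W.2
    refine epi_of_span_affine (s W) fun o ho x => ?_
    haveI := ho
    obtain ⟨T, -, hT⟩ := exists_finset_span o.hom (x : SectM M o.left)
    refine (Submodule.span_le.2 ?_) hT
    rintro _ ⟨y, -, rfl⟩
    have hy : y ∈ Submodule.span (Γt W.1) (G W) := (hGs W).symm ▸ trivial
    induction hy using Submodule.span_induction with
    | mem z hz => exact Submodule.subset_span ⟨⟨z, hz⟩, rfl⟩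
    | zero => rw [map_zero]; exact Submodule.zero_mem _
    | add a b _ _ ha hb => rw [map_add]; exact Submodule.add_mem _ ha hb
    | smul r a _ ha => rw [resM_smul]; exact Submodule.smul_mem _ _ ha
  let q : SheafOfModules.LocalGeneratorsData.{u + 1} M :=
    { I := I, X := fun W => W.1, coversTop := hcov,
      generators := fun W => { I := ↥(G W), s := s W, epi := hgen W } }
  haveI hq : q.IsFiniteType :=
    SheafOfModules.LocalGeneratorsData.IsFiniteType.mk (p := q) (fun W => SheafOfModules.GeneratingSections.IsFiniteType.mk (σ := q.generators W) ((hGf W).to_subtype))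
  exact SheafOfModules.IsFiniteType.mk (M := M) ⟨q, hq⟩

omit [QuasiSeparatedSpace ↥S] in
/-- The sheaf of a family on the whole space. -/
theorem exists_sheaf_of_subFam (N : SubFam M Set.univ) :
    ∃ (G : ModEt X.obj) (ι : G ⟶ M), Mono ι ∧ G.IsQuasicoherent ∧ G.IsFiniteType ∧
      ∀ (E : EtOver X.obj) (hE : Aff E), LinearMap.range (appM ι E) = N.Q E hE (inOp_univ E) := by
  let Q : ∀ E : EtOver X.obj, Aff E → Submodule (Γt E) (SectM M E) := fun E hE => N.Q E hE (inOp_univ E)
  have hres : ∀ {E' E : EtOver X.obj} (g : E' ⟶ E) (hE : Aff E) (hE' : Aff E'),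
      ∀ x ∈ Q E hE, resM M g x ∈ Q E' hE' := fun g hE hE' => N.res g hE (inOp_univ _) hE'
  have hspan : ∀ {E' E : EtOver X.obj} (g : E' ⟶ E) (hE : Aff E) (hE' : Aff E'),
      Q E' hE' ≤ Submodule.span (Γt E') (resM M g '' Q E hE) := fun g hE hE' => N.span g hE (inOp_univ _) hE'
  haveI hqc' := isQuasicoherent_subM M Q hres hspan
  have hr := range_subι M Q hres hspan
  refine ⟨_, subι M Q hspan, inferInstance, hqc', isFiniteType_of_finite (subM M Q hspan) fun E hE => ?_, hr⟩
  refine Submodule.fg_of_fg_map_injective (appM (subι M Q hspan) E) (appM_injective _ E) ?_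
  rw [Submodule.map_top, hr E hE]
  exact N.fg E hE (inOp_univ E)

end Groth.Agent.SpQC86
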