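import Groth.Agent.SpQC86.SubFam
import Mathlib.RingTheory.Localization.BaseChange

/-!
Extension of submodules of finite type to quasi-compact quasi-separated spaces.
-/

set_option autoImplicit false
set_option linter.style.haveILetI false
set_option backward.isDefEq.respectTransparency false

universe u

open CategoryTheory CategoryTheory.Limits AlgebraicGeometry Opposite
open AlgSp Groth.Agent.SpQC61 Groth.Agent.SpProper61
open scoped TensorProduct

namespace Groth.Agent.SpQC86

variable {S : Scheme.{u}} {X : Sp S}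

theorem isLocalization_basic (EV : EtOver X) [Aff EV] (a : Γt EV) :
    letI := (cmap (openObjι EV (EV.obj.left.left.basicOpen a))).toAlgebra
    IsLocalization.Away a (Γt (openObj EV (EV.obj.left.left.basicOpen a))) := by
  letI := (cmap (openObjι EV (EV.obj.left.left.basicOpen a))).toAlgebra
  exact AlgebraicGeometry.Γ_restrict_isLocalization EV.obj.left.left a

variable {M : ModEt X} [M.IsQuasicoherent]

section Basic

variable {EV : EtOver X} [Aff EV] (a : Γt EV)

/-- The piece where a function is invertible. -/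
noncomputable abbrev dObj : EtOver X := openObj EV (EV.obj.left.left.basicOpen a)

/-- Its inclusion. -/
noncomputable abbrev dι : dObj a ⟶ EV := openObjι EV (EV.obj.left.left.basicOpen a)

theorem aff_dObj : Aff (dObj a) :=
  (isAffineOpen_top EV.obj.left.left).basicOpen a

theorem isUnit_cmap_dι : IsUnit (cmap (dι a) a) := by
  letI := (cmap (dι a)).toAlgebra
  haveI := isLocalization_basic EV a
  exact IsLocalization.Away.algebraMap_isUnit (S := Γt (dObj a)) a

theorem exists_clear (w : SectM M (dObj a)) :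
    ∃ (n : ℕ) (m : SectM M EV), cmap (dι a) a ^ n • w = resM M (dι a) m := by
  haveI := aff_dObj a
  letI := (cmap (dι a)).toAlgebra
  haveI := isLocalization_basic EV a
  obtain ⟨z, rfl⟩ := (bcM_bijective M (dι a)).2 w
  induction z using TensorProduct.induction_on with
  | zero => exact ⟨0, 0, by rw [show bcM M (dι a) 0 = 0 from map_zero _, smul_zero, map_zero]⟩
  | tmul b m =>
    obtain ⟨n, c, hc⟩ := IsLocalization.Away.surj a b
    refine ⟨n, c • m, ?_⟩
    rw [resM_smul]
    show cmap (dι a) a ^ n • (b • resM M (dι a) m) = _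
    rw [← mul_smul, mul_comm]
    exact congrArg (· • resM M (dι a) m) hc
  | add p q hp hq =>
    obtain ⟨np, mp, hp⟩ := hp
    obtain ⟨nq, mq, hq⟩ := hq
    refine ⟨np + nq, a ^ nq • mp + a ^ np • mq, ?_⟩
    rw [map_add (resM M (dι a)), resM_smul, resM_smul, map_pow, map_pow, ← hp, ← hq,
      show bcM M (dι a) (p + q) = bcM M (dι a) p + bcM M (dι a) q from map_add _ _ _, smul_add, ← mul_smul, ← mul_smul,
      ← pow_add, ← pow_add, add_comm nq np]

theorem exists_pow_smul_mem {E₂ : EtOver X} (g₂ : E₂ ⟶ EV) [Aff E₂] (N : Submodule (Γt E₂) (SectM M E₂))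
    (x : SectM M E₂) (h : resM M (EtOver.pullbackSnd (dι a) g₂) x ∈
      spanRes M (EtOver.pullbackSnd (dι a) g₂) (N : Set (SectM M E₂))) :
    ∃ r : ℕ, cmap g₂ a ^ r • x ∈ N := by
  haveI := aff_dObj a
  letI := (cmap (dι a)).toAlgebra
  haveI := isLocalization_basic EV a
  letI := Module.compHom (SectM M E₂) (cmap g₂)
  let N' : Submodule (Γt EV) (SectM M E₂) :=
    { carrier := (N : Set (SectM M E₂))
      add_mem' := fun ha hb => Submodule.add_mem _ ha hb
      zero_mem' := Submodule.zero_mem _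
      smul_mem' := fun c _ hx => Submodule.smul_mem _ (cmap g₂ c) hx }
  obtain ⟨w, hw⟩ := exists_tmul_of_mem_spanRes_snd (dι a) g₂ N h N' fun _ => Iff.rfl
  have h1 : N'.subtype.lTensor (Γt (dObj a)) w = (1 : Γt (dObj a)) ⊗ₜ[Γt EV] x :=
    (phiM_bijective M (dι a) g₂ (goodM_of_isQuasicoherent M E₂)).1 (hw.trans (by
      show _ = cmap (EtOver.pullbackFst (dι a) g₂) 1 • resM M (EtOver.pullbackSnd (dι a) g₂) x
      rw [map_one, one_smul]))
  have h2 : TensorProduct.mk (Γt EV) (Γt (dObj a)) (SectM M E₂ ⧸ N') 1 (N'.mkQ x) = 0 := by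
    have := congrArg (N'.mkQ.lTensor (Γt (dObj a))) h1
    rw [LinearMap.lTensor_tmul, ← LinearMap.comp_apply, ← LinearMap.lTensor_comp,
      show N'.mkQ ∘ₗ N'.subtype = 0 from LinearMap.ext fun b => (Submodule.Quotient.mk_eq_zero _).2 b.2,
      LinearMap.lTensor_zero, LinearMap.zero_apply] at this
    exact this.symm
  obtain ⟨⟨_, r, rfl⟩, hr⟩ := (IsLocalizedModule.eq_zero_iff (Submonoid.powers a) _).1 h2
  refine ⟨r, ?_⟩
  have h3 : a ^ r • x ∈ N' := (Submodule.Quotient.mk_eq_zero N').1 hr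
  rw [← map_pow]
  exact h3

end Basic

variable {O O' : Set (Points X)} {EV : EtOver X}

/-- A finitely generated module on the new affine object extending the old family and containing given sections. -/
theorem exists_extending (st : EtStep O O' EV) (N : SubFam M O) (T : Set (SectM M EV)) (hT : T.Finite)
    (hTb : ∀ x ∈ T, ∀ (E : EtOver X) (hE : Aff E) (h : InOp O E) (g : E ⟶ EV), resM M g x ∈ N.Q E hE h) :
    ∃ NV : Submodule (Γt EV) (SectM M EV), NV.FG ∧ T ⊆ NV ∧ Below N NV ∧ Above N NV := by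
  classical
  haveI := st.aff
  obtain ⟨s, hsf, hs⟩ := isCompact_and_isOpen_iff_finite_and_eq_biUnion_basicOpen.1
    ⟨st.compact, st.isOpen.preimage (Points.continuous_ofPt EV.obj.hom)⟩
  haveI : Finite ↥s := hsf.to_subtype
  have hD : ∀ a : s, InOp O (dObj a.1) := fun a v => by
    rw [← ofPt_hom (dι a.1) v]
    exact hs.ge (Set.mem_biUnion a.2 v.2)
  have hcov : ∀ (E : EtOver X) (g : E ⟶ EV), InOp O E → ∀ p : ↥E.obj.left.left,
      ∃ a : s, ∃ z : ↥(EtOver.pullbackObj g (dι a.1)).obj.left.left,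
        (EtOver.pullbackFst g (dι a.1)).hom.left.left z = p := fun E g h p => by
    obtain ⟨a, ha, hp⟩ := Set.mem_iUnion₂.1 (hs.le (show Points.ofPt EV.obj.hom (g.hom.left.left p) ∈ O from
      ofPt_hom g p ▸ h p))
    obtain ⟨z, hz, -⟩ := exists_pullback_pt g (dι a) p ⟨g.hom.left.left p, hp⟩ rfl
    exact ⟨⟨a, ha⟩, z, hz⟩
  have hcover : ∀ (E : EtOver X) (g : E ⟶ EV), InOp O E → ∀ (_ : Aff E) (P : Submodule (Γt E) (SectM M E))
      (x : SectM M E), (∀ a : s, resM M (EtOver.pullbackFst g (dι a.1)) x ∈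
        spanRes M (EtOver.pullbackFst g (dι a.1)) (P : Set (SectM M E))) → x ∈ P := fun E g h hE P x hx => by
    haveI := hE
    obtain ⟨m, ⟨e⟩⟩ := Finite.exists_equiv_fin ↥s
    refine mem_of_forall_resM_mem (fun k => EtOver.pullbackFst g (dι (e.symm k).1))
      (fun k => haveI := aff_dObj (e.symm k).1; aff_pullback g (dι (e.symm k).1)) (fun p => ?_) P fun k => hx _
    obtain ⟨a, z, hz⟩ := hcov E g h p
    refine ⟨e a, ?_⟩
    rw [e.symm_apply_apply]
    exact ⟨z, hz⟩
  choose G hGf hGs using fun a : s => Submodule.fg_def.1 (N.fg (dObj a.1) (aff_dObj a.1) (hD a))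
  have key : ∀ (a : s) (z : G a), ∃ (n : ℕ) (m : SectM M EV), cmap (dι a.1) a.1 ^ n • z.1 = resM M (dι a.1) m ∧
      ∀ l : s, resM M (dι l.1) m ∈ N.Q (dObj l.1) (aff_dObj l.1) (hD l) := fun a z => by
    obtain ⟨n, m, hm⟩ := exists_clear a.1 z.1
    have hz : resM M (dι a.1) m ∈ N.Q (dObj a.1) (aff_dObj a.1) (hD a) :=
      hm ▸ Submodule.smul_mem _ _ ((hGs a).le (Submodule.subset_span z.2))
    have hr : ∀ l : s, ∃ r, cmap (dι l.1) a.1 ^ r • resM M (dι l.1) m ∈ N.Q (dObj l.1) (aff_dObj l.1) (hD l) :=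
      fun l => by
        haveI := aff_dObj a.1
        haveI := aff_dObj l.1
        haveI : Aff (EtOver.pullbackObj (dι a.1) (dι l.1)) := aff_pullback _ _
        refine exists_pow_smul_mem a.1 (dι l.1) _ _ ?_
        rw [← resM_comp, ← EtOver.pullback_condition, resM_comp, ← N.eq_spanRes _ (aff_dObj l.1) (hD l) inferInstance]
        exact N.res _ (aff_dObj a.1) (hD a) inferInstance _ hz
    choose r hr using hr
    obtain ⟨R, hR⟩ := Finite.bddAbove_range r
    refine ⟨R + n, a.1 ^ R • m, ?_, fun l => ?_⟩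
    · rw [resM_smul, map_pow, ← hm, ← mul_smul, ← pow_add]
    · rw [resM_smul, map_pow, ← Nat.sub_add_cancel (hR ⟨l, rfl⟩), pow_add, mul_smul]
      exact Submodule.smul_mem _ _ (hr l)
  choose n m hm hmN using key
  haveI : ∀ a, Finite ↥(G a) := fun a => (hGf a).to_subtype
  let GV : Set (SectM M EV) := T ∪ Set.range fun p : Σ a : s, G a => m p.1 p.2
  refine ⟨Submodule.span (Γt EV) GV, Submodule.fg_def.2 ⟨GV, hT.union (Set.finite_range _), rfl⟩,
    fun x hx => Submodule.subset_span (Or.inl hx), fun x hx E hE h g => ?_, fun E hE h g x hx => ?_⟩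
  · induction hx using Submodule.span_induction with
    | mem x hx =>
      rcases hx with hx | ⟨p, rfl⟩
      · exact hTb x hx E hE h g
      · refine hcover E g h hE _ _ fun a => ?_
        haveI := hE
        haveI := aff_dObj a.1
        haveI : Aff (EtOver.pullbackObj g (dι a.1)) := aff_pullback _ _
        rw [← resM_comp, EtOver.pullback_condition, resM_comp, ← N.eq_spanRes _ hE h inferInstance]
        exact N.res _ (aff_dObj a.1) (hD a) inferInstance _ (hmN p.1 p.2 a)
    | zero => rw [map_zero]; exact Submodule.zero_mem _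
    | add p q _ _ hp hq => rw [map_add]; exact Submodule.add_mem _ hp hq
    | smul c p _ hp => rw [resM_smul]; exact Submodule.smul_mem _ _ hp
  · refine hcover E g h hE _ _ fun a => ?_
    haveI := hE
    haveI := aff_dObj a.1
    haveI : Aff (EtOver.pullbackObj g (dι a.1)) := aff_pullback _ _
    rw [spanRes_comp, EtOver.pullback_condition, ← spanRes_comp]
    have hle : N.Q (dObj a.1) (aff_dObj a.1) (hD a) ≤ spanRes M (dι a.1) (Submodule.span (Γt EV) GV : Set (SectM M EV)) := by
      rw [← hGs a, Submodule.span_le]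
      intro z hz
      obtain ⟨u, hu⟩ := (isUnit_cmap_dι a.1).pow (n a ⟨z, hz⟩)
      have h2 : z = (↑u⁻¹ : Γt (dObj a.1)) • resM M (dι a.1) (m a ⟨z, hz⟩) := by
        rw [← hm a ⟨z, hz⟩, ← hu, ← mul_smul, Units.inv_mul, one_smul]
      rw [h2]
      exact Submodule.smul_mem _ _ (resM_mem_spanRes _ (Submodule.subset_span (Or.inr ⟨⟨a, ⟨z, hz⟩⟩, rfl⟩)))
    refine spanRes_mono _ (show (N.Q (dObj a.1) (aff_dObj a.1) (hD a) : Set _) ⊆ _ from hle) ?_
    rw [← N.eq_spanRes _ (aff_dObj a.1) (hD a) inferInstance]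
    exact N.res _ hE h inferInstance x hx

/-- One step of the extension. -/
theorem exists_step (st : EtStep O O' EV) (N : SubFam M O) (T : Set (SectM M EV)) (hT : T.Finite)
    (hTb : ∀ x ∈ T, ∀ (E : EtOver X) (hE : Aff E) (h : InOp O E) (g : E ⟶ EV), resM M g x ∈ N.Q E hE h) :
    ∃ N' : SubFam M O', (∀ (E : EtOver X) (hE : Aff E) (h : InOp O E), N'.Q E hE (h.mono st.subset) = N.Q E hE h) ∧
      T ⊆ N'.Q EV st.aff (st.inOp (𝟙 EV)) := by
  obtain ⟨NV, hfg, hsub, hb, ha⟩ := exists_extending st N T hT hTb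
  obtain ⟨N', h1, h2⟩ := exists_glue st hb ha hfg
  exact ⟨N', h1, h2.symm ▸ hsub⟩

end Groth.Agent.SpQC86
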