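import Groth.Agent.SpQC86.DescentSub
import Groth.Agent.SpProper61.AffineSteps

/-!
Objects of the small etale site lying in an open set of points, and elementary steps.
-/

set_option autoImplicit false
set_option linter.style.haveILetI false
set_option backward.isDefEq.respectTransparency false

universe u

open CategoryTheory CategoryTheory.Limits AlgebraicGeometry Opposite
open AlgSp Groth.Agent.SpQC61 Groth.Agent.SpProper61

namespace Groth.Agent.SpQC86

variable {S : Scheme.{u}} {X : Sp S}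

/-- All points of the object lie in the set. -/
def InOp (O : Set (Points X)) (E : EtOver X) : Prop := ∀ v : ↥E.obj.left.left, Points.ofPt E.obj.hom v ∈ O

theorem ofPt_hom {E' E : EtOver X} (g : E' ⟶ E) (v : ↥E'.obj.left.left) :
    Points.ofPt E.obj.hom (g.hom.left.left v) = Points.ofPt E'.obj.hom v := by
  rw [← SpPts86.ofPt_comp, show (yon S).map g.hom.left ≫ E.obj.hom = E'.obj.hom from CostructuredArrow.w g.hom]

theorem InOp.of_hom {O : Set (Points X)} {E' E : EtOver X} (h : InOp O E) (g : E' ⟶ E) : InOp O E' :=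
  fun v => ofPt_hom g v ▸ h (g.hom.left.left v)

theorem InOp.mono {O O' : Set (Points X)} {E : EtOver X} (h : InOp O E) (hO : O ⊆ O') : InOp O' E :=
  fun v => hO (h v)

theorem inOp_univ (E : EtOver X) : InOp Set.univ E := fun _ => trivial

/-- Around a point over the open set there is a piece inside it. -/
theorem exists_inOp_nhd {O : Set (Points X)} (hO : IsOpen O) (E : EtOver X) (v : ↥E.obj.left.left)
    (hv : Points.ofPt E.obj.hom v ∈ O) :
    ∃ (W : EtOver X) (j : W ⟶ E), InOp O W ∧ v ∈ Set.range j.hom.left.left := by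
  refine ⟨openObj E ⟨_, hO.preimage (Points.continuous_ofPt E.obj.hom)⟩, openObjι E _, fun w => ?_, ⟨⟨v, hv⟩, rfl⟩⟩
  rw [← ofPt_hom (openObjι E _) w]
  exact w.2

/-- Around a point over the image of an object there is a piece mapping to it. -/
theorem exists_over_nhd (E EV : EtOver X) (v : ↥E.obj.left.left)
    (hv : Points.ofPt E.obj.hom v ∈ Set.range (Points.ofPt EV.obj.hom)) :
    ∃ (W : EtOver X) (j : W ⟶ E) (_ : W ⟶ EV), v ∈ Set.range j.hom.left.left := by
  obtain ⟨w, hw⟩ := hv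
  obtain ⟨z, -, hz⟩ := SpPts86.exists_pt_of_isPullback (EV.property.1.isPullback E.obj.hom)
    (Points.ofScheme EV.obj.left w) v (by rw [← Points.ofPt_eq_map_ofScheme]; exact hw)
  exact ⟨EtOver.prodObj E EV, EtOver.prodFst E EV, EtOver.prodSnd E EV, z, hz⟩

/-- An affine object enlarging an open set, one-to-one outside it. -/
structure EtStep (O O' : Set (Points X)) (EV : EtOver X) : Prop where
  isOpen : IsOpen O
  isOpen' : IsOpen O'
  aff : Aff EV
  union : O ∪ Set.range (Points.ofPt EV.obj.hom) = O'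
  compact : IsCompact (Points.ofPt EV.obj.hom ⁻¹' O)
  inj : InjOutside O EV.obj.hom

theorem etStep_of_affStep {Y : Space S} [QuasiSeparatedSpace ↥S] (hqs : IsQuasiSeparatedSp Y.obj)
    {O O' : Set (Points Y.obj)} {T : Over S} {g : (yon S).obj T ⟶ Y.obj} (st : AffStep O O' T g) :
    EtStep O O' (EtOver.mk g st.etale) :=
  haveI := st.affine
  ⟨st.isOpen, st.isOpen', st.affine, st.union, isCompact_preimage_ofPt Y.property hqs g st.isOpen st.isCompact, st.inj⟩

variable {O O' : Set (Points X)} {EV : EtOver X}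

theorem EtStep.subset (st : EtStep O O' EV) : O ⊆ O' := st.union ▸ Set.subset_union_left

theorem EtStep.inOp (st : EtStep O O' EV) {E : EtOver X} (g : E ⟶ EV) : InOp O' E :=
  fun v => st.union ▸ Or.inr ⟨g.hom.left.left v, ofPt_hom g v⟩

/-- Two maps to the new object agree around points outside the old open set. -/
theorem EtStep.exists_equalize (st : EtStep O O' EV) {E : EtOver X} (g₁ g₂ : E ⟶ EV) (v : ↥E.obj.left.left)
    (hv : Points.ofPt E.obj.hom v ∉ O) :
    ∃ (W : EtOver X) (j : W ⟶ E), j ≫ g₁ = j ≫ g₂ ∧ v ∈ Set.range j.hom.left.left := by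
  let Pr := EtOver.prodObj EV EV
  let π₁ : Pr ⟶ EV := EtOver.prodFst EV EV
  let π₂ : Pr ⟶ EV := EtOver.prodSnd EV EV
  have hP := EtOver.prodIsLimit EV EV
  let Δ : EV ⟶ Pr := (BinaryFan.IsLimit.lift' hP (𝟙 EV) (𝟙 EV)).1
  have hΔ₁ : Δ ≫ π₁ = 𝟙 EV := (BinaryFan.IsLimit.lift' hP (𝟙 EV) (𝟙 EV)).2.1
  have hΔ₂ : Δ ≫ π₂ = 𝟙 EV := (BinaryFan.IsLimit.lift' hP (𝟙 EV) (𝟙 EV)).2.2
  let m : E ⟶ Pr := (BinaryFan.IsLimit.lift' hP g₁ g₂).1
  have hm₁ : m ≫ π₁ = g₁ := (BinaryFan.IsLimit.lift' hP g₁ g₂).2.1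
  have hm₂ : m ≫ π₂ = g₂ := (BinaryFan.IsLimit.lift' hP g₁ g₂).2.2
  let j := EtOver.pullbackFst m Δ
  refine ⟨EtOver.pullbackObj m Δ, j, ?_, ?_⟩
  · rw [← hm₁, ← hm₂, ← Category.assoc, ← Category.assoc, EtOver.pullback_condition, Category.assoc,
      Category.assoc, hΔ₁, hΔ₂]
  let k : CommRingCat.{u} := E.obj.left.left.residueField v
  let K := AlgebraicClosure k
  let p : Spec (CommRingCat.of K) ⟶ E.obj.left.left :=
    Spec.map (CommRingCat.ofHom (algebraMap k K)) ≫ E.obj.left.left.fromSpecResidueField v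
  let str : Spec (CommRingCat.of K) ⟶ S := p ≫ E.obj.left.hom
  let P₀ : Over.mk str ⟶ E.obj.left := Over.homMk p rfl
  let t : ↥(Over.mk str).left := (IsLocalRing.closedPoint K : PrimeSpectrum K)
  have ht : P₀.left t = v := E.obj.left.left.fromSpecResidueField_apply v _
  have heq : P₀ ≫ g₁.hom.left = P₀ ≫ g₂.hom.left := st.inj _ _ t
    (by
      rw [Functor.map_comp, Functor.map_comp, Category.assoc, Category.assoc]
      exact congrArg ((yon S).map P₀ ≫ ·) ((CostructuredArrow.w g₁.hom).trans (CostructuredArrow.w g₂.hom).symm))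
    (by
      rw [Functor.map_comp, Category.assoc, SpPts86.ofPt_comp,
        show (yon S).map g₁.hom.left ≫ EV.obj.hom = E.obj.hom from CostructuredArrow.w g₁.hom, ht]
      exact hv)
  have key : P₀ ≫ m.hom.left = (P₀ ≫ g₁.hom.left) ≫ Δ.hom.left := by
    refine Functor.relativelyRepresentable.hom_ext' _ ?_ ?_
    · show (P₀ ≫ m.hom.left) ≫ π₂.hom.left = ((P₀ ≫ g₁.hom.left) ≫ Δ.hom.left) ≫ π₂.hom.left
      rw [Category.assoc, Category.assoc]
      show P₀ ≫ (m ≫ π₂).hom.left = (P₀ ≫ g₁.hom.left) ≫ (Δ ≫ π₂).hom.left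
      rw [hm₂, hΔ₂]
      exact heq.symm.trans (Category.comp_id _).symm
    · show (P₀ ≫ m.hom.left) ≫ π₁.hom.left = ((P₀ ≫ g₁.hom.left) ≫ Δ.hom.left) ≫ π₁.hom.left
      rw [Category.assoc, Category.assoc]
      show P₀ ≫ (m ≫ π₁).hom.left = (P₀ ≫ g₁.hom.left) ≫ (Δ ≫ π₁).hom.left
      rw [hm₁, hΔ₁]
      exact (Category.comp_id _).symm
  obtain ⟨z, hz, -⟩ := exists_pullback_pt m Δ v (g₁.hom.left.left v) (by
    have h := congrArg (fun q => q.left t) key
    rw [← ht]
    exact h)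
  exact ⟨z, hz⟩

end Groth.Agent.SpQC86
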